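import Groth.Prelude.Def_DerComp
import Mathlib.CategoryTheory.Preadditive.Injective.Preserves
import Mathlib.CategoryTheory.Abelian.Exact
import Mathlib.Algebra.Homology.ShortComplex.ExactFunctor
import Mathlib.Algebra.Category.ModuleCat.Presheaf.Pullback
import Mathlib.Algebra.Category.ModuleCat.Sheaf.PullbackContinuous
import Mathlib.Algebra.DirectSum.Module

/-!
# Extension by zero of modules from a localised site is exact

The presheaf level left adjoint of restriction along `Over U ⥤ D` is
`G ↦ (V ↦ ⊕_{φ : V ⟶ U} G(φ))`.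
-/

set_option autoImplicit false
set_option backward.isDefEq.respectTransparency false

universe u

open CategoryTheory CategoryTheory.Limits Opposite DirectSum

namespace Groth.Agent.DerCompLib

variable {D : Type u} [SmallCategory D] (R : Dᵒᵖ ⥤ RingCat.{u}) (U : D)

/-- The restriction of a presheaf of rings to `Over U`. -/
abbrev overRing : (Over U)ᵒᵖ ⥤ RingCat.{u} := (Over.forget U).op ⋙ R

variable {R U} (G : PresheafOfModules.{u} (overRing R U))

/-- The summand at `φ : V ⟶ U`. -/
abbrev summand (V : Dᵒᵖ) (φ : V.unop ⟶ U) : ModuleCat.{u} (R.obj V) := G.obj (op (Over.mk φ))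

open Classical in
/-- `⊕_{φ : V ⟶ U} G(φ)`. -/
noncomputable abbrev sumObj (V : Dᵒᵖ) : ModuleCat.{u} (R.obj V) :=
  ModuleCat.of _ (⨁ φ : V.unop ⟶ U, (summand G V φ))

open Classical in
/-- The inclusion of a summand. -/
noncomputable def sumIncl (V : Dᵒᵖ) (φ : V.unop ⟶ U) : summand G V φ ⟶ sumObj G V :=
  ModuleCat.ofHom (DirectSum.lof (R.obj V) (V.unop ⟶ U) (fun φ => summand G V φ) φ)

/-- The transition map on one summand. -/
noncomputable abbrev sumStep {V W : Dᵒᵖ} (g : V ⟶ W) (φ : V.unop ⟶ U) :
    summand G V φ ⟶ (ModuleCat.restrictScalars (R.map g).hom).obj (summand G W (g.unop ≫ φ)) :=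
  G.map (Over.homMk (U := Over.mk (g.unop ≫ φ)) (V := Over.mk φ) g.unop).op

open Classical in
/-- The transition maps of `⊕_φ G(φ)`. -/
noncomputable def sumMap {V W : Dᵒᵖ} (g : V ⟶ W) :
    sumObj G V ⟶ (ModuleCat.restrictScalars (R.map g).hom).obj (sumObj G W) :=
  ModuleCat.ofHom (Y := ((ModuleCat.restrictScalars (R.map g).hom).obj (sumObj G W) : Type u))
    (DirectSum.toModule (R.obj V) _
      ((ModuleCat.restrictScalars (R.map g).hom).obj (sumObj G W) : Type u) fun φ =>
      (sumStep G g φ ≫ (ModuleCat.restrictScalars (R.map g).hom).map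
        (sumIncl G W (g.unop ≫ φ))).hom)

lemma sumMap_incl {V W : Dᵒᵖ} (g : V ⟶ W) (φ : V.unop ⟶ U) (x : summand G V φ) :
    (sumMap G g).hom ((sumIncl G V φ).hom x) =
      (sumIncl G W (g.unop ≫ φ)).hom ((sumStep G g φ).hom x) := by
  classical
  exact DirectSum.toModule_lof (R := R.obj V) (M := fun φ => (summand G V φ : Type u)) φ x

lemma incl_map_eq {V W : Dᵒᵖ} {φ : V.unop ⟶ U} {ψ ψ' : W.unop ⟶ U} (h : ψ = ψ')
    (a : Over.mk ψ ⟶ Over.mk φ) (b : Over.mk ψ' ⟶ Over.mk φ) (hab : a.left = b.left)
    (x : summand G V φ) :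
    (sumIncl G W ψ).hom ((G.map a.op).hom x) = (sumIncl G W ψ').hom ((G.map b.op).hom x) := by
  subst h
  obtain rfl : a = b := Over.OverMorphism.ext hab
  rfl

/-- The presheaf `V ↦ ⊕_{φ : V ⟶ U} G(φ)`. -/
noncomputable def sumPresheaf : PresheafOfModules.{u} R where
  obj := sumObj G
  map g := sumMap G g
  map_id V := by
    classical
    refine ModuleCat.hom_ext (DirectSum.linearMap_ext _ fun φ => LinearMap.ext fun x => ?_)
    refine (sumMap_incl G (𝟙 V) φ x).trans ?_
    refine (incl_map_eq (V := V) (φ := φ) G (Category.id_comp φ) _ (𝟙 _) rfl x).trans ?_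
    exact congrArg _ (LinearMap.congr_fun (congrArg ModuleCat.Hom.hom (G.map_id _)) x)
  map_comp {V W X} g h := by
    classical
    refine ModuleCat.hom_ext (DirectSum.linearMap_ext _ fun φ => LinearMap.ext fun x => ?_)
    refine (sumMap_incl G (g ≫ h) φ x).trans ?_
    refine Eq.trans ?_ ((congrArg (sumMap G h).hom (sumMap_incl G g φ x)).trans
      (sumMap_incl G h (g.unop ≫ φ) _)).symm
    refine (incl_map_eq G (show (g ≫ h).unop ≫ φ = h.unop ≫ g.unop ≫ φ from Category.assoc _ _ _)
      _ (Over.homMk (U := Over.mk (h.unop ≫ g.unop ≫ φ)) (V := Over.mk (g.unop ≫ φ)) h.unop ≫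
        Over.homMk (U := Over.mk (g.unop ≫ φ)) (V := Over.mk φ) g.unop) rfl x).trans ?_
    exact congrArg _ (G.map_comp_apply _ _ x)

section Functor

variable {G} {H : PresheafOfModules.{u} (overRing R U)} (α : G ⟶ H)

/-- The component of a map at a summand. -/
noncomputable abbrev summandMap (V : Dᵒᵖ) (φ : V.unop ⟶ U) : summand G V φ ⟶ summand H V φ :=
  α.app (op (Over.mk φ))

open Classical in
/-- The map induced on `⊕_φ G(φ)`. -/
noncomputable def sumPresheafMapApp (V : Dᵒᵖ) : sumObj G V ⟶ sumObj H V :=
  ModuleCat.ofHom (DirectSum.lmap fun φ => (summandMap α V φ).hom)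

lemma sumPresheafMapApp_incl (V : Dᵒᵖ) (φ : V.unop ⟶ U) (x : summand G V φ) :
    (sumPresheafMapApp α V).hom ((sumIncl G V φ).hom x) =
      (sumIncl H V φ).hom ((α.app (op (Over.mk φ))).hom x) := by
  classical
  exact DirectSum.lmap_lof (R := R.obj V) (M := fun φ => (summand G V φ : Type u)) (fun φ => (summandMap α V φ).hom) φ x

lemma sumObj_ext {V : Dᵒᵖ} {N : ModuleCat.{u} (R.obj V)} {f g : sumObj G V ⟶ N}
    (h : ∀ φ x, f.hom ((sumIncl G V φ).hom x) = g.hom ((sumIncl G V φ).hom x)) : f = g := by
  classical
  exact ModuleCat.hom_ext (DirectSum.linearMap_ext _ fun φ => LinearMap.ext fun x => h φ x)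

/-- `G ↦ (V ↦ ⊕_φ G(φ))` as a functor. -/
noncomputable def sumFunctor :
    PresheafOfModules.{u} (overRing R U) ⥤ PresheafOfModules.{u} R where
  obj G := sumPresheaf G
  map α :=
    { app := sumPresheafMapApp α
      naturality := fun {V W} g => sumObj_ext fun φ x => by
        refine (congrArg (sumPresheafMapApp α W).hom (sumMap_incl _ g φ x)).trans ?_
        refine (sumPresheafMapApp_incl α W _ _).trans ?_
        refine Eq.trans ?_ ((congrArg (sumMap _ g).hom (sumPresheafMapApp_incl α V φ x)).trans
          (sumMap_incl _ g φ _)).symm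
        exact congrArg _ (PresheafOfModules.naturality_apply α _ x) }
  map_id G := PresheafOfModules.hom_ext fun V => sumObj_ext fun φ x =>
    sumPresheafMapApp_incl _ V φ x
  map_comp α β := PresheafOfModules.hom_ext fun V => sumObj_ext fun φ x =>
    (sumPresheafMapApp_incl _ V φ x).trans
      ((congrArg (sumPresheafMapApp β V).hom (sumPresheafMapApp_incl α V φ x)).trans
        (sumPresheafMapApp_incl β V φ _)).symm

end Functor

instance : (sumFunctor (R := R) (U := U)).PreservesMonomorphisms where
  preserves {G H} α hα := by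
    classical
    exact PresheafOfModules.mono_of_injective fun V =>
      (DirectSum.lmap_injective (R := R.obj V) (M := fun φ => (summand G V φ : Type u))
        (N := fun φ => (summand H V φ : Type u))
        (f := fun φ => (summandMap α V φ).hom)).2 fun φ =>
        PresheafOfModules.injective_of_mono α (op (Over.mk φ))

variable (R U) in
/-- Restriction of presheaves of modules to `Over U`. -/
noncomputable abbrev preRestr :
    PresheafOfModules.{u} R ⥤ PresheafOfModules.{u} (overRing R U) :=
  PresheafOfModules.pushforward (F := Over.forget U) (𝟙 (overRing R U))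

variable (F : PresheafOfModules.{u} R)

/-- The unit direction. -/
noncomputable def sumHomTo (β : sumPresheaf G ⟶ F) : G ⟶ (preRestr R U).obj F where
  app A := ModuleCat.ofHom (Y := (((preRestr R U).obj F).obj A : Type u))
    ((β.app (op A.unop.left)).hom.comp (sumIncl G (op A.unop.left) A.unop.hom).hom)
  naturality {A B} a := by
    refine ModuleCat.hom_ext (LinearMap.ext fun x => ?_)
    have e : a.unop.left ≫ A.unop.hom = B.unop.hom := Over.w a.unop
    refine Eq.trans ?_ ((congrArg (β.app (op B.unop.left)).hom (sumMap_incl G a.unop.left.op A.unop.hom x)).symm.trans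
      (PresheafOfModules.naturality_apply β a.unop.left.op _))
    refine congrArg (β.app (op B.unop.left)).hom ?_
    exact (incl_map_eq (V := op A.unop.left) (W := op B.unop.left) G e _ a.unop rfl x).symm

open Classical in
/-- The counit direction. -/
noncomputable def sumHomInv (γ : G ⟶ (preRestr R U).obj F) : sumPresheaf G ⟶ F where
  app V := ModuleCat.ofHom (Y := (F.obj V : Type u)) (DirectSum.toModule (R.obj V) _
    (F.obj V : Type u) fun φ => (γ.app (op (Over.mk φ))).hom)
  naturality {V W} g := sumObj_ext fun φ x => by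
    refine Eq.trans (congrArg (DirectSum.toModule (R.obj W) _ (F.obj W : Type u)
      fun φ => (γ.app (op (Over.mk φ))).hom) (sumMap_incl G g φ x)) ?_
    refine Eq.trans (DirectSum.toModule_lof (R := R.obj W)
      (M := fun φ => (summand G W φ : Type u)) _ _) ?_
    refine Eq.trans ?_ (congrArg (F.map g).hom (DirectSum.toModule_lof (R := R.obj V)
      (M := fun φ => (summand G V φ : Type u)) _ _)).symm
    exact PresheafOfModules.naturality_apply γ _ x

lemma sumHomInv_incl (γ : G ⟶ (preRestr R U).obj F) (V : Dᵒᵖ) (φ : V.unop ⟶ U)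
    (x : summand G V φ) :
    ((sumHomInv G F γ).app V).hom ((sumIncl G V φ).hom x) =
      (γ.app (op (Over.mk φ))).hom x := by
  classical
  exact DirectSum.toModule_lof (R := R.obj V) (M := fun φ => (summand G V φ : Type u)) φ x

/-- The universal property of `⊕_φ G(φ)`. -/
noncomputable def sumHomEquiv :
    (sumPresheaf G ⟶ F) ≃ (G ⟶ (preRestr R U).obj F) where
  toFun := sumHomTo G F
  invFun := sumHomInv G F
  left_inv β := PresheafOfModules.hom_ext fun V => sumObj_ext fun φ x =>
    sumHomInv_incl G F (sumHomTo G F β) V φ x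
  right_inv γ := PresheafOfModules.hom_ext fun A => ModuleCat.hom_ext (LinearMap.ext fun x =>
    sumHomInv_incl G F γ (op A.unop.left) A.unop.hom x)

variable (R U) in
/-- `⊕_φ G(φ)` is left adjoint to restriction. -/
noncomputable def sumAdj : sumFunctor ⊣ preRestr R U :=
  Adjunction.mkOfHomEquiv
    { homEquiv := sumHomEquiv
      homEquiv_naturality_left_symm := fun {G' G F} α γ =>
        PresheafOfModules.hom_ext fun V => sumObj_ext fun φ x =>
          (sumHomInv_incl G' F (α ≫ γ) V φ x).trans
            ((congrArg ((sumHomInv G F γ).app V).hom (sumPresheafMapApp_incl α V φ x)).trans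
              (sumHomInv_incl G F γ V φ _)).symm
      homEquiv_naturality_right := fun β γ => rfl }

instance : (PresheafOfModules.pullback.{u} (F := Over.forget U) (𝟙 (overRing R U))).PreservesMonomorphisms :=
  Functor.PreservesMonomorphisms.of_iso
    ((sumAdj R U).leftAdjointUniq (PresheafOfModules.pullbackPushforwardAdjunction _))

section Sheaf

variable {J : GrothendieckTopology D} (O : Sheaf J CommRingCat.{u}) (U : D)

instance extZero_preservesMonomorphisms : (ModSite.extZero O U).PreservesMonomorphisms := by
  have h : (SheafOfModules.forget ((ModSite.ringSh O).over U) ⋙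
      (PresheafOfModules.pullback.{u} (F := Over.forget U)
        (𝟙 (overRing (ModSite.ringSh O).obj U)) ⋙
        ModSite.sheafify O)).PreservesMonomorphisms := by
    haveI h1 : (SheafOfModules.forget ((ModSite.ringSh O).over U)).PreservesMonomorphisms := by
      have : (SheafOfModules.forget.{u} ((ModSite.ringSh O).over U)).IsRightAdjoint :=
        (PresheafOfModules.sheafificationAdjunction
          (𝟙 ((ModSite.ringSh O).over U).obj)).isRightAdjoint
      exact Functor.preservesMonomorphisms_of_isRightAdjoint _
    haveI h2 : (ModSite.sheafify O).PreservesMonomorphisms := inferInstance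
    haveI h3 : (PresheafOfModules.pullback.{u} (F := Over.forget U)
      (𝟙 (overRing (ModSite.ringSh O).obj U))).PreservesMonomorphisms := inferInstance
    infer_instance
  exact @Functor.PreservesMonomorphisms.of_iso _ _ _ _ _ _ h
    (SheafOfModules.pullbackIso.{u} (F := Over.forget U) (𝟙 ((ModSite.ringSh O).over U))).symm

/-- Extension by zero on a ringed site is exact. -/
instance extZero_preservesFiniteLimits : PreservesFiniteLimits (ModSite.extZero O U) := by
  haveI : (ModSite.extZero O U).PreservesHomology :=
    Functor.preservesHomology_of_preservesMonos_and_cokernels _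
  exact Functor.preservesFiniteLimits_of_preservesHomology _

instance restr_preservesInjectiveObjects :
    (ModSite.restr O U).PreservesInjectiveObjects :=
  Functor.preservesInjectiveObjects_of_adjunction_of_preservesMonomorphisms
    (ModSite.extZeroAdj O U)

end Sheaf

end Groth.Agent.DerCompLib
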