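import Groth.Agent.DerCompLib.LeftBij
import Mathlib.Algebra.Category.ModuleCat.Sheaf.ChangeOfRings

/-!
# Cohomology of sections of derived direct images

For `SecData` over a locally flat functor, a K-injective `L` and a K-injective resolution
`η : F L ⟶ N`, `η` induces semilinear bijections `H^i(L(fn E)) ≃ H^i(N(E))`.
-/

set_option autoImplicit false
set_option backward.isDefEq.respectTransparency false

universe u

open CategoryTheory CategoryTheory.Limits Opposite ZeroObject

attribute [local instance] HasDerivedCategory.standard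

namespace Groth.Agent.DerCompLib

variable {C D : Type u} [SmallCategory C] [SmallCategory D] {J : GrothendieckTopology C}
  {K : GrothendieckTopology D} {OC : Sheaf J CommRingCat.{u}} {OD : Sheaf K CommRingCat.{u}}

/-- The data of a morphism of ringed sites. -/
noncomputable def rmorData (f : ModSite.RMor OC OD) : SecData OC OD where
  fn := f.fn
  G := f.pull
  F := f.push
  adj := f.adj
  σ E := (f.sharp.hom.app (op E)).hom
  σ_res {E E'} h r := (ConcreteCategory.congr_hom (f.sharp.hom.naturality h.op) r).symm
  secF N E :=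
    { toFun := fun y => y
      invFun := fun y => y
      left_inv := fun _ => rfl
      right_inv := fun _ => rfl
      map_add' := fun _ _ => rfl }
  secF_smul N E r y := rfl
  secF_res N {E E'} h y := rfl
  secF_map q E y := rfl

theorem locFlat_rmor (f : ModSite.RMor OC OD) : LocFlat K J (rmorData f).fn :=
  locFlat_of_exact K J f.fn

section Restrict

variable {O O' : Sheaf J CommRingCat.{u}} (φ : O ⟶ O')

/-- The map of sheaves of rings underlying `φ`. -/
noncomputable abbrev ringMap : ModSite.ringSh O ⟶ ModSite.ringSh O' :=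
  (sheafCompose J (forget₂ CommRingCat.{u} RingCat.{u})).map φ

/-- The map of sheaves of rings underlying `φ`, over the identity functor. -/
noncomputable abbrev ringMapId : ModSite.ringSh O ⟶
    ((𝟭 C).sheafPushforwardContinuous RingCat.{u} J J).obj (ModSite.ringSh O') :=
  ringMap φ

/-- Restriction of scalars as a direct image. -/
noncomputable def restrictIso : SheafOfModules.restrictScalars.{u} (ringMap φ) ≅
    SheafOfModules.pushforward.{u} (F := 𝟭 C) (ringMapId φ) :=
  NatIso.ofComponents
    (fun M => (SheafOfModules.fullyFaithfulForget _).preimageIso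
      (PresheafOfModules.isoMk (fun U => Iso.refl _) (fun _ _ f => by ext x; rfl)))
    (fun q => by
      apply SheafOfModules.hom_ext
      apply PresheafOfModules.hom_ext
      intro U
      ext x
      rfl)

/-- The data of a change of rings on one site. -/
noncomputable def resData : SecData O' O where
  fn := 𝟭 C
  G := SheafOfModules.pullback.{u} (F := 𝟭 C) (ringMapId φ)
  F := SheafOfModules.restrictScalars.{u} (ringMap φ)
  adj := (SheafOfModules.pullbackPushforwardAdjunction.{u} (F := 𝟭 C)
    (ringMapId φ)).ofNatIsoRight (restrictIso φ).symm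
  σ E := (φ.hom.app (op E)).hom
  σ_res {E E'} h r := (ConcreteCategory.congr_hom (φ.hom.naturality h.op) r).symm
  secF N E :=
    { toFun := fun y => y
      invFun := fun y => y
      left_inv := fun _ => rfl
      right_inv := fun _ => rfl
      map_add' := fun _ _ => rfl }
  secF_smul N E r y := rfl
  secF_res N {E E'} h y := rfl
  secF_map q E y := rfl

end Restrict

namespace SecData

instance (S : SecData OC OD) : S.G.Additive :=
  haveI := S.adj.isLeftAdjoint
  haveI := preservesBinaryBiproducts_of_preservesBinaryCoproducts S.G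
  Functor.additive_of_preservesBinaryBiproducts _

instance (S : SecData OC OD) : S.F.Additive :=
  haveI := S.adj.isRightAdjoint
  haveI := preservesBinaryBiproducts_of_preservesBinaryProducts S.F
  Functor.additive_of_preservesBinaryBiproducts _

end SecData

section Single

variable {A : Type*} [Category A] [Abelian A] {G : A} {X : CochainComplex A ℤ} {i : ℤ}

/-- A boundary gives a null-homotopic map from the single complex. -/
lemma quotient_single_eq_zero (g : (CochainComplex.singleFunctor A i).obj G ⟶ X)
    (h : G ⟶ X.X (i - 1))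
    (hh : (HomologicalComplex.singleObjXSelf (ComplexShape.up ℤ) i G).inv ≫ g.f i =
      h ≫ X.d (i - 1) i) :
    (HomotopyCategory.quotient A (ComplexShape.up ℤ)).map g = 0 := by
  let P := (HomologicalComplex.single A (ComplexShape.up ℤ) i).obj G
  let hmap : ∀ a b, (ComplexShape.up ℤ).Rel b a → (P.X a ⟶ X.X b) := fun a b _ =>
    if c : a = i ∧ b = i - 1 then (P.XIsoOfEq c.1).hom ≫
      (HomologicalComplex.singleObjXSelf (ComplexShape.up ℤ) i G).hom ≫ h ≫
        (X.XIsoOfEq c.2.symm).hom else 0
  rw [← (HomotopyCategory.quotient A (ComplexShape.up ℤ)).map_zero]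
  refine HomotopyCategory.eq_of_homotopy _ _
    ((Homotopy.ofEq ?_).trans (Homotopy.nullHomotopy' hmap))
  apply HomologicalComplex.from_single_hom_ext
  rw [Homotopy.nullHomotopicMap'_f (show (ComplexShape.up ℤ).Rel (i - 1) i by simp)
    (show (ComplexShape.up ℤ).Rel i (i + 1) by simp),
    show P.d i (i + 1) = 0 by simp [P], zero_comp, zero_add]
  simp only [hmap, and_self, dite_true, HomologicalComplex.XIsoOfEq_rfl, Iso.refl_hom,
    Category.id_comp, Category.comp_id, Category.assoc]
  rw [← hh, Iso.hom_inv_id_assoc]

/-- A null-homotopic map from the single complex is a boundary. -/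
lemma exists_boundary_of_quotient_eq_zero (g : (CochainComplex.singleFunctor A i).obj G ⟶ X)
    (h0 : (HomotopyCategory.quotient A (ComplexShape.up ℤ)).map g = 0) :
    ∃ h : G ⟶ X.X (i - 1),
      (HomologicalComplex.singleObjXSelf (ComplexShape.up ℤ) i G).inv ≫ g.f i =
        h ≫ X.d (i - 1) i := by
  let H := HomotopyCategory.homotopyOfEq g 0 (h0.trans (Functor.map_zero _ _ _).symm)
  refine ⟨(HomologicalComplex.singleObjXSelf (ComplexShape.up ℤ) i G).inv ≫ H.hom i (i - 1), ?_⟩
  have e := H.comm i
  rw [dNext_eq _ (show (ComplexShape.up ℤ).Rel i (i + 1) by simp),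
    prevD_eq _ (show (ComplexShape.up ℤ).Rel (i - 1) i by simp),
    show ((CochainComplex.singleFunctor A i).obj G).d i (i + 1) = 0 by simp [CochainComplex.singleFunctor, CochainComplex.singleFunctors],
    zero_comp, zero_add, HomologicalComplex.zero_f, add_zero] at e
  rw [Category.assoc, ← e]

/-- The map from the single complex given by a cycle. -/
noncomputable def singleHom (x : G ⟶ X.X i) (hx : x ≫ X.d i (i + 1) = 0) :
    (CochainComplex.singleFunctor A i).obj G ⟶ X :=
  HomologicalComplex.mkHomFromSingle x (fun k hk => by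
    obtain rfl : i + 1 = k := by simpa using hk
    exact hx)

lemma singleHom_f (x : G ⟶ X.X i) (hx : x ≫ X.d i (i + 1) = 0) :
    (HomologicalComplex.singleObjXSelf (ComplexShape.up ℤ) i G).inv ≫ (singleHom x hx).f i = x := by
  simp [singleHom]

end Single

section Compare

variable (S : SecData OC OD) (L : CochainComplex (ModSite.Mod OC) ℤ)

/-- The complex of direct images. -/
noncomputable abbrev pushCx : CochainComplex (ModSite.Mod OD) ℤ :=
  (S.F.mapHomologicalComplex (ComplexShape.up ℤ)).obj L

variable {N : CochainComplex (ModSite.Mod OD) ℤ} (η : pushCx S L ⟶ N) (E : D)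

lemma secF_symm_d (i j : ℤ) (x : Sec (L.X i) (S.fn.obj E)) :
    secMap ((pushCx S L).d i j) E ((S.secF _ E).symm x) =
      (S.secF _ E).symm (secMap (L.d i j) (S.fn.obj E) x) := by
  apply (S.secF _ E).injective
  rw [AddEquiv.apply_symm_apply]
  refine (S.secF_map (L.d i j) E ((S.secF _ E).symm x)).trans ?_
  rw [AddEquiv.apply_symm_apply]

/-- The comparison on cycles. -/
noncomputable def cycCmp (i : ℤ) : secCyc L (S.fn.obj E) i →+ secCyc N E i where
  toFun x := ⟨secMap (η.f i) E ((S.secF _ E).symm x), by
    rw [LinearMap.mem_ker, ← secMap_comp, η.comm, secMap_comp, secF_symm_d,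
      LinearMap.mem_ker.1 x.2, map_zero, map_zero]⟩
  map_zero' := Subtype.ext (by simp)
  map_add' x y := Subtype.ext (by simp)

/-- The comparison on cohomology of sections. -/
noncomputable def secHCmp (i : ℤ) : secH L (S.fn.obj E) i →+ secH N E i :=
  QuotientAddGroup.map (secBdry L (S.fn.obj E) i).toAddSubgroup (secBdry N E i).toAddSubgroup
    (cycCmp S L η E i) (by
      intro x hx
      obtain ⟨h, hh⟩ := hx
      refine ⟨secMap (η.f (i - 1)) E ((S.secF _ E).symm h), ?_⟩
      change secMap (N.d (i - 1) i) E _ = secMap (η.f i) E ((S.secF _ E).symm x)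
      rw [← secMap_comp, η.comm, secMap_comp, secF_symm_d]
      exact congrArg (fun z => secMap (η.f i) E ((S.secF _ E).symm z)) hh)

lemma secHCmp_smul (i : ℤ) (r : OD.obj.obj (op E)) (y : secH L (S.fn.obj E) i) :
    secHCmp S L η E i (S.σ E r • y) = r • secHCmp S L η E i y := by
  obtain ⟨x, rfl⟩ := Submodule.mkQ_surjective _ y
  rw [← map_smul]
  change (secBdry N E i).mkQ (cycCmp S L η E i (S.σ E r • x)) =
    r • (secBdry N E i).mkQ (cycCmp S L η E i x)
  rw [← map_smul]
  refine congrArg _ (Subtype.ext ?_)
  change secMap (η.f i) E ((S.secF _ E).symm (S.σ E r • (x : Sec (L.X i) (S.fn.obj E)))) =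
    r • secMap (η.f i) E ((S.secF _ E).symm x)
  rw [← map_smul]
  refine congrArg _ ((S.secF _ E).injective ?_)
  rw [AddEquiv.apply_symm_apply, S.secF_smul, AddEquiv.apply_symm_apply]

theorem bijective_secHCmp (hflat : LocFlat K J S.fn) [L.IsKInjective] [N.IsKInjective]
    [QuasiIso η] (i : ℤ) : Function.Bijective (secHCmp S L η E i) := by
  let P := (CochainComplex.singleFunctor (ModSite.Mod OD) i).obj (ModSite.freeOn OD E)
  let q := HomotopyCategory.quotient (ModSite.Mod OD) (ComplexShape.up ℤ)
  haveI : P.IsStrictlyLE i := inferInstance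
  have hP : ∀ n, IsFree (P.X n) := fun n => by
    by_cases hn : n = i
    · subst hn
      obtain ⟨ι, V, x, hx⟩ := isFree_freeOn (OD := OD) E
      let e := (HomologicalComplex.singleObjXSelf (ComplexShape.up ℤ) n (ModSite.freeOn OD E)).symm
      refine ⟨ι, V, fun t => secMap e.hom (V t) (x t), fun N' => ?_⟩
      have h : (fun (φ : P.X n ⟶ N') (t : ι) => secMap φ (V t) (secMap e.hom (V t) (x t))) =
          (fun (φ : ModSite.freeOn OD E ⟶ N') t => secMap φ (V t) (x t)) ∘
            e.symm.homFromEquiv := by
        funext φ t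
        rfl
      rw [h]
      exact (hx N').comp (Equiv.bijective _)
    · exact isFree_of_isZero (HomologicalComplex.isZero_single_obj_X _ _ _ _ hn)
  have hb := bijective_Qh_of_free S hflat P hP i L
  have hN := CochainComplex.IsKInjective.Qh_map_bijective (q.obj P) N
  haveI : IsIso (DerivedCategory.Qh.map (q.map η)) :=
    Localization.inverts DerivedCategory.Qh
      (HomotopyCategory.quasiIso (ModSite.Mod OD) (ComplexShape.up ℤ)) _
      ((mem_quasiIso_quotient η).2 inferInstance)
  have hcyc : ∀ (x : Sec ((pushCx S L).X i) E), secMap ((pushCx S L).d i (i + 1)) E x = 0 →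
      (secEquiv E _).symm x ≫ (pushCx S L).d i (i + 1) = 0 := fun x hx => by
    apply (secEquiv E _).injective
    rw [secEquiv_comp, AddEquiv.apply_symm_apply, map_zero, hx]
  constructor
  · rw [injective_iff_map_eq_zero]
    intro y hy
    obtain ⟨x, rfl⟩ := Submodule.mkQ_surjective _ y
    obtain ⟨w, hw⟩ := (secH_mk_eq_zero (cycCmp S L η E i x)).1 hy
    let x' : Sec ((pushCx S L).X i) E := (S.secF _ E).symm x
    have hx' : secMap ((pushCx S L).d i (i + 1)) E x' = 0 := by
      rw [secF_symm_d, LinearMap.mem_ker.1 x.2, map_zero]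
    let g := singleHom ((secEquiv E _).symm x') (hcyc x' hx')
    have h1 : q.map (g ≫ η) = 0 := quotient_single_eq_zero _ ((secEquiv E _).symm w) (by
      rw [HomologicalComplex.comp_f, ← Category.assoc, singleHom_f]
      apply (secEquiv E _).injective
      rw [secEquiv_comp, secEquiv_comp, AddEquiv.apply_symm_apply, AddEquiv.apply_symm_apply]
      exact hw.symm)
    have h2 : q.map g = 0 := hb.1 (by
      rw [← cancel_mono (DerivedCategory.Qh.map (q.map η)), ← Functor.map_comp,
        ← Functor.map_comp, ← Functor.map_comp, h1, zero_comp])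
    obtain ⟨h, hh⟩ := exists_boundary_of_quotient_eq_zero g h2
    rw [singleHom_f] at hh
    refine (secH_mk_eq_zero x).2 ⟨S.secF _ E (secEquiv E _ h), ?_⟩
    rw [← S.secF_map]
    refine (congrArg (S.secF _ E) ((secEquiv_comp E h _).symm.trans
      (congrArg (secEquiv E _) hh.symm))).trans ?_
    refine (congrArg (S.secF _ E) ((secEquiv E _).apply_symm_apply x')).trans ?_
    exact (S.secF _ E).apply_symm_apply _
  · intro y
    obtain ⟨y, rfl⟩ := Submodule.mkQ_surjective _ y
    have hy0 : (secEquiv E _).symm (y : Sec (N.X i) E) ≫ N.d i (i + 1) = 0 := by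
      apply (secEquiv E _).injective
      rw [secEquiv_comp, AddEquiv.apply_symm_apply, map_zero]
      exact LinearMap.mem_ker.1 y.2
    let gy := singleHom _ hy0
    obtain ⟨m, hm⟩ := hb.2 (DerivedCategory.Qh.map (q.map gy) ≫
      inv (DerivedCategory.Qh.map (q.map η)))
    obtain ⟨g₀, rfl⟩ := q.map_surjective m
    have h1 : q.map (g₀ ≫ η - gy) = 0 := by
      rw [Functor.map_sub, sub_eq_zero]
      apply hN.1
      rw [Functor.map_comp, Functor.map_comp, hm, Category.assoc, IsIso.inv_hom_id,
        Category.comp_id]
    obtain ⟨h, hh⟩ := exists_boundary_of_quotient_eq_zero _ h1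
    let x₀ : Sec ((pushCx S L).X i) E := secEquiv E _
      ((HomologicalComplex.singleObjXSelf (ComplexShape.up ℤ) i _).inv ≫ g₀.f i)
    have hx₀ : secMap (L.d i (i + 1)) (S.fn.obj E) (S.secF _ E x₀) = 0 := by
      rw [← S.secF_map]
      refine (congrArg (S.secF _ E) ((secEquiv_comp E _ _).symm.trans ?_)).trans (map_zero _)
      rw [Category.assoc]
      refine (congrArg (fun z => secEquiv E _ (_ ≫ z)) (g₀.comm i (i + 1))).trans ?_
      simp [P, CochainComplex.singleFunctor, CochainComplex.singleFunctors]
    refine ⟨(secBdry L (S.fn.obj E) i).mkQ ⟨S.secF _ E x₀, hx₀⟩, ?_⟩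
    rw [← sub_eq_zero]
    change (secBdry N E i).mkQ (cycCmp S L η E i _) - _ = 0
    rw [← map_sub, secH_mk_eq_zero]
    refine ⟨secEquiv E _ h, ?_⟩
    rw [← secEquiv_comp, ← hh, HomologicalComplex.sub_f_apply, Preadditive.comp_sub, map_sub,
      singleHom_f, AddEquiv.apply_symm_apply, HomologicalComplex.comp_f, ← Category.assoc,
      secEquiv_comp]
    change secMap (η.f i) E x₀ - _ = secMap (η.f i) E ((S.secF _ E).symm (S.secF _ E x₀)) - _
    rw [AddEquiv.symm_apply_apply]

/-- Completeness of cohomology of sections of the resolved direct image. -/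
theorem mem_secIdeal_iff (hflat : LocFlat K J S.fn) [L.IsKInjective] [N.IsKInjective]
    [QuasiIso η] (f : OD.obj.obj (op E)) :
    f ∈ secIdeal N E ↔ S.σ E f ∈ secIdeal L (S.fn.obj E) := by
  rw [mem_secIdeal, mem_secIdeal]
  exact forall_congr' fun i => (isComplElt_congr
    (AddEquiv.ofBijective (secHCmp S L η E i) (bijective_secHCmp S L η E hflat i))
    (fun y => secHCmp_smul S L η E i f y)).symm

end Compare

end Groth.Agent.DerCompLib
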