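import Groth.Agent.DerCompLib.KoszulOrth
import Groth.Agent.DerCompLib.SecData
import Mathlib.Algebra.Category.ModuleCat.Adjunctions

/-!
# Koszul vanishing passes to derived direct images

If the cone along `σ a` of `L|_{fn U}` vanishes, so does the cone along `a` of the restriction to
`U` of a K-injective resolution of `F L`: on sections over `E ⟶ U` both are cones of modules with
quasi-isomorphic entries.
-/

set_option autoImplicit false
set_option backward.isDefEq.respectTransparency false

universe w v u t t'

open CategoryTheory CategoryTheory.Limits CategoryTheory.Pretriangulated Opposite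

attribute [local instance] HasDerivedCategory.standard

namespace Groth.Agent.DerCompLib

section Gen

variable {A : Type u} [Category.{v} A] [Abelian A]

/-- Cones of maps of K-injective complexes are K-injective. -/
theorem isKInjective_mappingCone {X Y : CochainComplex A ℤ} (φ : X ⟶ Y) [X.IsKInjective]
    [Y.IsKInjective] : (CochainComplex.mappingCone φ).IsKInjective := by
  refine ⟨fun {K} f hK => ⟨HomotopyCategory.homotopyOfEq _ _ ?_⟩⟩
  let q := HomotopyCategory.quotient A (ComplexShape.up ℤ)
  have hz : ∀ (Z : CochainComplex A ℤ) [Z.IsKInjective] (g : q.obj K ⟶ q.obj Z), g = 0 :=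
    fun Z _ g => by
      obtain ⟨g₀, rfl⟩ := q.map_surjective g
      rw [← q.map_zero]
      exact HomotopyCategory.eq_of_homotopy _ _
        (CochainComplex.IsKInjective.nonempty_homotopy_zero g₀ hK).some
  let T := CochainComplex.mappingCone.triangleh φ
  have hT : T ∈ distTriang (HomotopyCategory A (ComplexShape.up ℤ)) :=
    HomotopyCategory.mappingCone_triangleh_distinguished φ
  have h3 : q.map f ≫ T.mor₃ = 0 := by
    rw [← cancel_mono ((q.commShiftIso (1 : ℤ)).inv.app X), zero_comp]
    exact hz (X⟦(1 : ℤ)⟧) _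
  obtain ⟨x, hx⟩ := Triangle.coyoneda_exact₃ T hT (q.map f) h3
  rw [Functor.map_zero]
  refine hx.trans ?_
  rw [hz Y x, zero_comp]

theorem isKInjective_kos {R : Type t} [CommRing R] [Linear R A] :
    ∀ (l : List R) (X : CochainComplex A ℤ) [X.IsKInjective], ((kos l).obj X).IsKInjective
  | [], _, h => h
  | r :: l, X, _ =>
    haveI := isKInjective_mappingCone (r • 𝟙 X)
    isKInjective_kos l (CochainComplex.mappingCone (r • 𝟙 X))

/-- An additive functor kills acyclic K-injective complexes. -/
theorem acyclic_map_of_kInj {B : Type*} [Category B] [Abelian B] (F : A ⥤ B) [F.Additive]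
    {Z : CochainComplex A ℤ} [Z.IsKInjective] (h : Z.Acyclic) :
    ((F.mapHomologicalComplex (ComplexShape.up ℤ)).obj Z).Acyclic := by
  intro i
  obtain ⟨H⟩ := CochainComplex.IsKInjective.nonempty_homotopy_zero (𝟙 Z) h
  have hh := Homotopy.homologyMap_eq (F.mapHomotopy H) i
  rw [CategoryTheory.Functor.map_id, Functor.map_zero, HomologicalComplex.homologyMap_id,
    HomologicalComplex.homologyMap_zero] at hh
  rw [HomologicalComplex.exactAt_iff_isZero_homology, IsZero.iff_id_eq_zero]
  exact hh

/-- Semilinear functors commute with iterated cones, lists related by a relation. -/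
theorem nonempty_iso_map_kos' {R : Type t} [CommRing R] [Linear R A] {B : Type*} [Category B]
    [Abelian B] {R' : Type t'} [CommRing R'] [Linear R' B] (F : A ⥤ B) [F.Additive] :
    ∀ (l : List R) (l' : List R'),
      List.Forall₂ (fun r r' => ∀ X : A, F.map (r • 𝟙 X) = r' • 𝟙 (F.obj X)) l l' →
      ∀ X : CochainComplex A ℤ,
        Nonempty ((F.mapHomologicalComplex (ComplexShape.up ℤ)).obj ((kos l).obj X) ≅
          (kos l').obj ((F.mapHomologicalComplex (ComplexShape.up ℤ)).obj X))
  | [], [], _, X => ⟨Iso.refl _⟩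
  | r :: l, r' :: l', .cons hr hl, X => by
    obtain ⟨e⟩ := nonempty_iso_map_kos' F l l' hl (CochainComplex.mappingCone (r • 𝟙 X))
    let Fc := F.mapHomologicalComplex (ComplexShape.up ℤ)
    have h : Fc.map (r • 𝟙 X) = r' • 𝟙 (Fc.obj X) := by
      ext n
      change F.map ((r • 𝟙 X : X ⟶ X).f n) = _
      rw [HomologicalComplex.smul_f_apply, HomologicalComplex.id_f]
      exact hr (X.X n)
    exact ⟨e ≪≫ (kos l').mapIso (CochainComplex.mappingCone.mapHomologicalComplexIso (r • 𝟙 X) F ≪≫
      eqToIso (congrArg (fun f => CochainComplex.mappingCone f) h))⟩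

/-- Vanishing of an iterated cone is invariant under isomorphism in the derived category. -/
theorem isZero_kos_congr {R : Type t} [CommRing R] [Linear R A] [HasDerivedCategory.{w} A]
    (l : List R) {X X' : CochainComplex A ℤ}
    (e : DerivedCategory.Q.obj X ≅ DerivedCategory.Q.obj X')
    (h : IsZero (DerivedCategory.Q.obj ((kos l).obj X))) :
    IsZero (DerivedCategory.Q.obj ((kos l).obj X')) :=
  isZero_kos_of_orth _ _
    (((orth_kos_iff l X _).1 fun n => ⟨fun f g => h.eq_of_src f g⟩).of_iso e (Iso.refl _))

end Gen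

section Elementwise

variable {R : Type u} [CommRing R] {M N : CochainComplex (ModuleCat.{u} R) ℤ}

lemma epi_freeCover (T : ModuleCat.{u} R) :
    Epi (ModuleCat.freeDesc (↾fun t : T => t) : (ModuleCat.free R).obj T ⟶ T) := by
  rw [ModuleCat.epi_iff_surjective]
  exact fun t => ⟨ModuleCat.freeMk t, ModuleCat.freeDesc_apply _ t⟩

/-- A map bijective on cohomology, elementwise, is a quasi-isomorphism. -/
theorem quasiIso_of_elements (φ : M ⟶ N)
    (hinj : ∀ (i : ℤ) (x : M.X i), M.d i (i + 1) x = 0 →
      (∃ w, N.d (i - 1) i w = φ.f i x) → ∃ v, M.d (i - 1) i v = x)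
    (hsurj : ∀ (i : ℤ) (y : N.X i), N.d i (i + 1) y = 0 →
      ∃ x, M.d i (i + 1) x = 0 ∧ ∃ w, N.d (i - 1) i w = y - φ.f i x) :
    QuasiIso φ := by
  refine ⟨fun i => ?_⟩
  rw [quasiIsoAt_iff_isIso_homologyMap]
  have hm : Mono (HomologicalComplex.homologyMap φ i) := by
    rw [HomologicalComplex.mono_homologyMap_iff_up_to_refinements _ (i - 1) i (i + 1)
      (by simp) (by simp)]
    intro T x hx y hy
    choose v hv using fun t : T => hinj i (x t)
      (by simpa using ConcreteCategory.congr_hom hx t)
      ⟨y t, by simpa using (ConcreteCategory.congr_hom hy t).symm⟩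
    refine ⟨_, _, epi_freeCover T, ModuleCat.freeDesc (↾v), ModuleCat.free_hom_ext fun t => ?_⟩
    simp [ModuleCat.freeDesc_apply, hv t]
  have he : Epi (HomologicalComplex.homologyMap φ i) := by
    rw [HomologicalComplex.epi_homologyMap_iff_up_to_refinements _ (i - 1) i (i + 1)
      (by simp) (by simp)]
    intro T y hy
    choose v hv w hw using fun t : T => hsurj i (y t)
      (by simpa using ConcreteCategory.congr_hom hy t)
    refine ⟨_, _, epi_freeCover T, ModuleCat.freeDesc (↾v), ModuleCat.free_hom_ext fun t => ?_,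
      ModuleCat.freeDesc (↾w), ModuleCat.free_hom_ext fun t => ?_⟩
    · simp [ModuleCat.freeDesc_apply, hv t]
    · simp [ModuleCat.freeDesc_apply, hw t]
  exact isIso_of_mono_of_epi _

end Elementwise

section OverSec

variable {C : Type u} [SmallCategory C] {J : GrothendieckTopology C} {O : Sheaf J CommRingCat.{u}}

/-- Sections over an object of the localised site, as modules over the commutative ring. -/
noncomputable def overSec (V : C) (X : Over V) :
    ModSite.Mod (O.over V) ⥤ ModuleCat.{u} (O.obj.obj (op X.left)) :=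
  SheafOfModules.forget (ModSite.ringSh (O.over V)) ⋙ evX (O.over V) (op X)

instance (V : C) (X : Over V) : (overSec (O := O) V X).Additive := by
  unfold overSec
  infer_instance

/-- The value of a global section of `O|_V`. -/
abbrev gVal (V : C) (X : Over V) (s : DerComp.GSec (O.over V)) : O.obj.obj (op X.left) := s.1 X

lemma overSec_smul (V : C) (X : Over V) (M : ModSite.Mod (O.over V))
    (s : DerComp.GSec (O.over V)) :
    (overSec V X).map (s • 𝟙 M) = gVal V X s • 𝟙 ((overSec V X).obj M) := by
  change (overSec V X).map (DerComp.smulEnd s M ≫ 𝟙 M) = _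
  rw [Category.comp_id]
  ext x
  rfl

/-- A complex with acyclic sections over every object is acyclic. -/
lemma acyclic_of_overSec {V : C} {Z : CochainComplex (ModSite.Mod (O.over V)) ℤ}
    (h : ∀ X, (((overSec V X).mapHomologicalComplex (ComplexShape.up ℤ)).obj Z).Acyclic) :
    Z.Acyclic := by
  intro i
  rw [HomologicalComplex.exactAt_iff' _ (i - 1) i (i + 1) (by simp) (by simp)]
  refine exact_of_locally _ fun X b hb => ⟨⊤, (J.over V).top_mem X, fun Y k _ => ?_⟩
  have hy := h Y i
  rw [HomologicalComplex.exactAt_iff' _ (i - 1) i (i + 1) (by simp) (by simp)] at hy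
  exact (ShortComplex.moduleCat_exact_iff _).1 hy (secRes (Z.X i) k b)
    ((secMap_secRes _ k b).trans ((congrArg _ hb).trans (map_zero _)))

end OverSec

section Push

variable {C D : Type u} [SmallCategory C] [SmallCategory D] {J : GrothendieckTopology C}
  {K : GrothendieckTopology D} {OC : Sheaf J CommRingCat.{u}} {OD : Sheaf K CommRingCat.{u}}
  (S : SecData OC OD) (L : CochainComplex (ModSite.Mod OC) ℤ)
  {N : CochainComplex (ModSite.Mod OD) ℤ} (η : pushCx S L ⟶ N) (U : D) {r : ℕ}
  (a : Fin r → OD.obj.obj (op U))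

/-- The images of `a` in `OC(fn U)`. -/
noncomputable abbrev sigmaFam : Fin r → OC.obj.obj (op (S.fn.obj U)) := fun j => S.σ U (a j)

/-- Koszul vanishing passes to the resolved direct image. -/
theorem isZero_kos_push (hflat : LocFlat K J S.fn) [L.IsKInjective] [N.IsKInjective] [QuasiIso η]
    (h : IsZero (DerivedCategory.Q.obj
      ((kos (gList (sigmaFam S U a))).obj (restrCx L (S.fn.obj U))))) :
    IsZero (DerivedCategory.Q.obj ((kos (gList a)).obj (restrCx N U))) := by
  rw [isZero_Q_iff]
  refine acyclic_of_overSec fun X => ?_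
  rw [← isZero_Q_iff]
  let X' : Over (S.fn.obj U) := Over.mk (S.fn.map X.hom)
  let R := OD.obj.obj (op X.left)
  let σ := S.σ X.left
  let RS := ModuleCat.restrictScalars.{u} σ
  let G := overSec (O := OC) (S.fn.obj U) X' ⋙ RS
  let F := overSec (O := OD) U X
  haveI : RS.Additive := inferInstance
  haveI : G.Additive := inferInstance
  let l' : List R := List.ofFn fun j => gVal (O := OD) U X (DerComp.GSec.ofSect OD U (a j))
  have hrel : List.Forall₂ (fun (t : DerComp.GSec (OC.over (S.fn.obj U))) (t' : R) =>
      ∀ M, G.map (t • 𝟙 M) = t' • 𝟙 (G.obj M)) (gList (sigmaFam S U a)) l' := by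
    refine List.forall₂_iff_get.2 ⟨by simp [l'], fun k h₁ h₂ M => ?_⟩
    simp only [List.get_eq_getElem, List.getElem_ofFn, l']
    refine (congrArg RS.map (overSec_smul (S.fn.obj U) X' M _)).trans ?_
    refine ModuleCat.hom_ext (LinearMap.ext fun (y : (overSec (S.fn.obj U) X').obj M) => ?_)
    change gVal (O := OC) (S.fn.obj U) X' (DerComp.GSec.ofSect OC (S.fn.obj U) _) • y =
      σ (gVal (O := OD) U X (DerComp.GSec.ofSect OD U _)) • y
    exact congrArg (· • y) (S.σ_res X.hom _)
  obtain ⟨eG⟩ := nonempty_iso_map_kos' G _ l' hrel (restrCx L (S.fn.obj U))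
  obtain ⟨eF⟩ := nonempty_iso_map_kos F (gVal (O := OD) U X)
    (fun M s => overSec_smul U X M s) (gList a) (restrCx N U)
  refine IsZero.of_iso ?_ (DerivedCategory.Q.mapIso eF)
  rw [List.map_ofFn]
  haveI : (restrCx L (S.fn.obj U)).IsKInjective :=
    isKInjective_map_of_adj (ModSite.extZeroAdj OC (S.fn.obj U)) L
  haveI := isKInjective_kos (gList (sigmaFam S U a)) (restrCx L (S.fn.obj U))
  have hG : IsZero (DerivedCategory.Q.obj ((kos l').obj
      ((G.mapHomologicalComplex (ComplexShape.up ℤ)).obj (restrCx L (S.fn.obj U))))) :=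
    IsZero.of_iso ((isZero_Q_iff _).2 (acyclic_map_of_kInj G ((isZero_Q_iff _).1 h)))
      (DerivedCategory.Q.mapIso eG).symm
  let φ : (G.mapHomologicalComplex (ComplexShape.up ℤ)).obj (restrCx L (S.fn.obj U)) ⟶
      (F.mapHomologicalComplex (ComplexShape.up ℤ)).obj (restrCx N U) :=
    { f := fun i => ModuleCat.ofHom
        (X := (G.obj ((restrCx L (S.fn.obj U)).X i))) (Y := (F.obj ((restrCx N U).X i)))
        { toFun := fun x => secMap (η.f i) X.left
            ((S.secF _ X.left).symm (x : Sec (L.X i) (S.fn.obj X.left)))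
          map_add' := fun x y =>
            (congrArg _ (map_add (S.secF (L.X i) X.left).symm
              (x : Sec (L.X i) (S.fn.obj X.left)) y)).trans (map_add _ _ _)
          map_smul' := fun t (x : Sec (L.X i) (S.fn.obj X.left)) => by
            change secMap (η.f i) X.left ((S.secF _ X.left).symm (S.σ X.left t • x)) =
              t • secMap (η.f i) X.left ((S.secF _ X.left).symm x)
            rw [← map_smul]
            refine congrArg _ ((S.secF _ X.left).injective ?_)
            rw [AddEquiv.apply_symm_apply, S.secF_smul, AddEquiv.apply_symm_apply] }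
      comm' := fun i j _ => by
        ext (x : Sec (L.X i) (S.fn.obj X.left))
        change secMap (N.d i j) X.left (secMap (η.f i) X.left ((S.secF _ X.left).symm x)) =
          secMap (η.f j) X.left ((S.secF _ X.left).symm (secMap (L.d i j) (S.fn.obj X.left) x))
        rw [← secMap_comp, η.comm, secMap_comp, secF_symm_d] }
  haveI : QuasiIso φ := quasiIso_of_elements φ
    (fun i x hx hw => by
      have hb := bijective_secHCmp S L η X.left hflat i
      refine (secH_mk_eq_zero (⟨x, hx⟩ : secCyc L (S.fn.obj X.left) i)).1 (hb.1 ?_)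
      rw [map_zero]
      exact (secH_mk_eq_zero (cycCmp S L η X.left i ⟨x, hx⟩)).2 hw)
    (fun i y hy => by
      obtain ⟨q, hq⟩ := (bijective_secHCmp S L η X.left hflat i).2
        ((secBdry N X.left i).mkQ ⟨y, hy⟩)
      obtain ⟨x, rfl⟩ := Submodule.mkQ_surjective _ q
      refine ⟨(x : Sec (L.X i) (S.fn.obj X.left)), LinearMap.mem_ker.1 x.2, ?_⟩
      obtain ⟨w, hw⟩ := (secH_mk_eq_zero (⟨y, hy⟩ - cycCmp S L η X.left i x)).1
        (by rw [map_sub]; exact sub_eq_zero.2 hq.symm)
      exact ⟨w, hw⟩)
  haveI hQ : IsIso (DerivedCategory.Q.map φ) :=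
    Localization.inverts DerivedCategory.Q (HomologicalComplex.quasiIso _ _) φ
      ((HomologicalComplex.mem_quasiIso_iff φ).2 inferInstance)
  exact isZero_kos_congr l' (@asIso _ _ _ _ (DerivedCategory.Q.map φ) hQ) hG

end Push

end Groth.Agent.DerCompLib
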