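import Groth.Agent.DerCompLib.Locality
import Groth.Prelude.Def_ModSite2
import Groth.Agent.DCat.ModulesGrothendieck
import Mathlib.CategoryTheory.Sites.CoverLifting
import Mathlib.CategoryTheory.Abelian.Subobject
import Mathlib.CategoryTheory.Adjunction.AdjointFunctorTheorems

/-!
# Restriction to a localised site has a right adjoint

`toSheaf` on sheaves of modules preserves colimits, hence so does restriction to `C/U`.
-/

set_option autoImplicit false
set_option backward.isDefEq.respectTransparency false

universe u

open CategoryTheory CategoryTheory.Limits Opposite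

namespace Groth.Agent.DerCompLib

variable {C : Type u} [SmallCategory C] {J : GrothendieckTopology C} {O : Sheaf J CommRingCat.{u}}

/-- The underlying abelian sheaf functor preserves colimits. -/
theorem preservesColimitsOfShape_toSheaf (T : Type u) [SmallCategory T] :
    PreservesColimitsOfShape T (SheafOfModules.toSheaf.{u} (ModSite.ringSh O)) where
  preservesColimit {K} := by
    let α := 𝟙 (ModSite.ringSh O).obj
    let sh := PresheafOfModules.sheafification.{u} α
    let adj := PresheafOfModules.sheafificationAdjunction.{u} α
    let G := SheafOfModules.forget.{u} (ModSite.ringSh O) ⋙ PresheafOfModules.restrictScalars α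
    haveI : sh.IsLeftAdjoint := adj.isLeftAdjoint
    haveI : (presheafToSheaf J AddCommGrpCat.{u}).IsLeftAdjoint :=
      (sheafificationAdjunction J AddCommGrpCat.{u}).isLeftAdjoint
    haveI : PreservesColimit (K ⋙ G) (sh ⋙ SheafOfModules.toSheaf.{u} (ModSite.ringSh O)) :=
      preservesColimit_of_natIso _ (PresheafOfModules.sheafificationCompToSheaf.{u} α).symm
    have h : PreservesColimit ((K ⋙ G) ⋙ sh) (SheafOfModules.toSheaf.{u} (ModSite.ringSh O)) :=
      preservesColimit_of_preserves_colimit_cocone
        (isColimitOfPreserves sh (colimit.isColimit (K ⋙ G)))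
        (isColimitOfPreserves (sh ⋙ SheafOfModules.toSheaf.{u} (ModSite.ringSh O))
          (colimit.isColimit (K ⋙ G)))
    exact preservesColimit_of_iso_diagram _
      ((Functor.associator K G sh) ≪≫ Functor.isoWhiskerLeft K (asIso adj.counit) ≪≫
        Functor.rightUnitor K)

variable (O) (U : C)

/-- Restriction commutes with the underlying abelian sheaf. -/
noncomputable def restrToSheafIso :
    ModSite.restr O U ⋙ SheafOfModules.toSheaf.{u} (ModSite.ringSh (O.over U)) ≅
      SheafOfModules.toSheaf.{u} (ModSite.ringSh O) ⋙ J.overPullback AddCommGrpCat.{u} U :=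
  Iso.refl _

/-- Restriction preserves colimits. -/
theorem preservesColimitsOfShape_restr (T : Type u) [SmallCategory T] :
    PreservesColimitsOfShape T (ModSite.restr O U) := by
  haveI := preservesColimitsOfShape_toSheaf (O := O) T
  haveI := preservesColimitsOfShape_toSheaf (O := O.over U) T
  haveI : (J.overPullback AddCommGrpCat.{u} U).IsLeftAdjoint :=
    ((Over.forget U).sheafAdjunctionCocontinuous AddCommGrpCat.{u} (J.over U) J).isLeftAdjoint
  haveI : PreservesColimitsOfShape T
      (ModSite.restr O U ⋙ SheafOfModules.toSheaf.{u} (ModSite.ringSh (O.over U))) :=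
    preservesColimitsOfShape_of_natIso (restrToSheafIso O U).symm
  haveI : ReflectsColimitsOfShape T (SheafOfModules.toSheaf.{u} (ModSite.ringSh (O.over U))) :=
    reflectsColimitsOfShape_of_reflectsIsomorphisms
  exact preservesColimitsOfShape_of_reflects_of_preserves _
    (SheafOfModules.toSheaf.{u} (ModSite.ringSh (O.over U)))

/-- Restriction to a localised site has a right adjoint. -/
theorem hasPushOver : ModSite.HasPushOver O U := by
  haveI : PreservesColimits (ModSite.restr O U) :=
    ⟨fun {T} _ => preservesColimitsOfShape_restr O U T⟩
  haveI : WellPowered.{u} (SheafOfModules.{u} (ModSite.ringSh O)) :=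
    wellPowered_of_isDetecting
      (DCat.sheafOfModules_isSeparating J (ModSite.ringSh O)).isDetecting
  exact isLeftAdjoint_of_preservesColimits_of_isSeparating
    (DCat.sheafOfModules_isSeparating J (ModSite.ringSh O)) _

end Groth.Agent.DerCompLib
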