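import Groth.Prelude.Def_DerComp

/-!
# Maps out of `j_{U!} O_U` are sections over `U`
-/

set_option autoImplicit false
set_option backward.isDefEq.respectTransparency false

universe u

open CategoryTheory CategoryTheory.Limits Opposite

namespace Groth.Agent.DerCompLib

variable {C : Type u} [SmallCategory C] {J : GrothendieckTopology C}
  {O : Sheaf J CommRingCat.{u}}

/-- Sections, as modules over the commutative ring of sections of `O`. -/
abbrev Sec (M : ModSite.Mod O) (U : C) : Type u := M.val.obj (op U)

noncomputable instance (M : ModSite.Mod O) (U : C) : Module (O.obj.obj (op U)) (Sec M U) :=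
  inferInstanceAs (Module ((ModSite.ringSh O).obj.obj (op U)) (M.val.obj (op U)))

/-- Components of a map, on sections. -/
noncomputable def secMap {M N : ModSite.Mod O} (q : M ⟶ N) (U : C) :
    Sec M U →ₗ[O.obj.obj (op U)] Sec N U :=
  (q.val.app (op U)).hom

lemma secMap_comp {M N P : ModSite.Mod O} (q : M ⟶ N) (q' : N ⟶ P) (U : C) (x : Sec M U) :
    secMap (q ≫ q') U x = secMap q' U (secMap q U x) := rfl

lemma secMap_add {M N : ModSite.Mod O} (q q' : M ⟶ N) (U : C) (x : Sec M U) :
    secMap (q + q') U x = secMap q U x + secMap q' U x := rfl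

lemma secMap_zero {M N : ModSite.Mod O} (U : C) (x : Sec M U) :
    secMap (0 : M ⟶ N) U x = 0 := rfl

/-- Restriction of sections. -/
noncomputable def secRes (M : ModSite.Mod O) {U V : C} (g : V ⟶ U) : Sec M U →+ Sec M V where
  toFun x := M.val.map g.op x
  map_zero' := map_zero _
  map_add' := map_add _

lemma secRes_smul (M : ModSite.Mod O) {U V : C} (g : V ⟶ U) (f : O.obj.obj (op U))
    (x : Sec M U) : secRes M g (f • x) = (O.obj.map g.op).hom f • secRes M g x :=
  M.val.map_smul g.op f x

lemma secMap_secRes {M N : ModSite.Mod O} (q : M ⟶ N) {U V : C} (g : V ⟶ U) (x : Sec M U) :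
    secMap q V (secRes M g x) = secRes N g (secMap q U x) :=
  PresheafOfModules.naturality_apply q.val g.op x

/-- The global section of `M|_U` given by a section over `U`. -/
noncomputable def overSection (U : C) (M : ModSite.Mod O) (x : Sec M U) :
    ((ModSite.restr O U).obj M).sections :=
  ⟨fun V => M.val.map V.unop.hom.op x, fun {V W} g => by
    change M.val.map g.unop.left.op (M.val.map V.unop.hom.op x) = M.val.map W.unop.hom.op x
    rw [← M.val.map_comp_apply]
    exact M.val.congr_map_apply (show V.unop.hom.op ≫ g.unop.left.op = W.unop.hom.op from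
      Quiver.Hom.unop_inj (Over.w g.unop)) x⟩

/-- Global sections of `M|_U` are sections over `U`. -/
noncomputable def overSectionEquiv (U : C) (M : ModSite.Mod O) :
    ((ModSite.restr O U).obj M).sections ≃ Sec M U where
  toFun s := s.val (op (Over.mk (𝟙 U)))
  invFun := overSection U M
  left_inv s := Subtype.ext (funext fun V => by
    have h := s.2 (Over.homMk (U := V.unop) (V := Over.mk (𝟙 U)) V.unop.hom).op
    exact h)
  right_inv x := by
    refine (M.val.congr_map_apply (op_id (X := U)) x).trans ?_
    exact LinearMap.congr_fun (congrArg ModuleCat.Hom.hom (M.val.map_id _)) x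

/-- Maps out of `j_{U!} O_U` are sections over `U`. -/
noncomputable def secEquiv (U : C) (M : ModSite.Mod O) :
    (ModSite.freeOn O U ⟶ M) ≃+ Sec M U where
  toEquiv := ((ModSite.extZeroAdj O U).homEquiv _ M).trans
    ((SheafOfModules.unitHomEquiv _).trans (overSectionEquiv U M))
  map_add' a b := by
    change (overSectionEquiv U M) (SheafOfModules.unitHomEquiv _
        ((ModSite.extZeroAdj O U).homEquiv _ M (a + b))) =
      (overSectionEquiv U M) (SheafOfModules.unitHomEquiv _
        ((ModSite.extZeroAdj O U).homEquiv _ M a)) +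
      (overSectionEquiv U M) (SheafOfModules.unitHomEquiv _
        ((ModSite.extZeroAdj O U).homEquiv _ M b))
    rw [Adjunction.homEquiv_unit, Adjunction.homEquiv_unit, Adjunction.homEquiv_unit]
    rfl

lemma secEquiv_comp (U : C) {M N : ModSite.Mod O} (φ : ModSite.freeOn O U ⟶ M) (q : M ⟶ N) :
    secEquiv U N (φ ≫ q) = secMap q U (secEquiv U M φ) := by
  change (overSectionEquiv U N) (SheafOfModules.unitHomEquiv _
    ((ModSite.extZeroAdj O U).homEquiv _ N (φ ≫ q))) = _
  rw [Adjunction.homEquiv_naturality_right]
  rfl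

/-- Multiplication by `f ∈ O(U)` on `j_{U!} O_U`. -/
noncomputable abbrev gEnd (U : C) (f : O.obj.obj (op U)) :
    ModSite.freeOn O U ⟶ ModSite.freeOn O U :=
  (ModSite.extZero O U).map (DerComp.smulEnd (DerComp.GSec.ofSect O U f) (ModSite.unit (O.over U)))

lemma secEquiv_gEnd (U : C) {M : ModSite.Mod O} (f : O.obj.obj (op U))
    (φ : ModSite.freeOn O U ⟶ M) : secEquiv U M (gEnd U f ≫ φ) = f • secEquiv U M φ := by
  change (overSectionEquiv U M) (SheafOfModules.unitHomEquiv _
    ((ModSite.extZeroAdj O U).homEquiv _ M (gEnd U f ≫ φ))) = _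
  rw [Adjunction.homEquiv_naturality_left]
  set ψ := (ModSite.extZeroAdj O U).homEquiv _ M φ with hψ
  let X : (Over U)ᵒᵖ := op (Over.mk (𝟙 U))
  have e : DerComp.GSec.val' (DerComp.GSec.ofSect O U f) X = f := by
    change (O.obj.map (𝟙 U).op).hom f = f
    simp
  refine Eq.trans ?_ (congrArg (fun r => r • overSectionEquiv U M (SheafOfModules.unitHomEquiv _ ψ)) e)
  exact (ψ.val.app X).hom.map_smul _ _

end Groth.Agent.DerCompLib
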