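import Mathlib.Algebra.Homology.DerivedCategory.Linear
import Mathlib.Algebra.Homology.HomotopyCategory.Pretriangulated
import Mathlib.Algebra.Homology.Linear
import Mathlib.CategoryTheory.Triangulated.Yoneda
import Mathlib.RingTheory.Ideal.Operations

/-!
# Iterated cones of multiplications

For a list `l` of scalars, `(kos l).obj X` is the iterated cone of `r • 𝟙`, `r ∈ l`. The vanishing
of maps between such cones is governed by bijectivity of scalars (`orth_kos_iff`), and high powers
of the members of `l` kill them in the derived category.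
-/

set_option autoImplicit false
set_option backward.isDefEq.respectTransparency false
set_option backward.defeqAttrib.useBackward true

universe w v u t t'

open CategoryTheory CategoryTheory.Limits CategoryTheory.Pretriangulated
open CochainComplex.HomComplex

namespace Groth.Agent.DerCompLib

variable {A : Type u} [Category.{v} A] [Abelian A] {R : Type t} [CommRing R] [Linear R A]

/-- The cone of a multiplication, functorially. -/
@[simps]
noncomputable def coneSmul (r : R) : CochainComplex A ℤ ⥤ CochainComplex A ℤ where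
  obj X := CochainComplex.mappingCone (r • 𝟙 X)
  map φ := CochainComplex.mappingCone.map _ _ φ φ (by simp)
  map_id X := by
    ext n
    simp [CochainComplex.mappingCone.map, CochainComplex.mappingCone.ext_from_iff _ (n + 1) n rfl]
  map_comp φ ψ := by
    ext n
    simp [CochainComplex.mappingCone.map, CochainComplex.mappingCone.ext_from_iff _ (n + 1) n rfl]

instance (r : R) : (coneSmul (A := A) r).Additive where
  map_add {X Y} φ ψ := by
    ext n
    simp [CochainComplex.mappingCone.map, CochainComplex.mappingCone.ext_from_iff _ (n + 1) n rfl]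

instance (r : R) : (coneSmul (A := A) r).Linear R where
  map_smul {X Y} φ s := by
    ext n
    simp [CochainComplex.mappingCone.map, CochainComplex.mappingCone.ext_from_iff _ (n + 1) n rfl]

/-- Iterated cones of multiplications. -/
noncomputable def kos : List R → CochainComplex A ℤ ⥤ CochainComplex A ℤ
  | [] => 𝟭 _
  | r :: l => coneSmul r ⋙ kos l

instance kos_additive : ∀ l : List R, (kos (A := A) l).Additive
  | [] => inferInstanceAs (𝟭 _).Additive
  | r :: l => haveI := kos_additive l; inferInstanceAs (coneSmul r ⋙ kos l).Additive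

instance kos_linear : ∀ l : List R, (kos (A := A) l).Linear R
  | [] => inferInstanceAs ((𝟭 (CochainComplex A ℤ)).Linear R)
  | r :: l => haveI := kos_linear l; inferInstanceAs ((coneSmul r ⋙ kos l).Linear R)

lemma kos_append : ∀ (l l' : List R) (X : CochainComplex A ℤ),
    (kos (l ++ l')).obj X = (kos l').obj ((kos l).obj X)
  | [], _, _ => rfl
  | r :: l, l', X => kos_append l l' (CochainComplex.mappingCone (r • 𝟙 X))

section Map

variable {B : Type*} [Category B] [Abelian B] {R' : Type t'} [CommRing R'] [Linear R' B]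
  (F : A ⥤ B) [F.Additive] (σ : R → R')

/-- Semilinear functors commute with iterated cones. -/
theorem nonempty_iso_map_kos (hF : ∀ (X : A) (r : R), F.map (r • 𝟙 X) = σ r • 𝟙 (F.obj X)) :
    ∀ (l : List R) (X : CochainComplex A ℤ),
      Nonempty ((F.mapHomologicalComplex (ComplexShape.up ℤ)).obj ((kos l).obj X) ≅
        (kos (l.map σ)).obj ((F.mapHomologicalComplex (ComplexShape.up ℤ)).obj X))
  | [], X => ⟨Iso.refl _⟩
  | r :: l, X => by
    obtain ⟨e⟩ := nonempty_iso_map_kos hF l (CochainComplex.mappingCone (r • 𝟙 X))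
    let Fc := F.mapHomologicalComplex (ComplexShape.up ℤ)
    have h : Fc.map (r • 𝟙 X) = σ r • 𝟙 (Fc.obj X) := by
      ext n
      simpa [Fc] using hF (X.X n) r
    exact ⟨e ≪≫ (kos (l.map σ)).mapIso (CochainComplex.mappingCone.mapHomologicalComplexIso (r • 𝟙 X) F ≪≫
      eqToIso (congrArg (fun f => CochainComplex.mappingCone f) h))⟩

end Map

variable [HasDerivedCategory.{w} A]

/-- No maps to any shift. -/
def Orth (Z Y : DerivedCategory A) : Prop := ∀ n : ℤ, Subsingleton (Z ⟶ Y⟦n⟧)

variable (R) in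
/-- A scalar acts bijectively on maps to all shifts. -/
def SmulBij (r : R) (Z Y : DerivedCategory A) : Prop :=
  ∀ n : ℤ, Function.Bijective fun f : Z ⟶ Y⟦n⟧ => r • f

lemma Orth.eq_zero {Z Y : DerivedCategory A} (h : Orth Z Y) {n : ℤ} (f : Z ⟶ Y⟦n⟧) : f = 0 :=
  (h n).elim _ _

lemma smul_bijective_of_iso {Z Y Y' : DerivedCategory A} (r : R) (e : Y ≅ Y')
    (h : Function.Bijective fun f : Z ⟶ Y => r • f) :
    Function.Bijective fun f : Z ⟶ Y' => r • f := by
  have : (fun f : Z ⟶ Y' => r • f) = e.homToEquiv ∘ (fun f : Z ⟶ Y => r • f) ∘ e.homToEquiv.symm := by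
    funext f
    simp
  rw [this]
  exact e.homToEquiv.bijective.comp (h.comp e.homToEquiv.symm.bijective)

lemma Orth.of_iso {Z Y Z' Y' : DerivedCategory A} (h : Orth Z Y) (e : Z ≅ Z') (e' : Y ≅ Y') :
    Orth Z' Y' := fun n => by
  have := h n
  exact ((Iso.homCongr e ((shiftFunctor _ n).mapIso e'))).symm.subsingleton

lemma Orth.shift {Z Y : DerivedCategory A} (h : Orth Z Y) (m : ℤ) : Orth Z (Y⟦m⟧) := fun n => by
  have := h (m + n)
  exact (((shiftFunctorAdd (DerivedCategory A) m n).app Y).homToEquiv (Z := Z)).symm.subsingleton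

lemma orth_self_iff {Z : DerivedCategory A} : Orth Z Z ↔ IsZero Z := by
  refine ⟨fun h => ?_, fun h n => ⟨fun f g => h.eq_of_src f g⟩⟩
  rw [IsZero.iff_id_eq_zero, ← cancel_mono ((shiftFunctorZero (DerivedCategory A) ℤ).inv.app Z)]
  exact (h 0).elim _ _

variable {X : CochainComplex A ℤ} (r : R)

lemma shift_map_smul_id (m : ℤ) (Z : DerivedCategory A) :
    (r • 𝟙 Z)⟦m⟧' = r • 𝟙 (Z⟦m⟧) := by
  rw [Functor.map_smul]
  exact congrArg (r • ·) (CategoryTheory.Functor.map_id _ _)

/-- The triangle of a multiplication. -/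
noncomputable abbrev smulTri (X : CochainComplex A ℤ) : Triangle (DerivedCategory A) :=
  DerivedCategory.Q.mapTriangle.obj (CochainComplex.mappingCone.triangle (r • 𝟙 X))

lemma smulTri_mor₁ : (smulTri r X).mor₁ = r • 𝟙 (DerivedCategory.Q.obj X) := by
  change DerivedCategory.Q.map (r • 𝟙 X) = _
  rw [Functor.map_smul, CategoryTheory.Functor.map_id]

lemma smulTri_dist (X : CochainComplex A ℤ) : smulTri r X ∈ distTriang (DerivedCategory A) :=
  DerivedCategory.mappingCone_triangle_distinguished _

lemma smulTri_shift_mor₁ (X : CochainComplex A ℤ) (m : ℤ) :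
    (smulTri r X).mor₁⟦m⟧' = r • 𝟙 ((DerivedCategory.Q.obj X)⟦m⟧) :=
  (congrArg (fun f => f⟦m⟧') (smulTri_mor₁ r)).trans (shift_map_smul_id r m _)

lemma orth_tri_right {Z : DerivedCategory A} (T : Triangle (DerivedCategory A))
    (hT : T ∈ distTriang (DerivedCategory A))
    (h : ∀ n : ℤ, Function.Bijective fun f : Z ⟶ T.obj₁⟦n⟧ => f ≫ T.mor₁⟦n⟧') :
    Orth Z T.obj₃ := by
  intro n
  refine subsingleton_of_forall_eq 0 fun g => ?_
  let Tn := (Triangle.shiftFunctor _ n).obj T
  have hTn : Tn ∈ distTriang (DerivedCategory A) := Triangle.shift_distinguished T hT n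
  have hb : ∀ (m : ℤ), Function.Bijective fun f : Z ⟶ T.obj₁⟦m⟧ =>
      f ≫ ((m.negOnePow • T.mor₁⟦m⟧' : T.obj₁⟦m⟧ ⟶ T.obj₂⟦m⟧)) := fun m => by
    rcases Int.even_or_odd m with hm | hm
    · simpa [Int.negOnePow_even m hm] using h m
    · simpa [Int.negOnePow_odd m hm, Function.comp_def] using (Equiv.neg _).bijective.comp (h m)
  have h3 : g ≫ Tn.mor₃ = 0 := by
    let e := (shiftFunctorAdd (DerivedCategory A) n (1 : ℤ)).app T.obj₁
    have he : (g ≫ Tn.mor₃) ≫ Tn.mor₁⟦(1 : ℤ)⟧' = 0 := by
      rw [Category.assoc, comp_distTriang_mor_zero₃₁ Tn hTn, comp_zero]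
    rw [← cancel_mono e.inv, zero_comp]
    apply (h (n + 1)).1
    change _ ≫ T.mor₁⟦n + 1⟧' = 0 ≫ _
    have hn := (shiftFunctorAdd (DerivedCategory A) n (1 : ℤ)).inv.naturality T.mor₁
    simp only [Functor.comp_map] at hn
    rw [zero_comp, Category.assoc]
    refine (congrArg ((g ≫ Tn.mor₃) ≫ ·) hn.symm).trans ?_
    have hs : Tn.mor₁⟦(1 : ℤ)⟧' = n.negOnePow • T.mor₁⟦n⟧'⟦(1 : ℤ)⟧' := by
      simp [Tn]
    rw [hs, Units.smul_def] at he
    replace he := (Preadditive.comp_zsmul _ _ _).symm.trans he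
    refine ((Category.assoc _ _ _).symm).trans ((congrArg (· ≫ _) ?_).trans zero_comp)
    rcases Int.even_or_odd n with hm | hm
    · simpa [Int.negOnePow_even n hm] using he
    · simpa [Int.negOnePow_odd n hm] using he
  obtain ⟨x, hx⟩ := Triangle.coyoneda_exact₃ Tn hTn g h3
  obtain ⟨y, hy⟩ := (hb n).2 x
  rw [hx, ← hy]
  change (y ≫ Tn.mor₁) ≫ Tn.mor₂ = 0
  rw [Category.assoc, comp_distTriang_mor_zero₁₂ Tn hTn, comp_zero]

lemma smulBij_iff_comp {Z Y : DerivedCategory A} (n : ℤ) :
    (fun f : Z ⟶ Y⟦n⟧ => f ≫ (r • 𝟙 Y)⟦n⟧') = fun f => r • f := by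
  funext f
  simp [Functor.map_smul]

/-- Maps into the cone of a multiplication. -/
theorem orth_cone_right_iff {Z : DerivedCategory A} :
    Orth Z (DerivedCategory.Q.obj (CochainComplex.mappingCone (r • 𝟙 X))) ↔
      SmulBij R r Z (DerivedCategory.Q.obj X) := by
  constructor
  · intro h n
    let T := smulTri r X
    have hTn := Triangle.shift_distinguished T (smulTri_dist r X) n
    have hTn' := Triangle.shift_distinguished T (smulTri_dist r X) (n - 1)
    have hm : ∀ m : ℤ, ((Triangle.shiftFunctor _ m).obj T).mor₁ =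
        m.negOnePow • (r • 𝟙 ((DerivedCategory.Q.obj X)⟦m⟧)) := fun m => by
      simp only [Triangle.shiftFunctor_obj, Triangle.mk_mor₁, T]
      rw [smulTri_mor₁]
      exact congrArg (m.negOnePow • ·) (shift_map_smul_id r m _)
    constructor
    · intro f g hfg
      rw [← sub_eq_zero]
      have hd : r • (f - g) = 0 := by rw [smul_sub]; exact sub_eq_zero.2 hfg
      revert hd
      generalize f - g = k
      intro hd
      let e := (shiftFunctorAdd' (DerivedCategory A) (n - 1) 1 n (by omega)).app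
        (DerivedCategory.Q.obj X)
      have h0 : (k ≫ e.hom) ≫ ((Triangle.shiftFunctor _ (n - 1)).obj T).mor₁⟦(1 : ℤ)⟧' = 0 := by
        rw [hm, Units.smul_def, Functor.map_zsmul, shift_map_smul_id, Preadditive.comp_zsmul]
        refine (congrArg _ ?_).trans (smul_zero _)
        refine (Linear.comp_smul _ _ _ _ _ _).trans ?_
        refine (congrArg (r • ·) (Category.comp_id _)).trans ?_
        change r • (k ≫ e.hom) = 0
        rw [← Linear.smul_comp, hd, zero_comp]
      obtain ⟨y, hy⟩ := Triangle.coyoneda_exact₁ _ hTn' (k ≫ e.hom) h0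
      have hy0 : y = 0 := h.eq_zero y
      rw [hy0, zero_comp] at hy
      rw [← cancel_mono e.hom, zero_comp, hy]
    · intro x
      obtain ⟨y, hy⟩ := Triangle.coyoneda_exact₂ _ hTn x (h.eq_zero _)
      refine ⟨(n.negOnePow : ℤ) • y, ?_⟩
      refine Eq.trans ?_ hy.symm
      refine Eq.trans ?_ (congrArg (y ≫ ·) (hm n)).symm
      change r • ((n.negOnePow : ℤ) • y) = y ≫ ((n.negOnePow : ℤ) • (r • 𝟙 _))
      rw [Preadditive.comp_zsmul, smul_comm r]
      exact congrArg _ ((congrArg (r • ·) (Category.comp_id y).symm).trans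
        (Linear.comp_smul _ _ _ _ _ _).symm)
  · intro h
    refine orth_tri_right (smulTri r X) (smulTri_dist r X) fun n => ?_
    rw [smulTri_mor₁]
    change Function.Bijective fun f : Z ⟶ (DerivedCategory.Q.obj X)⟦n⟧ => f ≫ _
    rw [smulBij_iff_comp]
    exact h n

lemma smul_bijective_shift {Z Y : DerivedCategory A}
    (h : SmulBij R r Z Y) (m n : ℤ) :
    Function.Bijective fun f : Z⟦m⟧ ⟶ Y⟦n⟧ => r • f := by
  let e : (Y⟦n - m⟧)⟦m⟧ ≅ Y⟦n⟧ :=
    ((shiftFunctorAdd' (DerivedCategory A) (n - m) m n (by omega)).app Y).symm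
  refine smul_bijective_of_iso r e ?_
  let s := (shiftFunctor (DerivedCategory A) m)
  let φ : (Z ⟶ Y⟦n - m⟧) ≃ (Z⟦m⟧ ⟶ (Y⟦n - m⟧)⟦m⟧) :=
    Equiv.ofBijective s.map ⟨s.map_injective, s.map_surjective⟩
  have : (fun f : Z⟦m⟧ ⟶ (Y⟦n - m⟧)⟦m⟧ => r • f) = φ ∘ (fun f => r • f) ∘ φ.symm := by
    funext f
    obtain ⟨g, rfl⟩ := φ.surjective f
    simp [φ, s, Functor.map_smul]
  rw [this]
  exact φ.bijective.comp ((h (n - m)).comp φ.symm.bijective)

/-- Maps out of the cone of a multiplication. -/
theorem orth_cone_left_iff {Y : DerivedCategory A} :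
    Orth (DerivedCategory.Q.obj (CochainComplex.mappingCone (r • 𝟙 X))) Y ↔
      SmulBij R r (DerivedCategory.Q.obj X) Y := by
  let T := smulTri r X
  have hT := smulTri_dist r X
  have hcomp : ∀ {W : DerivedCategory A} (f : T.obj₂ ⟶ W), T.mor₁ ≫ f = r • f := fun f => by
    rw [show T.mor₁ = _ from smulTri_mor₁ r]
    exact (Linear.smul_comp _ _ _ _ _ _).trans (congrArg (r • ·) (Category.id_comp f))
  constructor
  · intro h n
    constructor
    · intro f g hfg
      rw [← sub_eq_zero]
      have hd : T.mor₁ ≫ (f - g) = 0 := by rw [hcomp, smul_sub]; exact sub_eq_zero.2 hfg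
      obtain ⟨y, hy⟩ := Triangle.yoneda_exact₂ T hT _ hd
      rw [hy, h.eq_zero y, comp_zero]
    · intro x
      let x' : T.obj₁⟦(1 : ℤ)⟧ ⟶ (Y⟦n⟧)⟦(1 : ℤ)⟧ := x⟦(1 : ℤ)⟧'
      have h0 : T.mor₃ ≫ x' = 0 := ((h.shift n) 1).elim _ _
      obtain ⟨z, hz⟩ := Triangle.yoneda_exact₂ T.rotate.rotate
        (rot_of_distTriang _ (rot_of_distTriang _ hT)) _ h0
      obtain ⟨y, rfl⟩ := (shiftFunctor (DerivedCategory A) (1 : ℤ)).map_surjective
        (X := T.obj₂) (Y := Y⟦n⟧) z
      change x' = (-T.mor₁⟦(1 : ℤ)⟧') ≫ _ at hz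
      refine ⟨-y, (shiftFunctor (DerivedCategory A) (1 : ℤ)).map_injective ?_⟩
      refine (congrArg (fun z => z⟦(1 : ℤ)⟧') (hcomp (-y)).symm).trans ?_
      rw [Functor.map_comp, Functor.map_neg, Preadditive.comp_neg]
      exact ((Preadditive.neg_comp _ _).symm).trans hz.symm
  · intro h n
    refine subsingleton_of_forall_eq 0 fun g => ?_
    have h2 : T.mor₂ ≫ g = 0 := (h n).1 (by
      change r • (T.mor₂ ≫ g) = r • 0
      rw [← hcomp, ← Category.assoc, comp_distTriang_mor_zero₁₂ T hT, zero_comp, smul_zero])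
    obtain ⟨y, hy⟩ := Triangle.yoneda_exact₃ T hT g h2
    obtain ⟨y', hy'⟩ := (smul_bijective_shift r h (1 : ℤ) n).2 y
    refine hy.trans ?_
    have e : r • y' = T.mor₁⟦(1 : ℤ)⟧' ≫ y' := by
      refine Eq.trans ?_ (congrArg (· ≫ y') (smulTri_shift_mor₁ r X 1)).symm
      exact ((Linear.smul_comp _ _ _ _ _ _).trans
        (congrArg (r • ·) (Category.id_comp y'))).symm
    refine (congrArg (T.mor₃ ≫ ·) (hy'.symm.trans e)).trans ?_
    rw [← Category.assoc, comp_distTriang_mor_zero₃₁ T hT, zero_comp]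

/-- Iterated cones move across. -/
theorem orth_kos_iff : ∀ (l : List R) (X Y : CochainComplex A ℤ),
    Orth (DerivedCategory.Q.obj ((kos l).obj X)) (DerivedCategory.Q.obj Y) ↔
      Orth (DerivedCategory.Q.obj X) (DerivedCategory.Q.obj ((kos l.reverse).obj Y))
  | [], X, Y => Iff.rfl
  | r :: l, X, Y => by
    rw [List.reverse_cons, kos_append]
    exact (orth_kos_iff l (CochainComplex.mappingCone (r • 𝟙 X)) Y).trans
      ((orth_cone_left_iff r).trans (orth_cone_right_iff r).symm)

/-- An iterated cone vanishes if it receives no maps to its dual cone. -/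
theorem isZero_kos_of_orth (l : List R) (X : CochainComplex A ℤ)
    (h : Orth (DerivedCategory.Q.obj X)
      (DerivedCategory.Q.obj ((kos l.reverse).obj ((kos l).obj X)))) :
    IsZero (DerivedCategory.Q.obj ((kos l).obj X)) :=
  orth_self_iff.1 ((orth_kos_iff l X _).2 h)

lemma smul_sq_cone {s : R} (T : Triangle (DerivedCategory A))
    (hT : T ∈ distTriang (DerivedCategory A)) (h₁ : s • T.mor₂ = 0) (h₂ : s • T.mor₃ = 0) :
    (s * s) • 𝟙 T.obj₃ = 0 := by
  obtain ⟨y, hy⟩ := Triangle.yoneda_exact₃ T hT (s • 𝟙 T.obj₃) (by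
    rw [Linear.comp_smul, Category.comp_id, h₁])
  rw [mul_smul, hy, ← Linear.smul_comp, h₂, zero_comp]

/-- High powers of the members of `l` kill the iterated cone. -/
theorem exists_pow_smul_kos : ∀ (l : List R) (r : R), r ∈ l →
    ∃ N : ℕ, ∀ X : CochainComplex A ℤ, r ^ N • 𝟙 (DerivedCategory.Q.obj ((kos l).obj X)) = 0 := by
  have key : ∀ (l : List R), ∃ N : ℕ, ∀ (X : CochainComplex A ℤ) (s : R),
      s • 𝟙 (DerivedCategory.Q.obj X) = 0 →
        s ^ N • 𝟙 (DerivedCategory.Q.obj ((kos l).obj X)) = 0 := by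
    intro l
    induction l with
    | nil => exact ⟨1, fun X s h => by rw [pow_one]; exact h⟩
    | cons r l ih =>
      obtain ⟨N, hN⟩ := ih
      refine ⟨2 * N, fun X s h => ?_⟩
      have := hN (CochainComplex.mappingCone (r • 𝟙 X)) (s * s)
        (smul_sq_cone (smulTri r X) (smulTri_dist r X)
          (by
            have : (smulTri r X).mor₂ = 𝟙 (DerivedCategory.Q.obj X) ≫ (smulTri r X).mor₂ :=
              (Category.id_comp _).symm
            rw [this, ← Linear.smul_comp]
            exact (congrArg (· ≫ (smulTri r X).mor₂) h).trans zero_comp)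
          (by
            have h' : s • 𝟙 ((DerivedCategory.Q.obj X)⟦(1 : ℤ)⟧) = 0 := by
              rw [← shift_map_smul_id, h, Functor.map_zero]
            rw [← Category.comp_id (smulTri r X).mor₃, ← Linear.comp_smul]
            exact (congrArg ((smulTri r X).mor₃ ≫ ·) h').trans comp_zero))
      rw [pow_mul, pow_two]
      exact this
  intro l
  induction l with
  | nil => intro r hr; simp at hr
  | cons a l ih =>
    intro r hr
    rcases List.mem_cons.1 hr with rfl | hr
    · obtain ⟨N, hN⟩ := key l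
      refine ⟨2 * N, fun X => ?_⟩
      have hz := hN (CochainComplex.mappingCone (r • 𝟙 X)) (r * r)
        (smul_sq_cone (smulTri r X) (smulTri_dist r X)
          (by
            have := comp_distTriang_mor_zero₁₂ _ (smulTri_dist r X)
            rw [smulTri_mor₁, Linear.smul_comp] at this
            exact (congrArg (r • ·) (Category.id_comp _).symm).trans this)
          (by
            have := comp_distTriang_mor_zero₃₁ _ (smulTri_dist r X)
            replace this := (congrArg ((smulTri r X).mor₃ ≫ ·) (smulTri_shift_mor₁ r X 1)).symm.trans this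
            exact ((congrArg (r • ·) (Category.comp_id _).symm).trans
              (Linear.comp_smul _ _ _ _ _ _).symm).trans this))
      rw [pow_mul, pow_two]
      exact hz
    · obtain ⟨N, hN⟩ := ih r hr
      exact ⟨N, fun X => hN (CochainComplex.mappingCone (a • 𝟙 X))⟩

end Groth.Agent.DerCompLib
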