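import Mathlib.RingTheory.Ideal.Defs
import Mathlib.LinearAlgebra.Pi
import Mathlib.LinearAlgebra.Quotient.Basic

/-!
# Elements for which a module is derived complete, elementwise

`IsComplElt M f`: the telescope map `(x_k) ↦ (x_k - f x_{k+1})` on `M^ℕ` is bijective. These
elements form an ideal.
-/

set_option autoImplicit false

universe u v

namespace Groth.Agent.DerCompLib

variable {R : Type u} [CommRing R] (M : Type v) [AddCommGroup M] [Module R M]

/-- The telescope map. -/
def telMap (f : R) : (ℕ → M) →ₗ[R] (ℕ → M) where
  toFun x k := x k - f • x (k + 1)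
  map_add' x y := by
    funext k
    simp only [Pi.add_apply, smul_add]
    abel
  map_smul' r x := by
    funext k
    simp only [Pi.smul_apply, RingHom.id_apply, smul_sub, smul_comm f r]

@[simp] lemma telMap_apply (f : R) (x : ℕ → M) (k : ℕ) : telMap M f x k = x k - f • x (k + 1) :=
  rfl

/-- The telescope map of `f` is bijective. -/
def IsComplElt (f : R) : Prop := Function.Bijective (telMap M f)

variable {M}

lemma IsComplElt.eq_zero {f : R} (h : IsComplElt M f) {x : ℕ → M}
    (hx : ∀ k, x k = f • x (k + 1)) : x = 0 :=
  h.1 (by funext k; simp [← hx k])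

lemma isComplElt_zero : IsComplElt M (0 : R) := by
  have : (telMap M (0 : R)) = LinearMap.id := by
    ext x k
    simp
  unfold IsComplElt
  rw [this]
  exact Function.bijective_id

lemma IsComplElt.smul_left {f : R} (h : IsComplElt M f) (b : R) : IsComplElt M (b * f) := by
  refine ⟨(injective_iff_map_eq_zero (telMap M (b * f))).2 fun x hx => funext fun k => ?_,
    fun y => ?_⟩
  · have hx' : ∀ j, x j = (b * f) • x (j + 1) := fun j => sub_eq_zero.1 (congrFun hx j)
    have h0 := h.eq_zero (x := fun j => b ^ j • x (k + j)) fun j => by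
      rw [hx' (k + j), smul_smul, smul_smul, pow_succ, ← add_assoc]
      congr 1
      ring
    simpa using congrFun h0 0
  · choose u hu using fun k => h.2 fun j => b ^ j • y (k + j)
    refine ⟨fun k => u k 0, funext fun k => ?_⟩
    have hb : (fun j => b • u (k + 1) j) = fun j => u k (j + 1) := h.1 (funext fun j => by
      have e1 := congrFun (hu (k + 1)) j
      have e2 := congrFun (hu k) (j + 1)
      simp only [telMap_apply] at e1 e2 ⊢
      rw [smul_comm f b, ← smul_sub, e1, e2, smul_smul, pow_succ']
      congr 2
      omega)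
    have e := congrFun (hu k) 0
    simp only [telMap_apply, pow_zero, one_smul, add_zero, zero_add] at e ⊢
    rw [mul_comm b f, mul_smul, show b • u (k + 1) 0 = u k 1 from congrFun hb 0, e]

lemma IsComplElt.bijective_smul_one_sub {f : R} (h : IsComplElt M f) :
    Function.Bijective fun x : M => (1 - f) • x := by
  constructor
  · intro x y hxy
    refine congrFun (h.1 (a₁ := fun _ => x) (a₂ := fun _ => y) (funext fun k => ?_)) 0
    simpa [sub_smul] using hxy
  · intro y
    obtain ⟨x, hx⟩ := h.2 fun _ => y
    have hs : (fun k => x (k + 1)) = x := h.1 (funext fun k => by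
      have e1 := congrFun hx (k + 1)
      have e2 := congrFun hx k
      simp only [telMap_apply] at e1 e2 ⊢
      rw [e1, e2])
    refine ⟨x 0, ?_⟩
    have e := congrFun hx 0
    simp only [telMap_apply] at e
    rw [show x (0 + 1) = x 0 from congrFun hs 0] at e
    simpa [sub_smul] using e

/-- If `f` acts bijectively and the module is complete for `f`, it is zero. -/
lemma IsComplElt.eq_zero_of_bijective {f : R} (h : IsComplElt M f)
    (hf : Function.Bijective fun x : M => f • x) (x : M) : x = 0 := by
  choose g hg using hf.2
  let s : ℕ → M := fun k => g^[k] x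
  have := h.eq_zero (x := s) fun k => by
    simp only [s, Function.iterate_succ_apply']
    exact (hg _).symm
  exact congrFun this 0

/-- If `a + b` acts bijectively and the module is complete for `a` and for `b`, it is zero. -/
lemma eq_zero_of_bijective_add {a b : R} (ha : IsComplElt M a) (hb : IsComplElt M b)
    (hc : Function.Bijective fun x : M => (a + b) • x) (x : M) : x = 0 := by
  choose g hg using hc.2
  replace hg : ∀ y, (a + b) • g y = y := hg
  have hg' : ∀ y : M, g ((a + b) • y) = y := fun y => hc.1 (hg _)
  -- `a / (a + b)` is still complete, by transport of the solution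
  have key : ∀ (q : R), IsComplElt M q → ∀ y : M, ∃ z, z - q • g z = y := by
    intro q hq y
    obtain ⟨u, hu⟩ := hq.2 fun k => g^[k] y
    have hs : (fun k => g (u k)) = fun k => u (k + 1) := hq.1 (funext fun k => by
      have e1 := congrFun hu k
      have e2 := congrFun hu (k + 1)
      simp only [telMap_apply] at e1 e2 ⊢
      rw [e2, Function.iterate_succ_apply', ← e1]
      apply hc.1
      simp only [smul_sub, hg, smul_comm (a + b) q])
    refine ⟨u 0, ?_⟩
    have e := congrFun hu 0
    simp only [telMap_apply] at e
    rw [show g (u 0) = u (0 + 1) from congrFun hs 0]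
    exact e
  -- hence `b` acts bijectively
  have hab : ∀ y : M, y - a • g y = b • g y := fun y => by
    nth_rw 1 [← hg y]
    rw [← sub_smul, add_sub_cancel_left]
  refine hb.eq_zero_of_bijective ⟨(injective_iff_map_eq_zero (DistribSMul.toAddMonoidHom M b)).2
    fun y hy => ?_, fun y => ?_⟩ x
  · have hy' : b • y = 0 := hy
    have : ∀ k, g^[k] y = a • g^[k + 1] y := fun k => by
      have h0 : ∀ k, b • g^[k] y = 0 := by
        intro k
        induction k with
        | zero => exact hy'
        | succ k ih =>
          apply hc.1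
          simp only [smul_zero, Function.iterate_succ_apply', smul_comm (a + b) b, hg, ih]
      nth_rw 1 [show g^[k] y = (a + b) • g^[k + 1] y by
        rw [Function.iterate_succ_apply', hg]]
      rw [add_smul, h0, add_zero]
    exact congrFun (ha.eq_zero this) 0
  · obtain ⟨z, hz⟩ := key a ha y
    exact ⟨g z, (hab z).symm.trans hz⟩

lemma isComplElt_ker {a c : R} (h : IsComplElt M a) :
    IsComplElt (LinearMap.ker (telMap M c)) a := by
  refine ⟨(injective_iff_map_eq_zero (telMap _ a)).2 fun x hx => funext fun k => Subtype.ext ?_,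
    fun y => ?_⟩
  · funext j
    refine congrFun (h.eq_zero (x := fun k => (x k : ℕ → M) j) fun k => ?_) k
    exact sub_eq_zero.1 (congrFun (congrArg Subtype.val (congrFun hx k)) j)
  · choose u hu using fun j => h.2 fun k => (y k : ℕ → M) j
    refine ⟨fun k => ⟨fun j => u j k, LinearMap.mem_ker.2 (funext fun j => ?_)⟩, ?_⟩
    · refine congrFun (h.eq_zero (x := fun k => u j k - c • u (j + 1) k) fun k => ?_) k
      have e1 := congrFun (hu j) k
      have e2 := congrFun (hu (j + 1)) k
      have e3 := congrFun (y k).2 j
      simp only [telMap_apply, Pi.zero_apply] at e1 e2 e3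
      rw [← sub_eq_zero, ← e3, ← e1, ← e2]
      simp only [smul_sub, smul_comm a c]
      abel
    · exact funext fun k => Subtype.ext (funext fun j => congrFun (hu j) k)

lemma isComplElt_quot {a c : R} (h : IsComplElt M a) :
    IsComplElt ((ℕ → M) ⧸ LinearMap.range (telMap M c)) a := by
  let π := (LinearMap.range (telMap M c)).mkQ
  refine ⟨(injective_iff_map_eq_zero (telMap _ a)).2 fun x hx => ?_, fun y => ?_⟩
  · choose x' hx' using fun k => Submodule.mkQ_surjective (LinearMap.range (telMap M c)) (x k)
    have : ∀ k, π (x' k - a • x' (k + 1)) = 0 := fun k => by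
      rw [map_sub, map_smul]
      simp only [π, hx']
      exact congrFun hx k
    choose z hz using fun k => (Submodule.Quotient.mk_eq_zero _).1 (this k)
    choose w hw using fun j => h.2 fun k => z k j
    have e : ∀ k, x' k = telMap M c (fun j => w j k) := fun k => by
      funext j
      refine sub_eq_zero.1 (congrFun (h.eq_zero
        (x := fun k => x' k j - telMap M c (fun j => w j k) j) fun k => ?_) k)
      have e1 := congrFun (hz k) j
      have e2 := congrFun (hw j) k
      have e3 := congrFun (hw (j + 1)) k
      simp only [telMap_apply, Pi.sub_apply, Pi.smul_apply] at e1 e2 e3 ⊢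
      rw [← sub_eq_zero]
      rw [← e2, ← e3] at e1
      simp only [smul_sub, smul_comm a c] at e1 ⊢
      rw [← sub_eq_zero] at e1
      refine Eq.trans ?_ (neg_eq_zero.2 e1)
      abel
    funext k
    rw [← hx' k, e k]
    exact (Submodule.Quotient.mk_eq_zero _).2 ⟨_, rfl⟩
  · choose y' hy' using fun k => Submodule.mkQ_surjective (LinearMap.range (telMap M c)) (y k)
    choose u hu using fun j => h.2 fun k => y' k j
    refine ⟨fun k => π fun j => u j k, funext fun k => ?_⟩
    rw [telMap_apply, ← map_smul, ← map_sub, ← hy' k]
    exact congrArg π (funext fun j => congrFun (hu j) k)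

lemma bijective_smul_ker (c : R) :
    Function.Bijective fun x : LinearMap.ker (telMap M c) => c • x := by
  refine ⟨fun x y hxy => Subtype.ext (funext fun j => ?_), fun y => ?_⟩
  · have e : c • (x : ℕ → M) (j + 1) = c • (y : ℕ → M) (j + 1) :=
      congrFun (congrArg Subtype.val hxy) (j + 1)
    rwa [← sub_eq_zero.1 (congrFun x.2 j), ← sub_eq_zero.1 (congrFun y.2 j)] at e
  · refine ⟨⟨fun j => (y : ℕ → M) (j + 1), ?_⟩, Subtype.ext (funext fun j => ?_)⟩
    · exact LinearMap.mem_ker.2 (funext fun j => congrFun y.2 (j + 1))
    · exact (sub_eq_zero.1 (congrFun y.2 j)).symm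

lemma bijective_smul_quot (c : R) :
    Function.Bijective fun x : (ℕ → M) ⧸ LinearMap.range (telMap M c) => c • x := by
  let π := (LinearMap.range (telMap M c)).mkQ
  have e : ∀ x : ℕ → M, π x = c • π fun j => x (j + 1) := fun x => by
    rw [← sub_eq_zero, ← map_smul, ← map_sub]
    exact (Submodule.Quotient.mk_eq_zero _).2 ⟨x, rfl⟩
  refine ⟨(injective_iff_map_eq_zero (DistribSMul.toAddMonoidHom _ c)).2 fun x hx => ?_, fun y => ?_⟩
  · obtain ⟨x, rfl⟩ := Submodule.mkQ_surjective _ x
    obtain ⟨z, hz⟩ := (Submodule.Quotient.mk_eq_zero _).1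
      (show π (c • x) = 0 by rw [map_smul]; exact hx)
    rw [e x, ← map_smul]
    refine (Submodule.Quotient.mk_eq_zero _).2 ⟨fun j => z (j + 1), funext fun j => ?_⟩
    exact congrFun hz (j + 1)
  · obtain ⟨y, rfl⟩ := Submodule.mkQ_surjective _ y
    exact ⟨_, (e y).symm⟩

theorem IsComplElt.add {a b : R} (ha : IsComplElt M a) (hb : IsComplElt M b) :
    IsComplElt M (a + b) := by
  refine ⟨(injective_iff_map_eq_zero (telMap M (a + b))).2 fun x hx => ?_, fun y => ?_⟩
  · exact congrArg Subtype.val (eq_zero_of_bijective_add (isComplElt_ker (c := a + b) ha)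
      (isComplElt_ker (c := a + b) hb) (bijective_smul_ker (a + b)) ⟨x, hx⟩)
  · exact (Submodule.Quotient.mk_eq_zero _).1 (eq_zero_of_bijective_add
      (isComplElt_quot (c := a + b) ha) (isComplElt_quot (c := a + b) hb)
      (bijective_smul_quot (a + b)) ((LinearMap.range (telMap M (a + b))).mkQ y))

variable (R M) in
/-- The ideal of elements for which `M` is complete. -/
def complIdeal : Ideal R where
  carrier := {f | IsComplElt M f}
  zero_mem' := isComplElt_zero
  add_mem' := IsComplElt.add
  smul_mem' b _ h := IsComplElt.smul_left h b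

lemma mem_complIdeal {f : R} : f ∈ complIdeal R M ↔ IsComplElt M f := Iff.rfl

/-- Completeness only depends on the module through its additive group and the action of `f`. -/
lemma isComplElt_congr {S : Type*} [CommRing S] {N : Type*} [AddCommGroup N] [Module S N]
    {f : R} {g : S} (e : M ≃+ N) (he : ∀ x, e (f • x) = g • e x) :
    IsComplElt M f ↔ IsComplElt N g := by
  let E : (ℕ → M) ≃ (ℕ → N) := (Equiv.refl ℕ).arrowCongr e.toEquiv
  have : telMap N g ∘ E = E ∘ telMap M f := by
    funext x k
    simp [E, he]
  rw [IsComplElt, IsComplElt, ← Function.Bijective.of_comp_iff' E.bijective, ← this,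
    Function.Bijective.of_comp_iff _ E.bijective]

end Groth.Agent.DerCompLib
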