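import Groth.Agent.DerCompLib.SecEquiv
import Groth.Agent.DerCompLib.ComplAlg
import Groth.Agent.DCat.Amplitude
import Groth.Agent.DCat.Hocolim
import Groth.Agent.DCat.ModulesGrothendieck
import Groth.Agent.DCat.KInjRes

/-!
# Derived completeness on a ringed site through cohomology of sections

For a K-injective complex `J` with injective terms representing `K`, the object `K` is derived
complete for `I` iff, for all `U`, every `f ∈ I(U)` lies in the ideal of elements for which all
`H^i(J(U))` are complete (`IsComplElt`).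
-/

set_option autoImplicit false
set_option backward.isDefEq.respectTransparency false

universe w v u

open CategoryTheory CategoryTheory.Limits Opposite

attribute [local instance] HasDerivedCategory.standard

namespace Groth.Agent.DerCompLib

section Telescope

variable {A : Type u} [Category.{v} A] [Abelian A] [HasColimitsOfShape (Discrete ℕ) A]

/-- `ι n - g ≫ ι (n + 1)`. -/
noncomputable def telEnd {G : A} (g : G ⟶ G) : (∐ fun _ : ℕ => G) ⟶ ∐ fun _ : ℕ => G :=
  Sigma.desc fun n => Sigma.ι (fun _ : ℕ => G) n - g ≫ Sigma.ι (fun _ : ℕ => G) (n + 1)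

theorem mono_telEnd [HasColimitsOfShape ℕ A] [HasExactColimitsOfShape ℕ A] {G : A} (g : G ⟶ G) :
    Mono (telEnd g) := by
  let F : ℕ ⥤ A := Functor.ofSequence (X := fun _ => G) fun _ => g
  haveI : HasCoproduct F.obj := inferInstanceAs (HasCoproduct fun _ : ℕ => G)
  obtain ⟨w, hS⟩ := DCat.shortExact_telescope F DCat.seqMono_of_exact
  have e : telEnd g = 𝟙 (∐ F.obj) - DerLim.shiftMap F.obj
      (fun n => F.map (homOfLE (Nat.le_succ n))) := Sigma.hom_ext _ _ fun n => by
    refine (Sigma.ι_desc _ _).trans ?_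
    simp [DerLim.shiftMap, F, Preadditive.comp_sub, Functor.ofSequence_map_homOfLE_succ]
    erw [Category.comp_id, Sigma.ι_desc]
    rfl
  rw [e]
  exact hS.mono_f

variable [HasDerivedCategory.{w} A]

/-- All classes of `X` in the complex `J` vanish. -/
def AcycAt (X : A) (J : CochainComplex A ℤ) : Prop :=
  ∀ (i : ℤ) (f : X ⟶ J.X i), f ≫ J.d i (i + 1) = 0 → ∃ h : X ⟶ J.X (i - 1), f = h ≫ J.d (i - 1) i

omit [HasColimitsOfShape (Discrete ℕ) A] [HasDerivedCategory.{w} A] in
lemma AcycAt.of_iso {X Y : A} {J : CochainComplex A ℤ} (h : AcycAt X J) (e : X ≅ Y) :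
    AcycAt Y J := fun i f hf => by
  obtain ⟨k, hk⟩ := h i (e.hom ≫ f) (by rw [Category.assoc, hf, comp_zero])
  exact ⟨e.inv ≫ k, by rw [Category.assoc, ← hk, e.inv_hom_id_assoc]⟩

omit [HasColimitsOfShape (Discrete ℕ) A] in
theorem subsingleton_iff_acycAt {K : DerivedCategory A} (J : CochainComplex A ℤ) [J.IsKInjective]
    (e : K ≅ DerivedCategory.Q.obj J) (X : A) :
    (∀ n : ℤ, Subsingleton ((DerivedCategory.singleFunctor A 0).obj X ⟶ K⟦n⟧)) ↔ AcycAt X J := by
  have h : ∀ n : ℤ, Subsingleton ((DerivedCategory.singleFunctor A 0).obj X ⟶ K⟦n⟧) ↔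
      ∀ f : X ⟶ J.X n, f ≫ J.d n (n + 1) = 0 → ∃ h : X ⟶ J.X (n - 1), f = h ≫ J.d (n - 1) n :=
    fun n => (subsingleton_iff_forall_eq 0).trans
      ((DCat.Amplitude.from_shift_iff e X n).trans (DCat.Amplitude.from_single_iff J X n))
  exact forall_congr' h

end Telescope

variable {C : Type u} [SmallCategory C] {J : GrothendieckTopology C} {O : Sheaf J CommRingCat.{u}}

section Sections

variable (L : CochainComplex (ModSite.Mod O) ℤ) (U : C)

/-- Cycles of the complex of sections. -/
noncomputable abbrev secCyc (i : ℤ) : Submodule (O.obj.obj (op U)) (Sec (L.X i) U) :=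
  LinearMap.ker (secMap (L.d i (i + 1)) U)

/-- Boundaries of the complex of sections. -/
noncomputable abbrev secBdry (i : ℤ) : Submodule (O.obj.obj (op U)) (secCyc L U i) :=
  (LinearMap.range (secMap (L.d (i - 1) i) U)).comap (secCyc L U i).subtype

/-- Cohomology of the complex of sections over `U`. -/
abbrev secH (i : ℤ) : Type u := secCyc L U i ⧸ secBdry L U i

lemma secMap_d_d (a b c : ℤ) (x : Sec (L.X a) U) :
    secMap (L.d b c) U (secMap (L.d a b) U x) = 0 := by
  rw [← secMap_comp, L.d_comp_d]
  rfl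

variable {L U}

lemma secH_mk_eq_zero {i : ℤ} (x : secCyc L U i) :
    (secBdry L U i).mkQ x = 0 ↔ ∃ h, secMap (L.d (i - 1) i) U h = (x : Sec (L.X i) U) :=
  Submodule.Quotient.mk_eq_zero _

/-- All `f ∈ O(U)` for which every `H^i(L(U))` is complete. -/
noncomputable def secIdeal (L : CochainComplex (ModSite.Mod O) ℤ) (U : C) : Ideal (O.obj.obj (op U)) :=
  ⨅ i : ℤ, complIdeal (O.obj.obj (op U)) (secH L U i)

lemma mem_secIdeal {f : O.obj.obj (op U)} :
    f ∈ secIdeal L U ↔ ∀ i : ℤ, IsComplElt (secH L U i) f := by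
  simp [secIdeal, Submodule.mem_iInf, mem_complIdeal]

variable (L U)

/-- The criterion on sections for the vanishing of all classes of the localisation. -/
theorem acyclic_sections_iff (f : O.obj.obj (op U))
    (hsurj : ∀ i, Function.Surjective (telMap (Sec (L.X i) U) f)) :
    (∀ (i : ℤ) (x : ℕ → Sec (L.X i) U), telMap (Sec (L.X i) U) f x = 0 →
      (∀ k, secMap (L.d i (i + 1)) U (x k) = 0) →
      ∃ h, telMap (Sec (L.X (i - 1)) U) f h = 0 ∧ ∀ k, x k = secMap (L.d (i - 1) i) U (h k)) ↔
    f ∈ secIdeal L U := by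
  rw [mem_secIdeal]
  constructor
  · intro hac i
    refine ⟨(injective_iff_map_eq_zero (telMap _ f)).2 fun x hx => ?_, fun y => ?_⟩
    · choose x' hx' using fun k => Submodule.mkQ_surjective (secBdry L U i) (x k)
      choose w hw using fun k => (secH_mk_eq_zero (x' k - f • x' (k + 1))).1 (by
        rw [map_sub, map_smul, hx', hx']
        exact congrFun hx k)
      obtain ⟨w', hw'⟩ := hsurj (i - 1) w
      let z : ℕ → Sec (L.X i) U := fun k => (x' k : Sec (L.X i) U) - secMap (L.d (i - 1) i) U (w' k)
      have hz : telMap (Sec (L.X i) U) f z = 0 := funext fun k => by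
        have e1 := hw k
        have e2 := congrFun hw' k
        simp only [telMap_apply] at e2
        simp only [telMap_apply, z, Pi.zero_apply, smul_sub, ← map_smul]
        rw [← e2, map_sub] at e1
        simp only [Submodule.coe_sub, Submodule.coe_smul] at e1
        rw [← sub_eq_zero] at e1
        refine Eq.trans ?_ (neg_eq_zero.2 e1)
        abel
      obtain ⟨h, -, hh⟩ := hac i z hz fun k => by
        simp only [z, map_sub, secMap_d_d, sub_zero]
        exact (x' k).2
      funext k
      rw [← hx' k]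
      exact (secH_mk_eq_zero _).2 ⟨h k + w' k, by rw [map_add, ← hh k]; simp [z]⟩
    · choose y' hy' using fun k => Submodule.mkQ_surjective (secBdry L U i) (y k)
      obtain ⟨x, hx⟩ := hsurj i fun k => (y' k : Sec (L.X i) U)
      obtain ⟨h, hh0, hh⟩ := hac (i + 1) (fun k => secMap (L.d i (i + 1)) U (x k))
        (funext fun k => by
          have e := congrFun hx k
          simp only [telMap_apply] at e ⊢
          rw [← map_smul, ← map_sub, e]
          exact (y' k).2)
        (fun k => secMap_d_d L U _ _ _ _)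
      have hi : i + 1 - 1 = i := by omega
      have key : ∃ h : ℕ → Sec (L.X i) U, telMap (Sec (L.X i) U) f h = 0 ∧
          ∀ k, secMap (L.d i (i + 1)) U (x k) = secMap (L.d i (i + 1)) U (h k) := by
        revert h
        generalize i + 1 - 1 = j at hi
        subst hi
        exact fun h h0 hh => ⟨h, h0, hh⟩
      obtain ⟨h', hh0', hh'⟩ := key
      refine ⟨fun k => (secBdry L U i).mkQ ⟨x k - h' k, LinearMap.mem_ker.2 (by
        rw [map_sub, hh' k, sub_self])⟩, funext fun k => ?_⟩
      rw [telMap_apply, ← map_smul, ← map_sub, ← hy' k]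
      refine congrArg _ (Subtype.ext ?_)
      have e1 := congrFun hx k
      have e2 := congrFun hh0' k
      simp only [telMap_apply, Pi.zero_apply] at e1 e2
      change (x k - h' k) - f • (x (k + 1) - h' (k + 1)) = _
      rw [← e1, ← sub_eq_zero, ← neg_eq_zero.2 e2, smul_sub]
      abel
  · intro hf i x hx hxd
    have h0 : (fun k => (secBdry L U i).mkQ ⟨x k, hxd k⟩) = 0 := by
      refine (hf i).eq_zero fun k => ?_
      rw [← map_smul]
      exact congrArg _ (Subtype.ext (sub_eq_zero.1 (congrFun hx k)))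
    choose w hw using fun k => (secH_mk_eq_zero ⟨x k, hxd k⟩).1 (congrFun h0 k)
    have hi : i - 1 + 1 = i := by omega
    have hy : ∀ k, secMap (L.d (i - 1) (i - 1 + 1)) U (w k - f • w (k + 1)) = 0 := by
      intro k
      generalize hj : i - 1 + 1 = j
      obtain rfl : j = i := by omega
      rw [map_sub, map_smul, hw, hw]
      exact congrFun hx k
    obtain ⟨z, hz⟩ := (hf (i - 1)).2 fun k =>
      (secBdry L U (i - 1)).mkQ ⟨w k - f • w (k + 1), hy k⟩
    choose z' hz' using fun k => Submodule.mkQ_surjective (secBdry L U (i - 1)) (z k)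
    choose v hv using fun k => (secH_mk_eq_zero
      (⟨w k - f • w (k + 1), hy k⟩ - (z' k - f • z' (k + 1)))).1 (by
        rw [map_sub, map_sub, map_smul, hz', hz', sub_eq_zero]
        exact (congrFun hz k).symm)
    obtain ⟨v', hv'⟩ := hsurj (i - 1 - 1) v
    refine ⟨fun k => w k - (z' k : Sec (L.X (i - 1)) U) - secMap (L.d (i - 1 - 1) (i - 1)) U (v' k),
      funext fun k => ?_, fun k => ?_⟩
    · have e1 := hv k
      have e2 := congrFun hv' k
      simp only [telMap_apply] at e2
      rw [← e2, map_sub, map_smul] at e1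
      simp only [Submodule.coe_sub, Submodule.coe_smul] at e1
      rw [← sub_eq_zero] at e1
      simp only [telMap_apply, Pi.zero_apply, smul_sub]
      refine Eq.trans ?_ (neg_eq_zero.2 e1)
      abel
    · have hz0 : secMap (L.d (i - 1) i) U (z' k : Sec (L.X (i - 1)) U) = 0 := by
        have := LinearMap.mem_ker.1 (z' k).2
        revert this
        generalize (z' k : Sec (L.X (i - 1)) U) = z₀
        generalize hj : i - 1 + 1 = j
        obtain rfl : j = i := by omega
        exact fun h => h
      rw [map_sub, map_sub, hz0, secMap_d_d, hw]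
      simp

end Sections

/-- Maps out of a countable sum of copies of `j_{U!} O_U` are sequences of sections. -/
noncomputable def seqEquiv (U : C) (M : ModSite.Mod O) :
    ((∐ fun _ : ℕ => ModSite.freeOn O U) ⟶ M) ≃+ (ℕ → Sec M U) where
  toFun φ k := secEquiv U M (Sigma.ι (fun _ : ℕ => ModSite.freeOn O U) k ≫ φ)
  invFun x := Sigma.desc fun k => (secEquiv U M).symm (x k)
  left_inv φ := Sigma.hom_ext _ _ fun k => by simp
  right_inv x := by funext k; simp
  map_add' a b := by
    funext k
    simp [Preadditive.comp_add]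

lemma seqEquiv_comp (U : C) {M N : ModSite.Mod O} (φ : (∐ fun _ : ℕ => ModSite.freeOn O U) ⟶ M)
    (q : M ⟶ N) (k : ℕ) : seqEquiv U N (φ ≫ q) k = secMap q U (seqEquiv U M φ k) := by
  change secEquiv U N (_ ≫ φ ≫ q) = _
  rw [← Category.assoc, secEquiv_comp]
  rfl

lemma seqEquiv_telEnd (U : C) {M : ModSite.Mod O} (f : O.obj.obj (op U))
    (φ : (∐ fun _ : ℕ => ModSite.freeOn O U) ⟶ M) :
    seqEquiv U M (telEnd (gEnd U f) ≫ φ) = telMap (Sec M U) f (seqEquiv U M φ) := by
  funext k
  change secEquiv U M (_ ≫ telEnd (gEnd U f) ≫ φ) = _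
  rw [telEnd, Sigma.ι_desc_assoc, Preadditive.sub_comp, map_sub, Category.assoc, secEquiv_gEnd]
  rfl

/-- Sequential colimits of sheaves of modules are exact. -/
theorem exactColimitsNat : HasExactColimitsOfShape ℕ (ModSite.Mod O) :=
  haveI := AB5OfSize_of_univLE.{0, 0, u, u} (ModSite.Mod O)
  inferInstance

theorem surjective_telMap_sec (U : C) (f : O.obj.obj (op U)) (M : ModSite.Mod O) [Injective M] :
    Function.Surjective (telMap (Sec M U) f) := by
  intro y
  obtain ⟨φ, rfl⟩ := (seqEquiv U M).surjective y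
  haveI : HasExactColimitsOfShape ℕ (ModSite.Mod O) := exactColimitsNat
  haveI := mono_telEnd (gEnd U f)
  exact ⟨seqEquiv U M (Injective.factorThru φ (telEnd (gEnd U f))),
    by rw [← seqEquiv_telEnd, Injective.comp_factorThru]⟩

lemma ι_map_coproductIso_hom {A B : Type*} [Category A] [Category B] (F : A ⥤ B) {ι : Type*}
    (g : ι → A) [HasCoproduct g] [HasCoproduct fun i => F.obj (g i)]
    [PreservesColimit (Discrete.functor g) F] (k : ι) :
    F.map (Sigma.ι g k) ≫ (PreservesCoproduct.iso F g).hom = Sigma.ι (fun i => F.obj (g i)) k := by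
  rw [← cancel_mono (PreservesCoproduct.iso F g).inv, Category.assoc, Iso.hom_inv_id,
    Category.comp_id, PreservesCoproduct.inv_hom, ι_comp_sigmaComparison]

/-- `j_{U!} O_{U,f}` is the cokernel of the telescope. -/
noncomputable def extZeroAwayIso (U : C) (f : O.obj.obj (op U)) :
    (ModSite.extZero O U).obj (DerComp.awayOver O U f) ≅ cokernel (telEnd (gEnd U f)) :=
  PreservesCokernel.iso (ModSite.extZero O U) _ ≪≫
    cokernel.mapIso _ (telEnd (gEnd U f))
      (PreservesCoproduct.iso (ModSite.extZero O U) _) (PreservesCoproduct.iso (ModSite.extZero O U) _)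
      (by
        rw [← cancel_epi (PreservesCoproduct.iso (ModSite.extZero O U) _).inv,
          Iso.inv_hom_id_assoc, PreservesCoproduct.inv_hom]
        refine Sigma.hom_ext _ _ fun k => ?_
        rw [ι_comp_sigmaComparison_assoc, ← Functor.map_comp_assoc, DerComp.awayMap, Sigma.ι_desc,
          telEnd, Sigma.ι_desc, Functor.map_sub, Functor.map_comp, Preadditive.sub_comp,
          Category.assoc, ι_map_coproductIso_hom, ι_map_coproductIso_hom])

theorem acycAt_extZero_away_iff (L : CochainComplex (ModSite.Mod O) ℤ)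
    (hL : ∀ i, Injective (L.X i)) (U : C) (f : O.obj.obj (op U)) :
    AcycAt ((ModSite.extZero O U).obj (DerComp.awayOver O U f)) L ↔ f ∈ secIdeal L U := by
  rw [← acyclic_sections_iff L U f fun i => haveI := hL i; surjective_telMap_sec U f _]
  constructor
  · intro h i x hx hxd
    obtain ⟨φ, rfl⟩ := (seqEquiv U (L.X i)).surjective x
    have h0 : telEnd (gEnd U f) ≫ φ = 0 := (seqEquiv U (L.X i)).injective (by
      rw [seqEquiv_telEnd, map_zero, hx])
    obtain ⟨k, hk⟩ := (h.of_iso (extZeroAwayIso U f)) i (cokernel.desc _ φ h0)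
      (coequalizer.hom_ext ((seqEquiv U _).injective (funext fun k => by
        rw [cokernel.π_desc_assoc, seqEquiv_comp, hxd k, comp_zero, map_zero]
        rfl)))
    refine ⟨seqEquiv U _ (cokernel.π _ ≫ k), ?_, fun j => ?_⟩
    · rw [← seqEquiv_telEnd, cokernel.condition_assoc, zero_comp, map_zero]
    · rw [← seqEquiv_comp, Category.assoc, ← hk, cokernel.π_desc]
  · intro h
    refine AcycAt.of_iso (fun i φ hφ => ?_) (extZeroAwayIso U f).symm
    obtain ⟨h', h0, hh⟩ := h i (seqEquiv U _ (cokernel.π _ ≫ φ))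
      (by rw [← seqEquiv_telEnd, cokernel.condition_assoc, zero_comp, map_zero])
      (fun k => by rw [← seqEquiv_comp, Category.assoc, hφ, comp_zero, map_zero]; rfl)
    obtain ⟨ψ, rfl⟩ := (seqEquiv U (L.X (i - 1))).surjective h'
    refine ⟨cokernel.desc _ ψ ((seqEquiv U _).injective (by rw [seqEquiv_telEnd, map_zero, h0])),
      coequalizer.hom_ext ((seqEquiv U _).injective (funext fun k => ?_))⟩
    rw [cokernel.π_desc_assoc, seqEquiv_comp]
    exact hh k

/-- The criterion for the defining condition of derived completeness at `(U, f)`. -/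
theorem subsingleton_extZero_away_iff {K : DerivedCategory (ModSite.Mod O)}
    (L : CochainComplex (ModSite.Mod O) ℤ) [L.IsKInjective] (hL : ∀ i, Injective (L.X i))
    (e : K ≅ DerivedCategory.Q.obj L) (U : C) (f : O.obj.obj (op U)) :
    (∀ n : ℤ, Subsingleton
      (SiteCmp.inD O ((ModSite.extZero O U).obj (DerComp.awayOver O U f)) ⟶ K⟦n⟧)) ↔
      f ∈ secIdeal L U :=
  (subsingleton_iff_acycAt L e _).trans (acycAt_extZero_away_iff L hL U f)

theorem isDerComp_iff_secIdeal {K : DerivedCategory (ModSite.Mod O)}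
    (L : CochainComplex (ModSite.Mod O) ℤ) [L.IsKInjective] (hL : ∀ i, Injective (L.X i))
    (e : K ≅ DerivedCategory.Q.obj L) (I : DerComp.IdealSh O) :
    DerComp.IsDerComp O I K ↔ ∀ U, I.ideal U ≤ secIdeal L U :=
  forall_congr' fun U => forall_congr' fun f => forall_congr' fun _ =>
    subsingleton_extZero_away_iff L hL e U f

theorem exists_kInj_rep (K : DerivedCategory (ModSite.Mod O)) :
    ∃ L : CochainComplex (ModSite.Mod O) ℤ, L.IsKInjective ∧ (∀ i, Injective (L.X i)) ∧
      Nonempty (K ≅ DerivedCategory.Q.obj L) := by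
  obtain ⟨M, s, hM, hs, -, hI⟩ := DCat.exists_kInj_res (DerivedCategory.Q.objPreimage K)
  exact ⟨M, hM, hI, ⟨(DerivedCategory.Q.objObjPreimageIso K).symm ≪≫
    asIso (DerivedCategory.Q.map s)⟩⟩

end Groth.Agent.DerCompLib
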