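import Groth.Agent.DerCompLib.KoszulPush
import Mathlib.CategoryTheory.Sites.CoverPreserving

/-!
# Local spans of generators

The sections locally in the span of a finite family form sheaves of ideals, so generators of a sheaf
of ideals, and their images under a morphism of ringed sites, span it locally.
-/

set_option autoImplicit false
set_option backward.isDefEq.respectTransparency false

universe u

open CategoryTheory CategoryTheory.Limits Opposite

namespace Groth.Agent.DerCompLib

variable {C : Type u} [SmallCategory C] {J : GrothendieckTopology C} {O : Sheaf J CommRingCat.{u}}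

lemma res_res {X Y Z : C} (k : Y ⟶ X) (m : Z ⟶ Y) (z : O.obj.obj (op X)) :
    (O.obj.map m.op).hom ((O.obj.map k.op).hom z) = (O.obj.map (m ≫ k).op).hom z := by
  rw [← CommRingCat.comp_apply, ← Functor.map_comp, ← op_comp]

variable {V : C} {r : ℕ} (a : Fin r → O.obj.obj (op V))

/-- Sections over objects over `V` locally in the span of `a`. -/
noncomputable def spanSh : DerComp.IdealSh (O.over V) where
  ideal Y :=
    { carrier := {z | ∃ R ∈ J Y.left, ∀ ⦃Z : C⦄ (k : Z ⟶ Y.left), R k →
        (O.obj.map k.op).hom z ∈ resSpan a (k ≫ Y.hom)}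
      add_mem' := fun {z z'} ⟨R, hR, h⟩ ⟨R', hR', h'⟩ => ⟨R ⊓ R', J.intersection_covering hR hR',
        fun Z k hk => by
          have e : (O.obj.map k.op).hom (z + z') =
              (O.obj.map k.op).hom z + (O.obj.map k.op).hom z' := map_add _ _ _
          exact e ▸ (resSpan a (k ≫ Y.hom)).add_mem (h k hk.1) (h' k hk.2)⟩
      zero_mem' := ⟨⊤, J.top_mem _, fun Z k _ => by
        have e : (O.obj.map k.op).hom (0 : O.obj.obj (op Y.left)) = 0 := map_zero _
        exact e.symm ▸ Submodule.zero_mem _⟩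
      smul_mem' := fun c z ⟨R, hR, h⟩ => ⟨R, hR, fun Z k hk => by
        have e : (O.obj.map k.op).hom (c * z) =
            (O.obj.map k.op).hom c * (O.obj.map k.op).hom z := map_mul _ _ _
        exact e ▸ (resSpan a (k ≫ Y.hom)).mul_mem_left _ (h k hk)⟩ }
  map_mem {Y Y'} g z := fun ⟨R, hR, h⟩ => ⟨R.pullback g.left, J.pullback_stable _ hR, fun Z k hk => by
    have := h (k ≫ g.left) hk
    rw [Category.assoc, Over.w g, ← res_res] at this
    exact this⟩
  glue {Y z} S hS h := by
    choose R hR hRk using fun (Z : C) (k : Z ⟶ Y.left) (hk : Sieve.overEquiv Y S k) =>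
      h (Over.homMk k : Over.mk (k ≫ Y.hom) ⟶ Y) ((Sieve.overEquiv_iff S k).1 hk)
    refine ⟨Sieve.bind (Sieve.overEquiv Y S).1 fun Z k hk => R Z k hk,
      J.bind_covering ((GrothendieckTopology.mem_over_iff _ _).1 hS) fun Z k hk => hR Z k hk, ?_⟩
    rintro W _ ⟨Z, m, k, hk, hm, rfl⟩
    rw [Category.assoc, ← res_res]
    exact hRk Z k hk m hm

lemma mem_spanSh_self (j : Fin r) (Y : Over V) :
    (O.obj.map Y.hom.op).hom (a j) ∈ (spanSh a).ideal Y :=
  ⟨⊤, J.top_mem _, fun Z k _ => by
    rw [res_res]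
    exact Ideal.subset_span ⟨j, rfl⟩⟩

lemma locallyInSpan_iff {W : C} (f : O.obj.obj (op W)) :
    LocallyInSpan a f ↔ ∀ ⦃X : C⦄ (h : X ⟶ V) (g : X ⟶ W),
      (O.obj.map g.op).hom f ∈ (spanSh a).ideal (Over.mk h) := by
  refine forall_congr' fun X => forall_congr' fun h => forall_congr' fun g => exists_congr fun R =>
    and_congr_right fun _ => forall_congr' fun Z => forall_congr' fun k => imp_congr_right fun _ => ?_
  exact (res_res g k f).symm ▸ Iff.rfl

/-- Generators of `I|_V` span `I` locally. -/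
theorem locallyInSpan_of_genBy (I : DerComp.IdealSh O)
    (h : (I.over V).IsGenBy fun j => DerComp.GSec.ofSect O V (a j)) {W : C}
    {f : O.obj.obj (op W)} (hf : f ∈ I.ideal W) : LocallyInSpan a f :=
  (locallyInSpan_iff a f).2 fun X k g =>
    h.2 (spanSh a) (fun j Y => mem_spanSh_self a j Y) (Over.mk k) (I.map_mem g hf)

/-- Sections locally in the span of `a` over `V`, as a sheaf of ideals of `O`. -/
noncomputable def localSpanSh : DerComp.IdealSh O where
  ideal W := ⨅ (X : C) (h : X ⟶ V) (g : X ⟶ W),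
    ((spanSh a).ideal (Over.mk h)).comap (O.obj.map g.op).hom
  map_mem {W W'} m f hf := by
    simp only [Submodule.mem_iInf, Ideal.mem_comap] at hf ⊢
    intro X h g
    exact (res_res m g f).symm ▸ hf X h (g ≫ m)
  glue {W f} S hS hloc := by
    simp only [Submodule.mem_iInf, Ideal.mem_comap]
    intro X h g
    refine (spanSh a).glue ((Sieve.overEquiv (Over.mk h)).symm (S.pullback g)) ?_ fun Z k hk => ?_
    · rw [GrothendieckTopology.mem_over_iff]
      refine (congrArg (· ∈ J X) ((Sieve.overEquiv (Over.mk h)).apply_symm_apply (S.pullback g))).mpr ?_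
      exact J.pullback_stable g hS
    · rw [Sieve.overEquiv_symm_iff] at hk
      have hz := hloc (k.left ≫ g) hk
      simp only [Submodule.mem_iInf, Ideal.mem_comap] at hz
      have := hz Z.left Z.hom (𝟙 _)
      exact (res_res g k.left f).symm ▸ ((res_res (k.left ≫ g) (𝟙 Z.left) f).trans
        (by rw [Category.id_comp])) ▸ this

lemma mem_localSpanSh {W : C} (f : O.obj.obj (op W)) :
    f ∈ (localSpanSh a).ideal W ↔ LocallyInSpan a f := by
  rw [locallyInSpan_iff]
  simp only [localSpanSh, Submodule.mem_iInf, Ideal.mem_comap]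
  exact Iff.rfl

section Push

variable {D : Type u} [SmallCategory D] {K : GrothendieckTopology D} {OD : Sheaf K CommRingCat.{u}}
  (S : SecData O OD)

/-- Images of local spans are local spans. -/
theorem locallyInSpan_push [S.fn.IsContinuous K J] (hflat : LocFlat K J S.fn) {U E : D} {r : ℕ}
    (a : Fin r → OD.obj.obj (op U)) {g : OD.obj.obj (op E)} (hg : LocallyInSpan a g) :
    LocallyInSpan (sigmaFam S U a) (S.σ E g) := by
  refine (locallyInSpan_iff _ _).2 fun X h q => ?_
  obtain ⟨R, hR, hpair⟩ := hflat.pair h q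
  refine (spanSh (sigmaFam S U a)).glue ((Sieve.overEquiv (Over.mk h)).symm R) ?_ fun Z k hk => ?_
  · rw [GrothendieckTopology.mem_over_iff]
    refine (congrArg (· ∈ J X) ((Sieve.overEquiv (Over.mk h)).apply_symm_apply R)).mpr ?_
    exact hR
  · rw [Sieve.overEquiv_symm_iff] at hk
    obtain ⟨E', g₁, g₂, k', hk₁, hk₂⟩ := hpair k.left hk
    obtain ⟨R', hR', hmem⟩ := hg g₁ g₂
    refine ⟨(R'.functorPushforward S.fn).pullback k',
      J.pullback_stable _ ((CoverPreserving.of_isContinuous (J := K) (K := J) (F := S.fn)).cover_preserve hR'),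
      fun Y m hm => ?_⟩
    obtain ⟨E'', e, t, he, hfac⟩ := hm
    have h1 := Ideal.mem_map_of_mem (S.σ E'') (hmem e he)
    rw [resSpan, Ideal.map_span, ← Set.range_comp] at h1
    have h2 : (O.obj.map (S.fn.map (e ≫ g₂)).op).hom (S.σ E g) ∈
        resSpan (sigmaFam S U a) (S.fn.map (e ≫ g₁)) := by
      have e0 := S.σ_res (e ≫ g₂) g
      refine e0 ▸ ?_
      convert h1 using 3
      funext j
      exact (S.σ_res (e ≫ g₁) (a j))
    have h3 := res_mem_resSpan (sigmaFam S U a) _ t h2
    have e₁ : t ≫ S.fn.map (e ≫ g₁) = m ≫ Z.hom := by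
      have hw : k.left ≫ h = Z.hom := Over.w k
      rw [Functor.map_comp, ← reassoc_of% hfac, hk₁, hw]
    have e₂ : t ≫ S.fn.map (e ≫ g₂) = m ≫ k.left ≫ q := by
      rw [Functor.map_comp, ← reassoc_of% hfac, hk₂]
    rw [res_res, e₁, e₂] at h3
    change (O.obj.map m.op).hom ((O.obj.map k.left.op).hom ((O.obj.map q.op).hom (S.σ E g))) ∈ _
    refine ((congrArg (O.obj.map m.op).hom (res_res q k.left _)).trans (res_res _ m _)).symm ▸ ?_
    exact h3

end Push

end Groth.Agent.DerCompLib
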