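import Groth.Agent.DerCompLib.SecData
import Groth.Agent.DCat.RFTri
import Groth.Agent.DCat.DerivedLimits
import Groth.Agent.DCat.DerivedAdj
import Groth.Agent.DCat.PureAcyclic
import Groth.Agent.S0985
import Mathlib.CategoryTheory.Adjunction.PartialAdjoint

/-!
# The left adjoint of a derived direct image of sheaves of modules

Objects where the left adjoint is defined are closed under cones and coproducts, contain the bounded
above complexes, hence everything.
-/

set_option autoImplicit false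
set_option backward.isDefEq.respectTransparency false

universe w v u

open CategoryTheory CategoryTheory.Limits CategoryTheory.Pretriangulated Opposite ZeroObject

namespace Groth.Agent.DerCompLib

section Corep

variable {S T : Type*} [Category S] [Category T] [Preadditive S] [Preadditive T] [HasZeroObject S]
  [HasZeroObject T] [HasShift S ℤ] [HasShift T ℤ] [∀ n : ℤ, (shiftFunctor S n).Additive]
  [∀ n : ℤ, (shiftFunctor T n).Additive] [Pretriangulated S] [Pretriangulated T] (R : T ⥤ S)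

/-- `η` is universal among morphisms from `X` to values of `R`. -/
def IsUniv {X : S} {M : T} (η : X ⟶ R.obj M) : Prop :=
  ∀ Y, Function.Bijective fun g : M ⟶ Y => η ≫ R.map g

omit [Preadditive S] [Preadditive T] [HasZeroObject S] [HasZeroObject T] [HasShift S ℤ] [HasShift T ℤ] in
lemma isDefined_iff_univ (X : S) :
    R.leftAdjointObjIsDefined X ↔ ∃ (M : T) (η : X ⟶ R.obj M), IsUniv R η := by
  rw [Functor.leftAdjointObjIsDefined_iff]
  constructor
  · intro h
    obtain ⟨M, ⟨e⟩⟩ := h.has_corepresentation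
    refine ⟨M, e.homEquiv (𝟙 M), fun Y => ?_⟩
    have : (fun g : M ⟶ Y => (e.homEquiv (𝟙 M) : X ⟶ R.obj M) ≫ R.map g) = e.homEquiv := by
      funext g
      exact (e.homEquiv_eq g).symm
    rw [this]
    exact e.homEquiv.bijective
  · rintro ⟨M, η, h⟩
    exact (Functor.CorepresentableBy.isCorepresentable
      { homEquiv := fun {Y} => Equiv.ofBijective _ (h Y)
        homEquiv_comp := fun {Y Y'} g f => by
          simp only [Equiv.ofBijective_apply, Functor.comp_map, R.map_comp]
          exact (Category.assoc _ _ _).symm })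

variable [R.CommShift ℤ]

omit [Preadditive S] [Preadditive T] [HasZeroObject S] [HasZeroObject T] in
lemma IsUniv.shift {X : S} {M : T} {η : X ⟶ R.obj M} (h : IsUniv R η) (n : ℤ) :
    IsUniv R (η⟦n⟧' ≫ (R.commShiftIso n).inv.app M) := by
  intro Y
  let e : (Y⟦-n⟧)⟦n⟧ ≅ Y := (shiftFunctorCompIsoId T (-n) n (neg_add_cancel n)).app Y
  let P : (M ⟶ Y⟦-n⟧) → (M⟦n⟧ ⟶ Y) := fun k => k⟦n⟧' ≫ e.hom
  have hP : Function.Bijective P :=
    e.homToEquiv.bijective.comp ⟨(shiftFunctor T n).map_injective (X := M) (Y := Y⟦-n⟧), (shiftFunctor T n).map_surjective⟩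
  rw [← Function.Bijective.of_comp_iff _ hP]
  let e' : (R.obj (Y⟦-n⟧))⟦n⟧ ≅ R.obj Y :=
    ((R.commShiftIso n).app (Y⟦-n⟧)).symm ≪≫ R.mapIso e
  have : ((fun g : M⟦n⟧ ⟶ Y => (η⟦n⟧' ≫ (R.commShiftIso n).inv.app M) ≫ R.map g) ∘ P) =
      fun k : M ⟶ Y⟦-n⟧ => (η ≫ R.map k)⟦n⟧' ≫ e'.hom := by
    funext k
    have hn := (R.commShiftIso n).inv.naturality k
    simp only [Functor.comp_map] at hn
    simp [P, e', reassoc_of% hn]
  rw [this]
  exact e'.homToEquiv.bijective.comp (Function.Bijective.comp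
    (show Function.Bijective ((shiftFunctor S n).map (X := X) (Y := R.obj (Y⟦-n⟧))) from
      ⟨(shiftFunctor S n).map_injective, (shiftFunctor S n).map_surjective⟩) (h _))

variable [R.IsTriangulated]

/-- Objects where the left adjoint is defined are closed under cones. -/
theorem isDefined_obj₃ (t : Triangle S) (ht : t ∈ distTriang S)
    (h₁ : R.leftAdjointObjIsDefined t.obj₁) (h₂ : R.leftAdjointObjIsDefined t.obj₂) :
    R.leftAdjointObjIsDefined t.obj₃ := by
  rw [isDefined_iff_univ] at h₁ h₂ ⊢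
  obtain ⟨M₁, η₁, u₁⟩ := h₁
  obtain ⟨M₂, η₂, u₂⟩ := h₂
  obtain ⟨g, hg⟩ := (u₁ M₂).2 (t.mor₁ ≫ η₂)
  simp only at hg
  obtain ⟨M₃, p, q, hM⟩ := distinguished_cocone_triangle g
  let s := Triangle.mk g p q
  have hRM : R.mapTriangle.obj s ∈ distTriang S := R.map_distinguished s hM
  obtain ⟨η₃, hη₂, hη₃⟩ := complete_distinguished_triangle_morphism t (R.mapTriangle.obj s) ht hRM
    η₁ η₂ hg.symm
  refine ⟨M₃, η₃, fun Y => ⟨?_, ?_⟩⟩
  · intro a b hab
    rw [← sub_eq_zero]
    have hk : η₃ ≫ R.map (a - b) = 0 := by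
      rw [R.map_sub, Preadditive.comp_sub]
      exact sub_eq_zero.2 hab
    revert hk
    generalize a - b = k
    intro hk
    have hk₂ : p ≫ k = 0 := (u₂ Y).1 (by
      change η₂ ≫ R.map (p ≫ k) = η₂ ≫ R.map 0
      rw [R.map_zero, comp_zero, R.map_comp]
      refine (Category.assoc _ _ _).symm.trans ((congrArg (· ≫ R.map k) hη₂.symm).trans ?_)
      rw [Category.assoc, hk, comp_zero])
    obtain ⟨y, hy⟩ := Triangle.yoneda_exact₃ s hM k hk₂
    let η₁' := η₁⟦(1 : ℤ)⟧' ≫ (R.commShiftIso (1 : ℤ)).inv.app M₁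
    let η₂' := η₂⟦(1 : ℤ)⟧' ≫ (R.commShiftIso (1 : ℤ)).inv.app M₂
    have h13 : η₃ ≫ R.map q = t.mor₃ ≫ η₁' := by
      rw [← cancel_mono ((R.commShiftIso (1 : ℤ)).hom.app M₁)]
      simp only [η₁', Category.assoc, Iso.inv_hom_id_app, Functor.comp_obj, Category.comp_id]
      exact hη₃.symm
    have hzero : t.mor₃ ≫ (η₁' ≫ R.map y) = 0 := by
      rw [← reassoc_of% h13, ← R.map_comp]
      exact (congrArg (fun z => η₃ ≫ R.map z) hy.symm).trans hk
    obtain ⟨z, hz⟩ := Triangle.yoneda_exact₂ t.rotate.rotate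
      (rot_of_distTriang _ (rot_of_distTriang _ ht)) _ hzero
    change _ = (-t.mor₁⟦(1 : ℤ)⟧') ≫ z at hz
    obtain ⟨y₂, hy₂⟩ := (u₂.shift R 1 Y).2 (-z)
    simp only at hy₂
    have h12 : t.mor₁⟦(1 : ℤ)⟧' ≫ η₂' = η₁' ≫ R.map (g⟦(1 : ℤ)⟧') := by
      have hn := (R.commShiftIso (1 : ℤ)).inv.naturality g
      simp only [Functor.comp_map] at hn
      simp only [η₁', η₂', Category.assoc, ← hn]
      rw [← Functor.map_comp_assoc, ← Functor.map_comp_assoc, hg]
    have : y = g⟦(1 : ℤ)⟧' ≫ y₂ := (u₁.shift R 1 Y).1 (by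
      change η₁' ≫ R.map y = η₁' ≫ R.map (g⟦(1 : ℤ)⟧' ≫ y₂)
      rw [R.map_comp, ← reassoc_of% h12]
      change _ = t.mor₁⟦(1 : ℤ)⟧' ≫ η₂' ≫ R.map y₂
      rw [hy₂, hz, Preadditive.neg_comp, Preadditive.comp_neg])
    rw [hy, this]
    change q ≫ g⟦(1 : ℤ)⟧' ≫ y₂ = 0
    rw [← Category.assoc]
    exact (congrArg (· ≫ y₂) (comp_distTriang_mor_zero₃₁ s hM)).trans zero_comp
  · intro x
    obtain ⟨m₂, hm₂⟩ := (u₂ Y).2 (t.mor₂ ≫ x)
    simp only at hm₂
    have hgm : g ≫ m₂ = 0 := (u₁ Y).1 (by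
      change η₁ ≫ R.map (g ≫ m₂) = η₁ ≫ R.map 0
      rw [R.map_zero, comp_zero, R.map_comp, ← Category.assoc, hg, Category.assoc, hm₂,
        ← Category.assoc, comp_distTriang_mor_zero₁₂ t ht, zero_comp])
    obtain ⟨k, hk⟩ : ∃ k : M₃ ⟶ Y, m₂ = p ≫ k := Triangle.yoneda_exact₂ s hM m₂ hgm
    have hx : t.mor₂ ≫ (x - η₃ ≫ R.map k) = 0 := by
      rw [Preadditive.comp_sub, sub_eq_zero, ← Category.assoc, hη₂, Category.assoc]
      change _ = η₂ ≫ R.map p ≫ R.map k
      rw [← R.map_comp, ← hk, hm₂]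
    obtain ⟨y, hy⟩ := Triangle.yoneda_exact₃ t ht _ hx
    obtain ⟨m, hm⟩ := (u₁.shift R 1 Y).2 y
    simp only at hm
    have h13 : η₃ ≫ R.map q = t.mor₃ ≫ η₁⟦(1 : ℤ)⟧' ≫ (R.commShiftIso (1 : ℤ)).inv.app M₁ := by
      rw [← cancel_mono ((R.commShiftIso (1 : ℤ)).hom.app M₁)]
      simp only [Category.assoc, Iso.inv_hom_id_app, Functor.comp_obj, Category.comp_id]
      exact hη₃.symm
    refine ⟨k + q ≫ m, ?_⟩
    change η₃ ≫ R.map (k + q ≫ m) = x
    rw [R.map_add, Preadditive.comp_add, R.map_comp, reassoc_of% h13]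
    simp only [Category.assoc] at hm
    rw [hm, ← hy, add_sub_cancel]

end Corep

section Model

variable {A : Type u} [Category.{v} A] [Abelian A] [HasDerivedCategory.{w} A]
variable {B : Type u} [Category.{v} B] [Abelian B] [HasDerivedCategory.{w} B]

lemma isTriangulated_rho_comp (h : DCat.EnoughKInj A) (F : A ⥤ B) [F.Additive] :
    (DCat.rho h ⋙ (F.mapHomotopyCategory (ComplexShape.up ℤ) ⋙ DerivedCategory.Qh)).IsTriangulated :=
  inferInstance

end Model

attribute [local instance] HasDerivedCategory.standard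

variable {C D : Type u} [SmallCategory C] [SmallCategory D] {J : GrothendieckTopology C}
  {K : GrothendieckTopology D} {OC : Sheaf J CommRingCat.{u}} {OD : Sheaf K CommRingCat.{u}}
  (S : SecData OC OD)

lemma enoughKInjMod (O : Sheaf J CommRingCat.{u}) : DCat.EnoughKInj (ModSite.Mod O) :=
  DCat.enoughKInj_of_isGrothendieckAbelian

/-- The model of the derived direct image. -/
noncomputable abbrev rfModel : DerivedCategory (ModSite.Mod OC) ⥤ DerivedCategory (ModSite.Mod OD) :=
  DCat.rho (enoughKInjMod OC) ⋙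
    (S.F.mapHomotopyCategory (ComplexShape.up ℤ) ⋙ DerivedCategory.Qh)

instance rfModel_isTriangulated : (rfModel S).IsTriangulated :=
  isTriangulated_rho_comp (enoughKInjMod OC) S.F

omit [SmallCategory C] in
lemma isDefined_of_iso {T : Type*} [Category T] (R : T ⥤ DerivedCategory (ModSite.Mod OD))
    {X X' : DerivedCategory (ModSite.Mod OD)} (e : X ≅ X') (h : R.leftAdjointObjIsDefined X) :
    R.leftAdjointObjIsDefined X' := by
  rw [isDefined_iff_univ] at h ⊢
  obtain ⟨M, η, u⟩ := h
  refine ⟨M, e.inv ≫ η, fun Y => ?_⟩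
  have : (fun g : M ⟶ Y => (e.inv ≫ η) ≫ R.map g) = (fun k => e.inv ≫ k) ∘ fun g => η ≫ R.map g :=
    funext fun g => Category.assoc _ _ _
  rw [this]
  exact e.homFromEquiv.bijective.comp (u Y)

/-- The left adjoint is defined on bounded above complexes. -/
theorem isDefined_of_boundedAbove (hflat : LocFlat K J S.fn)
    (X : CochainComplex (ModSite.Mod OD) ℤ) (a : ℤ) [X.IsStrictlyLE a] :
    (rfModel S).leftAdjointObjIsDefined (DerivedCategory.Q.obj X) := by
  obtain ⟨P, t, hP, hPf, -, ht⟩ := DCat.LeftRes.exists_resolution IsFree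
    ⟨0, isZero_zero _, isFree_of_isZero (isZero_zero _)⟩ exists_isFree_cover X a
  have hQ : IsIso (DerivedCategory.Q.map t) :=
    Localization.inverts DerivedCategory.Q (HomologicalComplex.quasiIso _ _) t ht
  refine isDefined_of_iso _ ((DerivedCategory.quotientCompQhIso _).app P ≪≫
    @asIso _ _ _ _ _ hQ) ?_
  let q := HomotopyCategory.quotient (ModSite.Mod OD) (ComplexShape.up ℤ)
  let adj := DCat.adjHot (ComplexShape.up ℤ) S.adj
  let a' := DCat.rhoAdj (enoughKInjMod OC)
  have hb : ∀ Y, Function.Bijective (DerivedCategory.Qh.map : (q.obj P ⟶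
      (S.F.mapHomotopyCategory (ComplexShape.up ℤ)).obj ((DCat.rho (enoughKInjMod OC)).obj Y)) → _) :=
    fun Y => by
      haveI : CochainComplex.IsKInjective ((DCat.rho (enoughKInjMod OC)).obj Y).as :=
        DCat.kInj_rho (enoughKInjMod OC) Y
      exact bijective_Qh_of_free S hflat P hPf a ((DCat.rho (enoughKInjMod OC)).obj Y).as
  rw [Functor.leftAdjointObjIsDefined_iff]
  exact (Functor.CorepresentableBy.isCorepresentable
    (X := DerivedCategory.Qh.obj ((S.G.mapHomotopyCategory _).obj (q.obj P)))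
    { homEquiv := fun {Y} => (a'.homEquiv _ Y).trans
        ((adj.homEquiv _ _).trans (Equiv.ofBijective _ (hb Y)))
      homEquiv_comp := fun {Y Y'} g f => by
        simp only [Equiv.trans_apply, Equiv.ofBijective_apply, Adjunction.homEquiv_naturality_right,
          Functor.map_comp]
        rfl })

lemma preservesCoproduct_Q {A : Type v} [Category.{u} A] [Abelian A] [IsGrothendieckAbelian.{u} A]
    [HasDerivedCategory.{w} A] (L : ℕ → CochainComplex A ℤ) [HasCoproduct L] :
    PreservesColimit (Discrete.functor L) (DerivedCategory.Q (C := A)) := by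
  let qt := HomotopyCategory.quotient A (ComplexShape.up ℤ)
  haveI : (DerivedCategory.Qh (C := A)).IsLeftAdjoint :=
    (DCat.rhoAdj DCat.enoughKInj_of_isGrothendieckAbelian).isLeftAdjoint
  haveI : PreservesColimit (Discrete.functor L) qt :=
    preservesColimit_of_preserves_colimit_cocone (coproductIsCoproduct L)
      ((isColimitMapCoconeCofanMkEquiv _ _ _).symm (DCat.isColimitCofanQuotient (coproductIsCoproduct L)))
  haveI : PreservesColimit (Discrete.functor L) (qt ⋙ DerivedCategory.Qh) := inferInstance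
  exact preservesColimit_of_natIso _ (DerivedCategory.quotientCompQhIso A)

set_option synthInstance.maxHeartbeats 200000 in
/-- The derived direct image has a left adjoint. -/
theorem isRightAdjoint_rfModel (hflat : LocFlat K J S.fn) : (rfModel S).IsRightAdjoint := by
  refine Functor.isRightAdjoint_of_leftAdjointObjIsDefined_eq_top ?_
  ext E
  simp only [Pi.top_apply, Prop.top_eq_true, iff_true]
  refine isDefined_of_iso _ (DerivedCategory.Q.objObjPreimageIso E) ?_
  let X := DerivedCategory.Q.objPreimage E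
  let L := DCat.truncLESeq X
  haveI : HasColimitsOfShape ℕ (ModSite.Mod OD) := inferInstance
  haveI : HasExactColimitsOfShape ℕ (ModSite.Mod OD) := exactColimitsNat
  haveI : HasCountableCoproducts (ModSite.Mod OD) := inferInstance
  haveI : HasColimitsOfShape (Discrete ℕ) (DerivedCategory (ModSite.Mod OC)) :=
    DCat.hasCoproductsOfShape_derived (enoughKInjMod OC) ℕ
  haveI : HasColimitsOfShape (Discrete ℕ) (DerivedCategory (ModSite.Mod OD)) :=
    DCat.hasCoproductsOfShape_derived (enoughKInjMod OD) ℕ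
  haveI := preservesCoproduct_Q L.obj
  obtain ⟨δ, hδ⟩ := S0985.result L
  have hc : IsColimit (DCat.truncLECocone X) :=
    HomologicalComplex.isColimitOfEval _ _ (DCat.isColimitTruncLEEval X)
  refine isDefined_of_iso _
    (DerivedCategory.Q.mapIso ((colimit.isColimit L).coconePointUniqueUpToIso hc)) ?_
  have hn : ∀ n : ℕ, (rfModel S).leftAdjointObjIsDefined (DerivedCategory.Q.obj (L.obj n)) := fun n =>
    isDefined_of_boundedAbove S hflat (X.truncLE (n : ℤ)) n
  have hsum : (rfModel S).leftAdjointObjIsDefined (∐ fun n => DerivedCategory.Q.obj (L.obj n)) :=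
    Functor.leftAdjointObjIsDefined_colimit _ fun n => hn n.as
  exact isDefined_obj₃ (rfModel S) _ hδ hsum hsum

end Groth.Agent.DerCompLib
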