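import Groth.Agent.DerCompLib.KoszulGen
import Groth.Agent.DerCompLib.LeftAdjoint

/-!
# Derived completion and derived direct images: the kernel side
-/

set_option autoImplicit false
set_option backward.isDefEq.respectTransparency false

universe u

open CategoryTheory CategoryTheory.Limits CategoryTheory.Pretriangulated Opposite

attribute [local instance] HasDerivedCategory.standard

namespace Groth.Agent.DerCompLib

variable {C : Type u} [SmallCategory C] {J : GrothendieckTopology C} {O : Sheaf J CommRingCat.{u}}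

/-- Derived complete objects are closed under cones. -/
theorem isDerComp_obj₃ (I : DerComp.IdealSh O) (T : Triangle (DerivedCategory (ModSite.Mod O)))
    (hT : T ∈ distTriang (DerivedCategory (ModSite.Mod O)))
    (h₁ : DerComp.IsDerComp O I T.obj₁) (h₂ : DerComp.IsDerComp O I T.obj₂) :
    DerComp.IsDerComp O I T.obj₃ := fun U f hf => by
  refine orth_tri_right T hT fun n => ?_
  haveI := h₁ U f hf n
  haveI := h₂ U f hf n
  exact ⟨fun a b _ => Subsingleton.elim a b, fun b => ⟨0, Subsingleton.elim _ _⟩⟩

/-- Shifts of complete objects are complete. -/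
theorem isDerComp_shift (I : DerComp.IdealSh O) {N : DerivedCategory (ModSite.Mod O)}
    (h : DerComp.IsDerComp O I N) (n : ℤ) : DerComp.IsDerComp O I (N⟦n⟧) := fun U f hf =>
  Orth.shift (h U f hf) n

variable {V : C} {r : ℕ} (a : Fin r → O.obj.obj (op V))

/-- The canonical map to the completion is inverted by cones along generators. -/
theorem kzMor_toDerCompletion (I : DerComp.IdealSh O) [DerComp.HasDerCompletion O I]
    (hI : ∀ (W : C) (f : O.obj.obj (op W)), f ∈ I.ideal W → LocallyInSpan a f)
    (M : DerivedCategory (ModSite.Mod O)) : KZMor a (DerComp.toDerCompletion I M) := by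
  obtain ⟨Z, p, q, hT⟩ := distinguished_cocone_triangle (DerComp.toDerCompletion I M)
  refine (kz_obj₃_iff a _ hT).1 (kz_of_leftOrth a I hI fun N hN n => ?_)
  refine (subsingleton_obj₃_iff _ hT N).2 (fun m => ?_) n
  let Y : DerComp.DComp O I := ⟨N⟦m⟧, isDerComp_shift I hN m⟩
  have : (fun g : ((DerComp.derCompletion O I).obj M).obj ⟶ N⟦m⟧ =>
      DerComp.toDerCompletion I M ≫ g) = (DerComp.derCompletionAdj O I).homEquiv M Y ∘
        (ObjectProperty.homMk (P := DerComp.IsDerComp O I)
          (X := (DerComp.derCompletion O I).obj M) (Y := Y)) := by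
    funext g
    exact ((DerComp.derCompletionAdj O I).homEquiv_unit (X := M) (Y := Y) (f := _)).symm
  change Function.Bijective fun g : ((DerComp.derCompletion O I).obj M).obj ⟶ N⟦m⟧ =>
    DerComp.toDerCompletion I M ≫ g
  rw [this]
  refine ((DerComp.derCompletionAdj O I).homEquiv M Y).bijective.comp
    ⟨fun g g' e => congrArg (fun z => z.hom) e, fun g => ⟨g.hom, rfl⟩⟩

variable {D : Type u} [SmallCategory D] {K : GrothendieckTopology D} {OD : Sheaf K CommRingCat.{u}}

lemma kzMor_of_iso {U : D} {r : ℕ} (b : Fin r → OD.obj.obj (op U))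
    {T : Type (u+1)} [Category.{u+1} T] {F G : T ⥤ DerivedCategory (ModSite.Mod OD)} (ι : F ≅ G)
    {X Y : T} (η : X ⟶ Y) (h : KZMor b (G.map η)) : KZMor b (F.map η) := fun Y' n => by
  let R := restrD (O := OD) U
  have e : (fun g : R.obj (F.obj Y) ⟶ (DerivedCategory.Q.obj ((kos (gList b).reverse).obj Y'))⟦n⟧ =>
      R.map (F.map η) ≫ g) =
      ((R.mapIso (ι.app X)).homFromEquiv).symm ∘
        (fun g => R.map (G.map η) ≫ g) ∘ (R.mapIso (ι.app Y)).homFromEquiv := by
    funext g
    have h₁ : ι.hom.app X ≫ G.map η ≫ ι.inv.app Y = F.map η := by simp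
    have h₂ : R.map (F.map η) =
        R.map (ι.hom.app X) ≫ R.map (G.map η) ≫ R.map (ι.inv.app Y) :=
      (congrArg R.map h₁).symm.trans ((R.map_comp _ _).trans (congrArg _ (R.map_comp _ _)))
    change R.map (F.map η) ≫ g =
      R.map (ι.hom.app X) ≫ R.map (G.map η) ≫ R.map (ι.inv.app Y) ≫ g
    exact (congrArg (· ≫ g) h₂).trans ((Category.assoc _ _ _).trans
      (congrArg _ (Category.assoc _ _ _)))
  rw [e]
  exact (Equiv.bijective _).comp ((h Y' n).comp (Equiv.bijective _))

variable (S : SecData O OD)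

/-- Koszul vanishing passes to the derived direct image. -/
theorem kz_rfModel (hflat : LocFlat K J S.fn) {U : D} {r : ℕ} (b : Fin r → OD.obj.obj (op U))
    {E : DerivedCategory (ModSite.Mod O)} (h : KZ (sigmaFam S U b) E) :
    KZ b ((rfModel S).obj E) := by
  let L : CochainComplex (ModSite.Mod O) ℤ := ((DCat.rho (enoughKInjMod O)).obj E).as
  haveI : CochainComplex.IsKInjective L := DCat.kInj_rho (enoughKInjMod O) E
  obtain ⟨N, η, hN, hη, -, -⟩ := DCat.exists_kInj_res (pushCx S L)
  have hQ : IsIso (DerivedCategory.Q.map η) :=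
    Localization.inverts DerivedCategory.Q (HomologicalComplex.quasiIso _ _) η hη
  let eE : E ≅ DerivedCategory.Q.obj L :=
    (asIso ((DCat.rhoAdj (enoughKInjMod O)).counit.app E)).symm ≪≫
      (DerivedCategory.quotientCompQhIso _).app L
  let eR : (rfModel S).obj E ≅ DerivedCategory.Q.obj N :=
    DerivedCategory.Qh.mapIso ((S.F.mapHomotopyCategoryFactors _).app L) ≪≫
      (DerivedCategory.quotientCompQhIso _).app (pushCx S L) ≪≫
      @asIso _ _ _ _ (DerivedCategory.Q.map η) hQ
  refine kz_of_isZero b (restrCx N U) ((restrD U).mapIso eR ≪≫ restrDQ U N) ?_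
  exact isZero_kos_push S L η U b hflat
    (h.isZero _ (restrCx L (S.fn.obj U)) ((restrD _).mapIso eE ≪≫ restrDQ _ L))

end Groth.Agent.DerCompLib
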