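import Groth.Agent.DerCompLib.Koszul
import Groth.Agent.DCat.DCompletion

/-!
# Objects killed by iterated cones have no maps into derived complete modules
-/

set_option autoImplicit false
set_option backward.isDefEq.respectTransparency false

universe w v u t

open CategoryTheory CategoryTheory.Limits CategoryTheory.Pretriangulated

attribute [local instance] HasDerivedCategory.standard

namespace Groth.Agent.DerCompLib

section

variable {D : Type u} [Category.{v} D] [Preadditive D] [HasZeroObject D]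
  [HasShift D ℤ] [∀ n : ℤ, (shiftFunctor D n).Additive] [Pretriangulated D]
  {R : Type t} [CommRing R] [Linear R D]

/-- The iterated cone of the members of the list vanishes. -/
def Killed : List R → D → Prop
  | [], W => IsZero W
  | r :: l, W => ∃ (Z : D) (g : W ⟶ Z) (h : Z ⟶ W⟦(1 : ℤ)⟧),
      Triangle.mk (r • 𝟙 W) g h ∈ distTriang D ∧ Killed l Z

theorem Killed.of_iso : ∀ {l : List R} {W W' : D}, Killed l W → (W ≅ W') → Killed l W'
  | [], _, _, h, e => CategoryTheory.Limits.IsZero.of_iso h e.symm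
  | r :: l, W, W', ⟨Z, g, h, hT, hZ⟩, e => by
    refine ⟨Z, e.inv ≫ g, h ≫ (shiftFunctor D (1 : ℤ)).map e.hom, ?_, hZ⟩
    refine isomorphic_distinguished _ hT _ (Triangle.isoMk _ _ e.symm e.symm (Iso.refl Z) ?_ ?_ ?_)
    · change (r • 𝟙 W') ≫ e.inv = e.inv ≫ (r • 𝟙 W)
      rw [Linear.smul_comp, Linear.comp_smul, Category.id_comp, Category.comp_id]
    · change (e.inv ≫ g) ≫ 𝟙 Z = e.inv ≫ g
      exact Category.comp_id _
    · change (h ≫ (shiftFunctor D (1 : ℤ)).map e.hom) ≫ (shiftFunctor D (1 : ℤ)).map e.inv = 𝟙 Z ≫ h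
      rw [Category.assoc, ← Functor.map_comp, e.hom_inv_id, CategoryTheory.Functor.map_id, Category.id_comp]
      exact Category.comp_id _

theorem Killed.map {D' : Type u} [Category.{v} D'] [Preadditive D'] [HasZeroObject D']
    [HasShift D' ℤ] [∀ n : ℤ, (shiftFunctor D' n).Additive] [Pretriangulated D'] [Linear R D']
    (F : D ⥤ D') [F.CommShift ℤ] [F.IsTriangulated] [F.Additive] [F.Linear R] :
    ∀ {l : List R} {W : D}, Killed l W → Killed l (F.obj W)
  | [], _, h => F.map_isZero h
  | r :: l, W, ⟨Z, g, h, hT, hZ⟩ => by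
    have hm := F.map_distinguished _ hT
    refine ⟨F.obj Z, F.map g, F.map h ≫ (F.commShiftIso (1 : ℤ)).hom.app W, ?_, Killed.map F hZ⟩
    have e : r • 𝟙 (F.obj W) = F.map (r • 𝟙 W) := by rw [Functor.map_smul, CategoryTheory.Functor.map_id]
    rw [e]
    exact hm

end

section

variable {A : Type u} [Category.{v} A] [Abelian A] [HasDerivedCategory.{w} A]
  {R : Type t} [CommRing R] [Linear R A]

theorem killed_of_kos : ∀ (l : List R) (X : CochainComplex A ℤ),
    IsZero (DerivedCategory.Q.obj ((kos l).obj X)) → Killed l (DerivedCategory.Q.obj X)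
  | [], _, h => h
  | r :: l, X, h => by
    refine ⟨_, (smulTri r X).mor₂, (smulTri r X).mor₃, ?_, killed_of_kos l (CochainComplex.mappingCone (r • 𝟙 X)) h⟩
    have h' := smulTri_dist r X
    rw [← smulTri_mor₁ r (X := X)]
    exact h'

end

section Modules

variable {A : Type u} [CommRing A]

open DCat.DC

/-- The derived limit of the tower of `f` on an `f`-complete object vanishes. -/
theorem isZero_fib {f : A} {L : Dual.D A} (hL : DCf f L) {T : Dual.D A} {i : T ⟶ ∏ᶜ fun _ : ℕ => L}
    {δ : (∏ᶜ fun _ : ℕ => L) ⟶ T⟦(1 : ℤ)⟧} (hT : Triangle.mk i (dP f L) δ ∈ distTriang (Dual.D A)) :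
    IsZero T :=
  isZero_of_z fun n χ => by
    have hc : Comp (sm ((Dual.inD A A)⟦n⟧ ⟶ L) f) := comp_hom n hL
    have h0 := eq_zero hc (x := fun m => χ ≫ i ≫ Pi.π _ m) (comp_i_eq hT χ)
    obtain ⟨ω, hω⟩ := shift_factor hT χ fun m => congrFun h0 m
    have hc' : Comp (sm (((Dual.inD A A)⟦n⟧)⟦(1 : ℤ)⟧ ⟶ L) f) :=
      comp_equiv (φ := sm ((Dual.inD A A)⟦n + 1⟧ ⟶ L) f)
        { toFun := fun z => ((shiftFunctorAdd' (Dual.D A) n 1 (n + 1) rfl).inv.app _) ≫ z
          invFun := fun z => ((shiftFunctorAdd' (Dual.D A) n 1 (n + 1) rfl).hom.app _) ≫ z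
          left_inv := fun z => by simp
          right_inv := fun z => by simp
          map_add' := fun a b => Preadditive.comp_add _ _ _ _ _ _ }
        (fun z => Linear.comp_smul (R := A) _ _ _
          ((shiftFunctorAdd' (Dual.D A) n 1 (n + 1) rfl).inv.app (Dual.inD A A)) f z) (comp_hom (n + 1) hL)
    obtain ⟨η, hη⟩ := hc'.2 (fun m => ω ≫ Pi.π _ m)
    have e : ω = Pi.lift η ≫ dP f L := Pi.hom_ext _ _ fun m => by
      rw [Category.assoc, dP_π, Pi.lift_π, Pi.lift_π]
      exact (congrFun hη m).symm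
    apply (shiftFunctor (Dual.D A) (1 : ℤ)).map_injective
    rw [Functor.map_zero, hω, e, Category.assoc]
    erw [comp_distTriang_mor_zero₂₃ _ hT, comp_zero]

/-- A morphism infinitely divisible by `f` into an `f`-complete object vanishes. -/
theorem eq_zero_of_smul_bijective {f : A} {L X : Dual.D A} (hL : DCf f L)
    (hX : ∀ ψ : X ⟶ L, ∃ ψ', f • ψ' = ψ) (φ : X ⟶ L) : φ = 0 := by
  obtain ⟨T, i, δ, hT⟩ := exists_fib (f := f) L
  choose g hg using hX
  obtain ⟨χ, hχ⟩ := lift_of_compat hT (fun m => g^[m] φ) fun m => by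
    rw [Function.iterate_succ_apply', hg]
  have h0 := hχ 0
  rw [(isZero_fib hL hT).eq_of_tgt χ 0, zero_comp] at h0
  exact h0.symm

/-- Objects killed by a list have no maps into objects complete with respect to its members. -/
theorem orth_of_killed : ∀ (l : List A) {W L : Dual.D A}, Killed l W → (∀ g ∈ l, DCf g L) →
    ∀ φ : W ⟶ L, φ = 0
  | [], _, _, h, _, φ => h.eq_of_src φ 0
  | r :: l, W, L, ⟨Z, g, h, hT, hZ⟩, hL, φ => by
    refine eq_zero_of_smul_bijective (hL r List.mem_cons_self) (fun ψ => ?_) φ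
    -- `ψ` extends along `r • 𝟙`: the obstruction is a map out of `Z⟦-1⟧`
    obtain ⟨χ, hχ⟩ := Triangle.yoneda_exact₂ _ (inv_rot_of_distTriang _ hT) ψ (by
      refine eq_zero_of_shift' (n := -1) (fun y => ?_) _
      exact orth_of_killed l hZ (fun g hg => (hL g (List.mem_cons_of_mem _ hg)).shift _ _) y)
    refine ⟨χ, ?_⟩
    rw [hχ]
    exact ((Linear.smul_comp (R := A) _ _ _ r (𝟙 W) χ).trans (by rw [Category.id_comp])).symm

end Modules

end Groth.Agent.DerCompLib
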