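import Groth.Agent.DerCompLib.AffineGamma
import Groth.Agent.DerCompLib.OrthTower
import Groth.Agent.DerCompLib.KoszulRpush
import Groth.Agent.DerCompLib.KoszulGen
import Groth.Agent.DerCompLib.Criterion
import Groth.Agent.DQCoh.RelTorBC
import Groth.Agent.DQCoh.PscNoeth
import Groth.Agent.DCat.SuppOpen
import Groth.Agent.CohDer1.ComplFin.Main
import Groth.Prelude.Def_SiteCmp

/-!
# Derived completion on an affine Noetherian scheme, on global sections
-/

set_option autoImplicit false
set_option backward.isDefEq.respectTransparency false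
set_option backward.defeqAttrib.useBackward true
set_option linter.style.haveILetI false
set_option maxHeartbeats 1000000
set_option synthInstance.maxHeartbeats 400000

universe u

open CategoryTheory CategoryTheory.Limits CategoryTheory.Pretriangulated AlgebraicGeometry Opposite TopologicalSpace

attribute [local instance] HasDerivedCategory.standard

noncomputable section

namespace Groth.Agent.DerCompLib.AffGamma

section Linear

private theorem map_smul_of_iso {A B : Type*} [Category A] [Category B] [Preadditive A] [Preadditive B]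
    {R : Type*} [Semiring R] [Linear R A] [Linear R B] (F : A ⥤ B) (r : R) {X Y : A} (e : X ≅ Y)
    (h : F.map (r • 𝟙 X) = r • 𝟙 (F.obj X)) : F.map (r • 𝟙 Y) = r • 𝟙 (F.obj Y) := by
  have hY : r • 𝟙 Y = e.inv ≫ (r • 𝟙 X) ≫ e.hom := by simp
  rw [hY, F.map_comp, F.map_comp, h]
  simp [← F.map_comp]

variable {A : Type (u + 1)} [Category.{u} A] [Abelian A] {S : Type u} [CommRing S] [Linear S A]

/-- Cohomology is linear. -/
theorem homology_map_smul (i : ℤ) {K L : DerivedCategory A} (f : K ⟶ L) (s : S) :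
    (DerivedCategory.homologyFunctor A i).map (s • f) = s • (DerivedCategory.homologyFunctor A i).map f := by
  have h : ∀ K : DerivedCategory A, (DerivedCategory.homologyFunctor A i).map (s • 𝟙 K) =
      s • 𝟙 ((DerivedCategory.homologyFunctor A i).obj K) := fun K => by
    refine map_smul_of_iso _ s (DerivedCategory.Q.objObjPreimageIso K) ?_
    let P := DerivedCategory.Q.objPreimage K
    have hn := (DerivedCategory.homologyFunctorFactors A i).hom.naturality (s • 𝟙 P)
    rw [Functor.comp_map, Functor.map_smul, CategoryTheory.Functor.map_id] at hn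
    refine (cancel_mono ((DerivedCategory.homologyFunctorFactors A i).hom.app P)).1 (hn.trans ?_)
    show _ ≫ HomologicalComplex.homologyMap (s • 𝟙 P) i = _
    have h' : HomologicalComplex.homologyMap (s • 𝟙 P) i = s • 𝟙 (P.homology i) := by
      show ShortComplex.homologyMap _ = _
      rw [show (HomologicalComplex.shortComplexFunctor A (ComplexShape.up ℤ) i).map (s • 𝟙 P) =
          s • (HomologicalComplex.shortComplexFunctor A (ComplexShape.up ℤ) i).map (𝟙 P) by ext <;> rfl,
        ShortComplex.homologyMap_smul]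
      exact congrArg (s • ·) (HomologicalComplex.homologyMap_id P i)
    rw [h', Linear.comp_smul, Category.comp_id, Linear.smul_comp, Category.id_comp]
  calc (DerivedCategory.homologyFunctor A i).map (s • f)
      = (DerivedCategory.homologyFunctor A i).map ((s • 𝟙 K) ≫ f) := by rw [Linear.smul_comp, Category.id_comp]
    _ = _ := by rw [Functor.map_comp, h, Linear.smul_comp, Category.id_comp]

/-- `toH` is linear. -/
theorem toH_smul {P : A} {L : DerivedCategory A} (φ : (DerivedCategory.singleFunctor A 0).obj P ⟶ L) (s : S) :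
    DCat.ProjHomology.toH (s • φ) = s • DCat.ProjHomology.toH φ := by
  simp only [DCat.ProjHomology.toH, homology_map_smul, Linear.comp_smul]

/-- Right adjoints of linear functors are linear. -/
theorem linear_rightAdjoint {C D : Type*} [Category C] [Category D] [Preadditive C] [Preadditive D] [Linear S C]
    [Linear S D] {F : C ⥤ D} {G : D ⥤ C} [F.Additive] [F.Linear S] [G.Additive] (ad : F ⊣ G) : G.Linear S where
  map_smul {X Y} f s := by
    apply (ad.homEquiv _ _).symm.injective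
    simp only [Adjunction.homEquiv_counit, Functor.map_smul, Linear.smul_comp]
    rw [Adjunction.counit_naturality, Adjunction.counit_naturality, Linear.comp_smul]

theorem exists_fin_gen {A : Type u} [CommRing A] [IsNoetherianRing A] (I : Ideal A) :
    ∃ (r : ℕ) (a : Fin r → A), Submodule.span A (Set.range a) = I :=
  Submodule.fg_iff_exists_fin_generating_family.1 (IsNoetherian.noetherian I)

end Linear

variable (X : Scheme.{u}) [IsAffine X]

/-- Shifts are additive (instance search needs the binder spelled out). -/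
local instance shAdd : ∀ n : ℤ, (shiftFunctor (DerivedCategory (ModSite.Mod X.sheaf)) n).Additive :=
  fun _ => inferInstance

local notation "D" => DerivedCategory (ModSite.Mod X.sheaf)

/-- Derived extension of scalars. -/
abbrev T : Dual.D (R X) ⥤ D := (L X).mapDerivedCategory

theorem exists_RG : ∃ RG : D ⥤ Dual.D (R X), Nonempty (T X ⊣ RG) := by
  haveI : (Γm X).Additive := (adj X).right_adjoint_additive
  let h := DCat.enoughKInj_of_isGrothendieckAbelian (A := ModSite.Mod X.sheaf)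
  haveI := DCat.hasRightDerivedFunctor_of_enoughKInj h
    ((Γm X).mapHomotopyCategory (ComplexShape.up ℤ) ⋙ DerivedCategory.Qh)
  exact ⟨_, (DCat.derived_localization h (adj X)).1⟩

/-- The image of the localisation at `g` is the test object of derived completeness. -/
theorem nonempty_awayIso (g : DerComp.GSec X.sheaf) :
    Nonempty ((L X).obj (ModuleCat.of (R X) (Localization.Away g)) ≅
      (ModSite.extZero X.sheaf (⊤ : X.Opens)).obj (DerComp.awayOver X.sheaf (⊤ : X.Opens) (g.1 ⊤))) := by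
  obtain ⟨θ⟩ := nonempty_freeOnIso X
  let A₁ : ModuleCat.{u} (R X) := ModuleCat.of (R X) (R X)
  let ψ : (∐ fun _ : ℕ => A₁) ≅ ModuleCat.of (R X) (ℕ →₀ R X) :=
    { hom := Limits.Sigma.desc fun n => ModuleCat.ofHom (Finsupp.lsingle n)
      inv := ModuleCat.ofHom (Finsupp.lsum (R X) fun n => (Sigma.ι (fun _ : ℕ => A₁) n).hom)
      hom_inv_id := Sigma.hom_ext _ _ fun n => by
        rw [Sigma.ι_desc_assoc, Category.comp_id]
        refine ModuleCat.hom_ext (LinearMap.ext_ring ?_)
        simp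
      inv_hom_id := ModuleCat.hom_ext (Finsupp.lhom_ext' fun n => LinearMap.ext_ring (by
        show (Limits.Sigma.desc fun n => ModuleCat.ofHom (Finsupp.lsingle n)).hom
          (Finsupp.lsum (R X) (fun n => (Sigma.ι (fun _ : ℕ => A₁) n).hom) (Finsupp.lsingle n (1 : R X))) = _
        rw [Finsupp.lsingle_apply, Finsupp.lsum_single, ← ModuleCat.comp_apply, Sigma.ι_desc]
        rfl)) }
  have hψ : ∀ n, Sigma.ι (fun _ : ℕ => A₁) n ≫ ψ.hom = ModuleCat.ofHom (Finsupp.lsingle n) :=
    fun n => Sigma.ι_desc _ n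
  have hψd : telEnd (g • 𝟙 A₁) ≫ ψ.hom = ψ.hom ≫ ModuleCat.ofHom (DCat.DC.telD g) := by
    refine Sigma.hom_ext _ _ fun n => ?_
    rw [reassoc_of% (hψ n), ← Category.assoc, telEnd, Sigma.ι_desc, Preadditive.sub_comp, Category.assoc, hψ, hψ]
    refine ModuleCat.hom_ext (LinearMap.ext_ring ?_)
    simp [DCat.DC.telD]
  let Lc := PreservesCoproduct.iso (L X) (fun _ : ℕ => A₁) ≪≫ Sigma.mapIso fun _ : ℕ => θ
  have hθ : (L X).map (g • 𝟙 A₁) ≫ θ.hom = θ.hom ≫ gEnd (⊤ : X.Opens) (g.1 ⊤) := by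
    rw [Functor.map_smul, CategoryTheory.Functor.map_id, Linear.smul_comp, Category.id_comp]
    have h : gEnd (⊤ : X.Opens) (g.1 ⊤) = g • 𝟙 (ModSite.freeOn X.sheaf (⊤ : X.Opens)) := by
      refine (secEquiv (⊤ : X.Opens) _).injective ?_
      have h1 := secEquiv_gEnd (⊤ : X.Opens) (g.1 ⊤) (𝟙 (ModSite.freeOn X.sheaf (⊤ : X.Opens)))
      rw [Category.comp_id] at h1
      rw [h1]
      have h2 := secEquiv_comp (⊤ : X.Opens) (𝟙 (ModSite.freeOn X.sheaf (⊤ : X.Opens))) (DerComp.smulEnd g _)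
      rw [Category.id_comp] at h2
      refine Eq.trans ?_ ((congrArg _ ?_).trans h2).symm
      · rfl
      · rw [DerComp.smul_def, Category.comp_id]
    rw [h, Linear.comp_smul, Category.comp_id]
  have hLc : ∀ n, (L X).map (Sigma.ι (fun _ : ℕ => A₁) n) ≫ Lc.hom =
      θ.hom ≫ Sigma.ι (fun _ : ℕ => ModSite.freeOn X.sheaf (⊤ : X.Opens)) n := fun n => by
    simp only [Lc, Iso.trans_hom, ← Category.assoc, ι_map_coproductIso_hom]
    exact (Sigma.ι_map (fun _ : ℕ => θ.hom) n)
  have hd : (L X).map (telEnd (g • 𝟙 A₁)) ≫ Lc.hom = Lc.hom ≫ telEnd (gEnd (⊤ : X.Opens) (g.1 ⊤)) := by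
    refine (cancel_epi (PreservesCoproduct.iso (L X) (fun _ : ℕ => A₁)).inv).1 (Sigma.hom_ext _ _ fun n => ?_)
    rw [PreservesCoproduct.inv_hom, ι_comp_sigmaComparison_assoc, ι_comp_sigmaComparison_assoc,
      ← Functor.map_comp_assoc, telEnd, Sigma.ι_desc, reassoc_of% (hLc n), telEnd, Sigma.ι_desc,
      Functor.map_sub, Functor.map_comp, Preadditive.sub_comp, Preadditive.comp_sub, Category.assoc, hLc, hLc,
      reassoc_of% hθ]
  let e₀ : ModuleCat.of (R X) (Localization.Away g) ≅ cokernel (telEnd (g • 𝟙 A₁)) :=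
    ((DCat.DC.telSC_shortExact g).gIsCokernel).coconePointUniqueUpToIso (cokernelIsCokernel _) ≪≫
      (cokernel.mapIso _ _ ψ ψ hψd).symm
  exact ⟨(L X).mapIso e₀ ≪≫ PreservesCokernel.iso (L X) _ ≪≫ cokernel.mapIso _ _ Lc Lc hd ≪≫
    (extZeroAwayIso (⊤ : X.Opens) (g.1 ⊤)).symm⟩

variable {X} {RG : DerivedCategory (ModSite.Mod X.sheaf) ⥤ Dual.D (R X)}

/-- Maps from the structure sheaf are the cohomology of the right adjoint, naturally. -/
theorem exists_homEquiv (ad : T X ⊣ RG) [RG.CommShift ℤ] [RG.Additive] [RG.Linear (DerComp.GSec X.sheaf)] (p : ℤ) :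
    ∃ Ψ : ∀ K : D, (SiteCmp.inD X.sheaf (ModSite.unit X.sheaf) ⟶ K⟦p⟧) ≃ₗ[DerComp.GSec X.sheaf]
        Dual.HD (R X) (RG.obj K) p,
      ∀ {K K' : D} (f : K ⟶ K') (y : SiteCmp.inD X.sheaf (ModSite.unit X.sheaf) ⟶ K⟦p⟧),
        Ψ K' (y ≫ f⟦p⟧') = ((DerivedCategory.homologyFunctor (ModuleCat.{u} (R X)) p).map (RG.map f)).hom (Ψ K y) := by
  obtain ⟨θ⟩ := nonempty_unitIso X
  let A₁ : ModuleCat.{u} (R X) := ModuleCat.of (R X) (R X)
  let g₀ : Dual.D (R X) := (DerivedCategory.singleFunctor (ModuleCat.{u} (R X)) 0).obj A₁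
  let eg : (T X).obj g₀ ≅ SiteCmp.inD X.sheaf (ModSite.unit X.sheaf) :=
    ((L X).mapDerivedCategorySingleFunctor 0).app A₁ ≪≫ (DerivedCategory.singleFunctor _ 0).mapIso θ
  let H := fun n : ℤ => DerivedCategory.homologyFunctor (ModuleCat.{u} (R X)) n
  let σ := (H 0).shiftIso p 0 p (by simp)
  let e₁ : ∀ K : D, (SiteCmp.inD X.sheaf (ModSite.unit X.sheaf) ⟶ K⟦p⟧) →ₗ[DerComp.GSec X.sheaf]
      Dual.HD (R X) (RG.obj K) p := fun K =>
    { toFun := fun y => (DCat.ProjHomology.toH (ad.homEquiv g₀ (K⟦p⟧) (eg.hom ≫ y) ≫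
          (RG.commShiftIso p).hom.app K) ≫ σ.hom.app (RG.obj K)).hom 1
      map_add' := fun a b => by
        simp only [Preadditive.comp_add, Adjunction.homEquiv_unit, Functor.map_add, Preadditive.add_comp,
          DCat.ProjHomology.toH]
        rfl
      map_smul' := fun s a => by
        simp only [Linear.comp_smul, Adjunction.homEquiv_unit, Functor.map_smul, Linear.smul_comp, toH_smul,
          RingHom.id_apply]
        rfl }
  have hbij : ∀ K, Function.Bijective (e₁ K) := fun K => by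
    have b1 := (eg.homFromEquiv (Z := K⟦p⟧)).symm.bijective
    have b2 := (ad.homEquiv g₀ (K⟦p⟧)).bijective
    have b3 := (((RG.commShiftIso p).app K).homToEquiv (Z := g₀)).bijective
    have b4 := DCat.ProjHomology.bijective_toH (P := A₁) ((RG.obj K)⟦p⟧)
    have b5 := ((σ.app (RG.obj K)).homToEquiv (Z := A₁)).bijective
    have b6 := ((ModuleCat.homEquiv (M := A₁) (N := (H p).obj (RG.obj K))).trans
      (LinearMap.ringLmapEquivSelf (R X) ℕ _).toEquiv).bijective
    exact b6.comp (b5.comp (b4.comp (b3.comp (b2.comp b1))))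
  refine ⟨fun K => LinearEquiv.ofBijective (e₁ K) (hbij K), fun {K K'} f y => ?_⟩
  show (DCat.ProjHomology.toH (ad.homEquiv g₀ (K'⟦p⟧) (eg.hom ≫ y ≫ f⟦p⟧') ≫
    (RG.commShiftIso p).hom.app K') ≫ σ.hom.app (RG.obj K')).hom 1 =
    ((DCat.ProjHomology.toH (ad.homEquiv g₀ (K⟦p⟧) (eg.hom ≫ y) ≫ (RG.commShiftIso p).hom.app K) ≫
      σ.hom.app (RG.obj K)) ≫ (H p).map (RG.map f)).hom 1
  refine congrArg (fun k : A₁ ⟶ (H p).obj (RG.obj K') => k.hom 1) ?_
  have n1 := (RG.commShiftIso p).hom.naturality f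
  have n2 : (H 0).map ((shiftFunctor (Dual.D (R X)) p).map (RG.map f)) ≫ σ.hom.app (RG.obj K') =
      σ.hom.app (RG.obj K) ≫ (H p).map (RG.map f) := σ.hom.naturality (RG.map f)
  simp only [Functor.comp_map] at n1
  rw [← Category.assoc eg.hom, Adjunction.homEquiv_naturality_right, Category.assoc, n1, ← Category.assoc,
    DCat.ProjHomology.toH_comp, Category.assoc]
  erw [n2]
  exact (Category.assoc _ _ _).symm

/-- Global sections of the cohomology of a pseudo-coherent object are finite. -/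
theorem finite_hom [IsNoetherian X] {K : D} (hK : ∀ m : ℤ, DCoh.IsPseudoCoherentD (X := X) m K) (p : ℤ) :
    Module.Finite (DerComp.GSec X.sheaf) (SiteCmp.inD X.sheaf (ModSite.unit X.sheaf) ⟶ K⟦p⟧) := by
  have hK' : ∀ m : ℤ, DCoh.IsPseudoCoherentD (X := X) m (K⟦p⟧) := fun m => DCat.PCTriangle.psc_shift (hK (p + m)) p m rfl
  have hq : DCoh.IsQCohD (X := X) (K⟦p⟧) := DQCoh.isQCohD_of_psc hK'
  let N : ModSite.Mod X.sheaf := (DerivedCategory.homologyFunctor (ModSite.Mod X.sheaf) 0).obj (K⟦p⟧)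
  have hN : Coh.IsCoh (X := X) N := DQCoh.isCoh_HD_of_psc (K⟦p⟧) hq (-1) (hK' (-1)) 0 (by omega)
  haveI hfin := ((Coherent.isCoh_iff_finite_sections (X := X) N).1 hN).2 ⊤ (isAffineOpen_top X)
  haveI : Module.Finite (R X) ((Γm X).obj N) := by
    obtain ⟨n, g, hg⟩ := Module.Finite.exists_fin (R := Γ(X, ⊤)) (M := Γ(N, ⊤))
    refine Module.finite_def.2 ?_
    refine Submodule.fg_iff_exists_fin_generating_family.2 ⟨n, fun k => g k, top_unique fun x _ => ?_⟩
    have hx : (show Γ(N, ⊤) from x) ∈ Submodule.span Γ(X, ⊤) (Set.range g) := hg ▸ Submodule.mem_top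
    obtain ⟨c, hc⟩ := (Submodule.mem_span_range_iff_exists_fun _).1 hx
    refine (Submodule.mem_span_range_iff_exists_fun _).2 ⟨fun k => (gEv X).symm (c k), Eq.trans ?_ hc⟩
    refine Finset.sum_congr rfl fun k _ => ?_
    have h1 := ConcreteCategory.congr_hom (Γm_smul X ((gEv X).symm (c k)) N) (g k : (Γm X).obj N)
    exact h1.symm.trans (congrArg (fun r : Γ(X, ⊤) => r • g k) ((gEv X).apply_symm_apply (c k)))
  obtain ⟨θ⟩ := nonempty_unitIso X
  obtain ⟨θ'⟩ : Nonempty ((L X).obj (ModuleCat.of (R X) (R X)) ≅ (DQCoh.sec X).P.obj ⊤) :=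
    nonempty_iso_of_corep (fun q x => secMap q (⊤ : X.Opens) x) (homEv X)
      (fun M => Coherent.freeModOnEquiv (⊤ : X.Opens) M)
      (fun g q => homEv_comp X g q) (fun g q => Coherent.freeModOnEquiv_comp (⊤ : X.Opens) g q)
  let A₁ : ModuleCat.{u} (R X) := ModuleCat.of (R X) (R X)
  let S0 := DerivedCategory.singleFunctor (ModSite.Mod X.sheaf) 0
  let f : (SiteCmp.inD X.sheaf (ModSite.unit X.sheaf) ⟶ K⟦p⟧) →ₗ[DerComp.GSec X.sheaf] ((Γm X).obj N) :=
    { toFun := fun y => ((adj X).homEquiv A₁ N (DCat.ProjHomology.toH (S0.map θ.hom ≫ y))).hom 1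
      map_add' := fun a b => by
        simp only [Preadditive.comp_add, DCat.ProjHomology.toH, Functor.map_add, Adjunction.homEquiv_unit]
        rfl
      map_smul' := fun s a => by
        haveI : (Γm X).Additive := (adj X).right_adjoint_additive
        haveI := linear_rightAdjoint (S := DerComp.GSec X.sheaf) (adj X)
        simp only [Linear.comp_smul, toH_smul, Adjunction.homEquiv_unit, Functor.map_smul, RingHom.id_apply]
        rfl }
  have hb : Function.Bijective (fun y : S0.obj ((L X).obj A₁) ⟶ K⟦p⟧ => DCat.ProjHomology.toH y) := by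
    let e : (DQCoh.sec X).P.obj ⊤ ≅ (L X).obj A₁ := θ'.symm
    let τ := (DQCoh.sec X).θ (𝟙 ((DQCoh.sec X).pt.obj ⊤))
    haveI : IsIso τ := by
      dsimp only [τ, SiteDer16.Sections.θ]
      haveI : IsIso ((DerivedCategory.homologyFunctor X.Modules 0).map (𝟙 ((DQCoh.sec X).pt.obj ⊤))) :=
        Functor.map_isIso _ _
      exact IsIso.comp_isIso' inferInstance (IsIso.comp_isIso' inferInstance this)
    let c := (DerivedCategory.singleFunctorCompHomologyFunctorIso X.Modules 0).inv.app ((L X).obj A₁)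
    have b1 := (DQCoh.bijective_θ (K⟦p⟧) hq (isAffineOpen_top X)).comp
      ((S0.mapIso e).homFromEquiv (Z := K⟦p⟧)).symm.bijective
    have b2 := (asIso (τ ≫ (DerivedCategory.homologyFunctor X.Modules 0).map (S0.map e.hom))).symm.homFromEquiv
      (Z := N) |>.bijective
    have b3 := (asIso c).symm.homFromEquiv (Z := N) |>.bijective
    have e' : (fun y : (DQCoh.sec X).pt.obj ⊤ ⟶ K⟦p⟧ => (DQCoh.sec X).θ y) ∘
        ((S0.mapIso e).homFromEquiv (Z := K⟦p⟧)).symm =
        (fun x => (τ ≫ (DerivedCategory.homologyFunctor X.Modules 0).map (S0.map e.hom)) ≫ x) ∘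
          fun y => (DerivedCategory.homologyFunctor X.Modules 0).map y := by
      funext y
      show (DQCoh.sec X).θ (S0.map e.hom ≫ y) = (τ ≫ _) ≫ _
      rw [Category.assoc, ← Functor.map_comp, ← (DQCoh.sec X).θ_comp]
      exact congrArg _ (Category.id_comp _).symm
    have b4 := (Function.Bijective.of_comp_iff' b2 _).1 (e' ▸ b1)
    exact b3.comp b4
  have hf : Function.Bijective f := by
    have b1 := ((S0.mapIso θ).homFromEquiv (Z := K⟦p⟧)).symm.bijective
    have b2 := ((adj X).homEquiv A₁ N).bijective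
    have b3 := ((ModuleCat.homEquiv (M := A₁) (N := (Γm X).obj N)).trans
      (LinearMap.ringLmapEquivSelf (R X) ℕ _).toEquiv).bijective
    exact b3.comp (b2.comp (hb.comp b1))
  exact Module.Finite.equiv (LinearEquiv.ofBijective f hf).symm

/-- A map whose cone is killed by generators, into a complete object, is a completion. -/
theorem isCompl_of_killed {A : Type u} [CommRing A] (I : Ideal A) (l : List A) (hl : ∀ g ∈ l, g ∈ I)
    {T₀ : Triangle (Dual.D A)} (hT : T₀ ∈ distTriang _) (h2 : DRing.IsDerivedComplete I T₀.obj₂)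
    (h3 : Killed l T₀.obj₃) : DCat.DC.IsCompl I T₀.mor₁ := by
  refine ⟨h2, fun L hL => ⟨fun a b hab => ?_, fun ψ => ?_⟩⟩
  · rw [← sub_eq_zero]
    obtain ⟨z, hz⟩ := Triangle.yoneda_exact₂ _ hT (a - b) (by
      rw [Preadditive.comp_sub, sub_eq_zero]; exact hab)
    rw [hz, orth_of_killed l h3 (fun g hg => DCat.DC.dcf_of_isDerivedComplete hL (hl g hg)) z, comp_zero]
  · obtain ⟨φ, hφ⟩ := Triangle.yoneda_exact₂ _ (inv_rot_of_distTriang _ hT) ψ (by
      refine DCat.DC.eq_zero_of_shift' (n := -1) (fun y => ?_) _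
      exact orth_of_killed l h3 (fun g hg => (DCat.DC.dcf_of_isDerivedComplete hL (hl g hg)).shift _ _) y)
    exact ⟨φ, hφ.symm⟩

/-- The cone of the completion map is killed by generators of the ideal. -/
theorem killed_cone (I : Ideal (DerComp.GSec X.sheaf)) (𝓘 : DerComp.IdealSh X.sheaf)
    (h𝓘 : 𝓘.IsGenBy (fun a : I => (a : DerComp.GSec X.sheaf))) [DerComp.HasDerCompletion X.sheaf 𝓘]
    (K : D) {r : ℕ} (a : Fin r → DerComp.GSec X.sheaf) (ha : Submodule.span _ (Set.range a) = I)
    {Z : D} {g : ((DerComp.derCompletion X.sheaf 𝓘).obj K).obj ⟶ Z} {d : Z ⟶ K⟦(1 : ℤ)⟧}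
    (hT : Triangle.mk (DerComp.toDerCompletion 𝓘 K) g d ∈ distTriang _) : Killed (List.ofFn a) Z := by
  let V : X.Opens := ⊤
  let a' : Fin r → X.sheaf.obj.obj (op V) := fun j => (a j).1 V
  have hle : 𝓘 ≤ localSpanSh a' := by
    refine h𝓘.2 _ fun s U => ?_
    rw [mem_localSpanSh]
    refine (locallyInSpan_iff a' _).2 fun Y k m => ?_
    obtain ⟨c, hc⟩ := (Submodule.mem_span_range_iff_exists_fun _).1 (ha.ge s.2)
    have e : (X.sheaf.obj.map m.op).hom (s.1.1 U) = ∑ j, (c j).1 Y * (a j).1 Y := by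
      rw [s.1.2 m, ← hc]
      simp [Finset.sum_apply]
    rw [e]
    refine Ideal.sum_mem _ fun j _ => Ideal.mul_mem_left _ _ ?_
    have h := mem_spanSh_self a' j (Over.mk k)
    rw [show (a j).1 Y = (DerComp.GSec.ofSect X.sheaf V (a' j)).1 (Over.mk k) from ((a j).2 k).symm]
    exact h
  have hI : ∀ (W : X.Opens) (f : X.sheaf.obj.obj (op W)), f ∈ 𝓘.ideal W → LocallyInSpan a' f := fun W f hf =>
    (mem_localSpanSh a' f).1 (hle W hf)
  have hkz : KZ a' Z := (kz_obj₃_iff a' _ hT).2 (kzMor_toDerCompletion a' 𝓘 hI K)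
  let Z₀ := DerivedCategory.Q.objPreimage Z
  let eZ := DerivedCategory.Q.objObjPreimageIso Z
  have hz := hkz.isZero a' (restrCx Z₀ V) ((restrD V).mapIso eZ.symm ≪≫ restrDQ V Z₀)
  have hl : (List.ofFn a).map (fun s => DerComp.GSec.toOver s V) = gList a' := by
    rw [List.map_ofFn]
    refine congrArg List.ofFn (funext fun j => Subtype.ext (funext fun W => ?_))
    exact ((a j).2 W.hom).symm
  obtain ⟨e⟩ := nonempty_iso_map_kos (ModSite.restr X.sheaf V) (fun s => DerComp.GSec.toOver s V)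
    (fun M s => by rw [DerComp.smul_def, DerComp.smul_def, Category.comp_id, Category.comp_id]; rfl) (List.ofFn a) Z₀
  rw [hl] at e
  have hz' : IsZero ((restrD V).obj (DerivedCategory.Q.obj ((kos (List.ofFn a)).obj Z₀))) :=
    hz.of_iso (restrDQ V _ ≪≫ DerivedCategory.Q.mapIso e)
  have hz'' : IsZero (DerivedCategory.Q.obj ((kos (List.ofFn a)).obj Z₀)) := by
    refine DQCoh.isZero_of_isZero_hd _ fun n => ?_
    have h := IsZero.of_iso ((DerivedCategory.homologyFunctor _ n).map_isZero hz')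
      (DCat.SuppOpen.hdMapIso (ModSite.restr X.sheaf V) (DerivedCategory.Q.obj ((kos (List.ofFn a)).obj Z₀)) n).symm
    refine (IsZero.iff_id_eq_zero _).2 ?_
    have h0 := (IsZero.iff_id_eq_zero _).1 h
    rw [← CategoryTheory.Functor.map_id] at h0
    apply SheafOfModules.hom_ext
    ext U x
    have := congrArg (fun f => (f.val.app (op (Over.mk (homOfLE (le_top : U.unop ≤ V))))).hom x) h0
    exact this
  exact (killed_of_kos _ Z₀ hz'').of_iso eZ

set_option maxHeartbeats 8000000 in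
/-- `Hom(O, K[p]) → Hom(O, K^[p])` is an adic completion. -/
theorem main [IsNoetherian X] (I : Ideal (DerComp.GSec X.sheaf)) (𝓘 : DerComp.IdealSh X.sheaf)
    (h𝓘 : 𝓘.IsGenBy (fun a : I => (a : DerComp.GSec X.sheaf))) [DerComp.HasDerCompletion X.sheaf 𝓘]
    (K : D) (hK : ∀ m : ℤ, DCoh.IsPseudoCoherentD (X := X) m K) (p : ℤ) :
    I.FG ∧ ∃ e : (SiteCmp.inD X.sheaf (ModSite.unit X.sheaf) ⟶
        ((DerComp.derCompletion X.sheaf 𝓘).obj K).obj⟦p⟧) ≃ₗ[DerComp.GSec X.sheaf]
          AdicCompletion I (SiteCmp.inD X.sheaf (ModSite.unit X.sheaf) ⟶ K⟦p⟧),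
      ∀ x : SiteCmp.inD X.sheaf (ModSite.unit X.sheaf) ⟶ K⟦p⟧,
        e (x ≫ (DerComp.toDerCompletion 𝓘 K)⟦p⟧') = AdicCompletion.of I _ x := by
  haveI : IsNoetherianRing Γ(X, ⊤) := IsLocallyNoetherian.component_noetherian ⟨⊤, isAffineOpen_top X⟩
  haveI : IsNoetherianRing (DerComp.GSec X.sheaf) := isNoetherianRing_of_ringEquiv _ (gEv X).symm
  refine ⟨IsNoetherian.noetherian I, ?_⟩
  haveI : DRing.HasDerivedCompletion I := DCat.DC.hasDerivedCompletion (IsNoetherian.noetherian I)
  refine (exists_RG X).elim fun RG hRG => hRG.elim fun ad => ?_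
  letI := ad.rightAdjointCommShift ℤ
  haveI : ad.CommShift ℤ := ad.commShift_of_leftAdjoint ℤ
  haveI : RG.IsTriangulated := ad.isTriangulated_rightAdjoint
  haveI : RG.Additive := ad.right_adjoint_additive
  haveI := linear_rightAdjoint (S := DerComp.GSec X.sheaf) ad
  let η := DerComp.toDerCompletion 𝓘 K
  let C := ((DerComp.derCompletion X.sheaf 𝓘).obj K).obj
  have hC : DRing.IsDerivedComplete I (RG.obj C) := fun g hg n => by
    obtain ⟨eA⟩ := nonempty_awayIso X g
    haveI := ((DerComp.derCompletion X.sheaf 𝓘).obj K).property (⊤ : X.Opens) (g.1 ⊤)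
      (h𝓘.1 (⟨g, hg⟩ : I) ⊤) n
    exact ((((RG.commShiftIso n).app C).homToEquiv.symm).trans ((ad.homEquiv _ _).symm.trans
      ((((L X).mapDerivedCategorySingleFunctor 0).app _ ≪≫
        (DerivedCategory.singleFunctor _ 0).mapIso eA).homFromEquiv))).subsingleton
  refine (exists_fin_gen (A := DerComp.GSec X.sheaf) I).elim fun r hr => hr.elim fun a ha => ?_
  refine (distinguished_cocone_triangle η).elim fun Z hZ => hZ.elim fun g hg' => hg'.elim fun d hT => ?_
  have hmem : ∀ x ∈ List.ofFn a, x ∈ I := fun g hg => by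
    obtain ⟨j, rfl⟩ := List.mem_ofFn.1 hg
    exact ha ▸ Submodule.subset_span ⟨j, rfl⟩
  have hk := killed_cone I 𝓘 h𝓘 K a ha hT
  have hk' : Killed (List.ofFn a) (RG.obj Z) := Killed.map RG hk
  have hT' : RG.mapTriangle.obj (Triangle.mk η g d) ∈ distTriang (Dual.D (R X)) := RG.map_distinguished _ hT
  have hc : DCat.DC.IsCompl I (RG.map η) :=
    isCompl_of_killed I (List.ofFn a) hmem (T₀ := RG.mapTriangle.obj (Triangle.mk η g d)) hT' hC hk'
  refine (exists_homEquiv ad p).elim fun Ψ hΨ => ?_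
  have hfin : ∀ n : ℤ, Module.Finite (R X) (Dual.HD (R X) (RG.obj K) n) := fun n => by
    obtain ⟨Ψn, -⟩ := exists_homEquiv ad n
    haveI := finite_hom hK n
    exact Module.Finite.equiv (Ψn K)
  refine ((DCat.DC.isCompl_toDerivedCompletion I (RG.obj K)).exists_iso hc).elim fun u hu => ?_
  refine (CohDer1.ComplFin.good I (RG.obj K) hfin p).elim fun eg heg => ?_
  let H := DerivedCategory.homologyFunctor (ModuleCat.{u} (R X)) p
  refine ⟨(Ψ C).trans ((H.mapIso u).toLinearEquiv.symm.trans (eg.toLinearEquiv.trans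
    ((AdicCompletion.congr I (Ψ K)).symm.restrictScalars (DerComp.GSec X.sheaf)))), fun x => ?_⟩
  simp only [LinearEquiv.trans_apply]
  rw [hΨ η x]
  have h1 : (H.mapIso u).toLinearEquiv.symm ((H.map (RG.map η)).hom (Ψ K x)) =
      (H.map (DRing.toDerivedCompletion I (RG.obj K))).hom (Ψ K x) := by
    rw [LinearEquiv.symm_apply_eq]
    show _ = (H.map u.hom).hom _
    rw [← ModuleCat.comp_apply, ← Functor.map_comp]
    exact congrArg (fun f => (H.map f).hom (Ψ K x)) hu.symm
  rw [h1]
  have h2 := congrArg (fun f => f.hom (Ψ K x)) heg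
  show AdicCompletion.map I (Ψ K).symm.toLinearMap
    (eg.hom.hom ((H.map (DRing.toDerivedCompletion I (RG.obj K))).hom (Ψ K x))) = _
  refine (congrArg (AdicCompletion.map I (Ψ K).symm.toLinearMap) h2).trans ?_
  exact (AdicCompletion.map_of I _ _).trans (congrArg _ ((Ψ K).symm_apply_apply x))

end Groth.Agent.DerCompLib.AffGamma
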