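import Groth.Agent.AffSchLib.TildeExact
import Groth.Agent.DQCoh.Tilde
import Groth.Agent.DerCompLib.SecEquiv
import Groth.Agent.PrinLib.Order
import Groth.Prelude.Def_DerComp
import Groth.Agent.DCat.OpenDerived

/-!
# Modules over the global sections of an affine scheme

`L : ModuleCat R ⥤ Mod O_X`, `R` the ring of global sections, linear over `R`, with right adjoint the sections.
-/

set_option autoImplicit false
set_option backward.isDefEq.respectTransparency false
set_option backward.defeqAttrib.useBackward true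
set_option linter.style.haveILetI false

universe u

open CategoryTheory CategoryTheory.Limits AlgebraicGeometry Opposite TopologicalSpace

attribute [local instance] HasDerivedCategory.standard

noncomputable section

namespace Groth.Agent.DerCompLib.AffGamma

variable (X : Scheme.{u}) [IsAffine X]

/-- Global sections are the sections over `⊤`. -/
def gEv : DerComp.GSec X.sheaf ≃+* Γ(X, ⊤) :=
  RingEquiv.ofBijective
    ({ toFun := fun s => s.1 ⊤
       map_one' := rfl
       map_mul' := fun _ _ => rfl
       map_zero' := rfl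
       map_add' := fun _ _ => rfl } : DerComp.GSec X.sheaf →+* Γ(X, ⊤))
    ⟨fun s t h => Subtype.ext (funext fun U => by
        rw [← s.2 (homOfLE (le_top : U ≤ ⊤)), ← t.2 (homOfLE (le_top : U ≤ ⊤))]
        exact congrArg _ h),
     fun a => ⟨⟨fun U => (X.presheaf.map (homOfLE (le_top : U ≤ ⊤)).op).hom a, fun U V g => by
        change (X.presheaf.map g.op).hom ((X.presheaf.map _).hom a) = _
        rw [← CommRingCat.comp_apply, ← Functor.map_comp]
        rfl⟩, by
        show (X.presheaf.map (𝟙 (op (⊤ : X.Opens)))).hom a = a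
        rw [X.presheaf.map_id]; rfl⟩⟩

/-- The spectrum of the global sections. -/
abbrev R : CommRingCat.{u} := CommRingCat.of (DerComp.GSec X.sheaf)

/-- The comparison isomorphism of rings. -/
abbrev φ : R X ≅ Γ(X, ⊤) := (gEv X).toCommRingCatIso

/-- The comparison morphism of schemes. -/
def e : Spec (R X) ⟶ X := Spec.map (φ X).inv ≫ X.isoSpec.inv

instance : IsIso (e X) := by unfold e; infer_instance

theorem appTop_e (s : DerComp.GSec X.sheaf) :
    (e X).appTop.hom (s.1 ⊤) = (Scheme.ΓSpecIso (R X)).inv.hom s := by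
  have h1 : X.isoSpec.inv.appTop = (Scheme.ΓSpecIso Γ(X, ⊤)).inv := by
    rw [← cancel_mono X.isoSpec.hom.appTop, ← Scheme.Hom.comp_appTop, X.isoSpec.hom_inv_id]
    show _ = (Scheme.ΓSpecIso Γ(X, ⊤)).inv ≫ X.toSpecΓ.appTop
    rw [Scheme.toSpecΓ_appTop, Iso.inv_hom_id]
    rfl
  have h2 : (e X).appTop = (φ X).inv ≫ (Scheme.ΓSpecIso (R X)).inv := by
    rw [e, Scheme.Hom.comp_appTop, h1, ← Scheme.ΓSpecIso_inv_naturality]
  rw [h2, CommRingCat.comp_apply]
  exact congrArg _ ((gEv X).symm_apply_apply s)

/-- Direct image along the comparison. -/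
def pEq : (Spec (R X)).Modules ≌ X.Modules :=
  CategoryTheory.Equivalence.mk (Scheme.Modules.pushforward (e X)) (Scheme.Modules.pushforward (inv (e X)))
    ((Scheme.Modules.pushforwardId _).symm ≪≫ Scheme.Modules.pushforwardCongr (IsIso.hom_inv_id (e X)).symm ≪≫
      (Scheme.Modules.pushforwardComp (e X) (inv (e X))).symm)
    (Scheme.Modules.pushforwardComp (inv (e X)) (e X) ≪≫ Scheme.Modules.pushforwardCongr (IsIso.inv_hom_id (e X)) ≪≫
      Scheme.Modules.pushforwardId _)

/-- From modules to sheaves of modules. -/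
def L : ModuleCat.{u} (R X) ⥤ ModSite.Mod X.sheaf := tilde.functor (R X) ⋙ (pEq X).functor

/-- Sections, as modules over the global sections. -/
def Γm : ModSite.Mod X.sheaf ⥤ ModuleCat.{u} (R X) := (pEq X).inverse ⋙ moduleSpecΓFunctor (R := R X)

/-- The adjunction. -/
def adj : L X ⊣ Γm X := (tilde.adjunction (R := R X)).comp (pEq X).toAdjunction

instance : (L X).IsLeftAdjoint := (adj X).isLeftAdjoint

instance : PreservesColimitsOfSize.{u, u} (L X) := (adj X).leftAdjoint_preservesColimits

instance : PreservesFiniteColimits (L X) := inferInstance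

instance : PreservesFiniteLimits (L X) := by
  haveI : PreservesFiniteLimits (tilde.functor (R X)) := AffSchLib.preservesFiniteLimits_tilde _
  haveI : PreservesFiniteLimits (pEq X).functor := inferInstance
  exact comp_preservesFiniteLimits (tilde.functor (R X)) (pEq X).functor

instance : (L X).Additive :=
  haveI : PreservesBinaryBiproducts (L X) := preservesBinaryBiproducts_of_preservesBinaryCoproducts _
  Functor.additive_of_preservesBinaryBiproducts _

theorem Γm_smul (s : DerComp.GSec X.sheaf) (N : ModSite.Mod X.sheaf) :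
    (Γm X).map (DerComp.smulEnd s N) = s • 𝟙 ((Γm X).obj N) := by
  ext x
  have h : (inv (e X)).appTop.hom ((Scheme.ΓSpecIso (R X)).inv.hom s) = s.1 ⊤ := by
    rw [← appTop_e, ← CommRingCat.comp_apply, ← Scheme.Hom.comp_appTop, IsIso.inv_hom_id]
    rfl
  have hx := congrArg (fun r : Γ(X, ⊤) => r • (show Γ(N, ⊤) from x)) h
  exact hx.symm

instance : Functor.Linear (DerComp.GSec X.sheaf) (L X) where
  map_smul {M N} f s := by
    have h : ∀ M : ModuleCat.{u} (R X), (L X).map (s • 𝟙 M) = DerComp.smulEnd s ((L X).obj M) := fun M => by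
      apply ((adj X).homEquiv M ((L X).obj M)).injective
      rw [Adjunction.homEquiv_unit, Adjunction.homEquiv_unit, Γm_smul]
      refine ((adj X).unit.naturality (s • 𝟙 M)).symm.trans (Eq.trans ?_ (Eq.trans (congrArg (s • ·)
        (Category.comp_id ((adj X).unit.app M)).symm) (Linear.comp_smul _ _ _ _ _ _).symm))
      exact (Linear.smul_comp _ _ _ _ _ _).trans (congrArg (s • ·) (Category.id_comp _))
    rw [show s • f = (s • 𝟙 M) ≫ f by rw [Linear.smul_comp, Category.id_comp], Functor.map_comp, h]
    rfl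

/-- Objects corepresenting the same functor are isomorphic. -/
theorem nonempty_iso_of_corep {C : Type*} [Category C] {P Q : C} {T : C → Type*} (f : ∀ {M N : C}, (M ⟶ N) → T M → T N)
    (E₁ : ∀ M, (P ⟶ M) ≃ T M) (E₂ : ∀ M, (Q ⟶ M) ≃ T M)
    (h₁ : ∀ {M N : C} (g : P ⟶ M) (q : M ⟶ N), E₁ N (g ≫ q) = f q (E₁ M g))
    (h₂ : ∀ {M N : C} (g : Q ⟶ M) (q : M ⟶ N), E₂ N (g ≫ q) = f q (E₂ M g)) : Nonempty (P ≅ Q) :=
  ⟨{ hom := (E₁ _).symm (E₂ _ (𝟙 _))
     inv := (E₂ _).symm (E₁ _ (𝟙 _))
     hom_inv_id := (E₁ _).injective (by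
       rw [h₁, Equiv.apply_symm_apply, ← h₂, Category.id_comp, Equiv.apply_symm_apply])
     inv_hom_id := (E₂ _).injective (by
       rw [h₂, Equiv.apply_symm_apply, ← h₁, Category.id_comp, Equiv.apply_symm_apply]) }⟩

/-- Maps out of the image of the free module of rank one are global sections. -/
def homEv (N : ModSite.Mod X.sheaf) :
    ((L X).obj (ModuleCat.of (R X) (R X)) ⟶ N) ≃ Sec N (⊤ : X.Opens) :=
  ((adj X).homEquiv (ModuleCat.of (R X) (R X)) N).trans
    ((ModuleCat.homEquiv).trans (LinearMap.ringLmapEquivSelf (R X) ℕ _).toEquiv)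

theorem homEv_comp {M N : ModSite.Mod X.sheaf} (g : (L X).obj (ModuleCat.of (R X) (R X)) ⟶ M) (q : M ⟶ N) :
    homEv X N (g ≫ q) = secMap q ⊤ (homEv X M g) := by
  simp only [homEv, Equiv.trans_apply, Adjunction.homEquiv_naturality_right]
  rfl

theorem nonempty_freeOnIso :
    Nonempty ((L X).obj (ModuleCat.of (R X) (R X)) ≅ ModSite.freeOn X.sheaf (⊤ : X.Opens)) :=
  nonempty_iso_of_corep (fun q x => secMap q (⊤ : X.Opens) x) (homEv X) (fun M => (secEquiv ⊤ M).toEquiv)
    (fun g q => homEv_comp X g q) (fun g q => secEquiv_comp _ g q)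

theorem nonempty_unitIso : Nonempty ((L X).obj (ModuleCat.of (R X) (R X)) ≅ ModSite.unit X.sheaf) := by
  let ev : ∀ M : ModSite.Mod X.sheaf, M.sections ≃ Sec M (⊤ : X.Opens) := fun M =>
    { toFun := fun s => s.1 (op ⊤)
      invFun := fun y => PresheafOfModules.sectionsMk (fun U => M.val.map (homOfLE (le_top : U.unop ≤ ⊤)).op y)
        fun {U V} g => by
          exact (FunctorToTypes.map_comp_apply (M.val.presheaf ⋙ CategoryTheory.forget AddCommGrpCat.{u})
            (homOfLE (le_top : U.unop ≤ ⊤)).op g y).symm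
      left_inv := fun s => Subtype.ext (funext fun U => s.2 _)
      right_inv := fun y => FunctorToTypes.map_id_apply (M.val.presheaf ⋙ CategoryTheory.forget AddCommGrpCat.{u}) y }
  exact nonempty_iso_of_corep (fun q x => secMap q (⊤ : X.Opens) x) (homEv X)
    (fun M => M.unitHomEquiv.trans (ev M)) (fun g q => homEv_comp X g q) (fun g q => rfl)

end Groth.Agent.DerCompLib.AffGamma
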