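import Groth.Agent.DerCompLib.SmallObjects
import Groth.Agent.DCat.RFTri
import Mathlib.CategoryTheory.ObjectProperty.FullSubcategory

/-! Left Bousfield localization of the derived category of a Grothendieck abelian category at a
small family of objects: the right orthogonal of the family is reflective. -/

set_option autoImplicit false
set_option backward.isDefEq.respectTransparency false
set_option backward.defeqAttrib.useBackward true

universe w v u

open CategoryTheory CategoryTheory.Limits HomologicalComplex MorphismProperty ZeroObject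

namespace Groth.Agent.DerCompLib

variable {A : Type u} [Category.{v} A] [Abelian A] [HasDerivedCategory.{w} A]

/-- The right orthogonal of a family of objects and of all their shifts. -/
def rightOrth {ι : Type*} (S : ι → DerivedCategory A) : ObjectProperty (DerivedCategory A) :=
  fun K => ∀ i (n : ℤ), Subsingleton (S i ⟶ K⟦n⟧)

theorem rightOrth_of_iso {ι : Type*} (S : ι → DerivedCategory A) {K L : DerivedCategory A}
    (h : rightOrth S K) (e : K ≅ L) : rightOrth S L := fun i n => by
  have := h i n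
  exact (((shiftFunctor (DerivedCategory A) n).mapIso e).homToEquiv (Z := S i)).symm.subsingleton

variable {ι : Type v} (S : ι → CochainComplex A ℤ)

theorem subsingleton_hom_shift {K : DerivedCategory A}
    (hK : rightOrth (fun i => DerivedCategory.Q.obj (S i)) K) (i : ι) (n : ℤ) :
    Subsingleton (DerivedCategory.Q.obj ((S i)⟦n⟧) ⟶ K) := by
  have := hK i (-n)
  let e := (shiftFunctor (DerivedCategory A) (-n))
  refine ⟨fun f g => ?_⟩
  let j : DerivedCategory.Q.obj (S i) ≅ e.obj (DerivedCategory.Q.obj ((S i)⟦n⟧)) :=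
    (shiftFunctorCompIsoId (DerivedCategory A) n (-n) (add_neg_cancel n)).symm.app _ ≪≫
      e.mapIso ((DerivedCategory.Q.commShiftIso n).symm.app (S i))
  apply e.map_injective
  rw [← cancel_epi j.hom]
  exact Subsingleton.elim _ _

/-- Being right orthogonal, on K-injective representatives. -/
theorem nonempty_homotopy_zero {M : CochainComplex A ℤ} [M.IsKInjective]
    (hM : rightOrth (fun i => DerivedCategory.Q.obj (S i)) (DerivedCategory.Q.obj M))
    (i : ι) (n : ℤ) (f : (S i)⟦n⟧ ⟶ M) : Nonempty (Homotopy f 0) := by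
  have := subsingleton_hom_shift S hM i n
  refine ⟨HomotopyCategory.homotopyOfEq _ _ ?_⟩
  apply (CochainComplex.IsKInjective.Qh_map_bijective _ _).1
  have h : DerivedCategory.Q.map f = DerivedCategory.Q.map 0 := Subsingleton.elim _ _
  rw [← cancel_epi ((DerivedCategory.quotientCompQhIso A).hom.app _)] at *
  have h1 := (DerivedCategory.quotientCompQhIso A).hom.naturality f
  have h2 := (DerivedCategory.quotientCompQhIso A).hom.naturality (0 : (S i)⟦n⟧ ⟶ M)
  rw [← cancel_mono ((DerivedCategory.quotientCompQhIso A).hom.app M)]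
  simp only [Functor.comp_map] at h1 h2
  simp only [Category.assoc, h1, h2, h]

section

variable [IsGrothendieckAbelian.{v} A]

/-- The test monomorphisms. -/
abbrev TIdx (T : CochainComplex A ℤ) (ι : Type v) : Type (max u v) := DCat.SIdx T ⊕ (ι × ℤ)

/-- Sources of the test monomorphisms. -/
noncomputable def src (T : CochainComplex A ℤ) : TIdx T ι → CochainComplex A ℤ
  | .inl s => (s.2.1 : CochainComplex A ℤ)
  | .inr p => (S p.1)⟦p.2⟧

/-- Targets of the test monomorphisms. -/
noncomputable def tgt (T : CochainComplex A ℤ) : TIdx T ι → CochainComplex A ℤ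
  | .inl s => cokernel s.1.arrow
  | .inr p => CochainComplex.mappingCone (𝟙 ((S p.1)⟦p.2⟧))

/-- The test monomorphisms: small monos with acyclic cokernel and cones on the family. -/
noncomputable def testHom (T : CochainComplex A ℤ) : ∀ t : TIdx T ι, src S T t ⟶ tgt S T t
  | .inl s => s.2.1.arrow
  | .inr p => CochainComplex.mappingCone.inr (𝟙 ((S p.1)⟦p.2⟧))

omit [HasDerivedCategory.{w} A] [IsGrothendieckAbelian.{v} A] in
theorem shortExact_cone (X : CochainComplex A ℤ) :
    (CochainComplex.mappingCone.triangleRotateShortComplex (𝟙 X)).ShortExact :=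
  shortExact_of_degreewise_shortExact _ fun n =>
    (CochainComplex.mappingCone.triangleRotateShortComplexSplitting (𝟙 X) n).shortExact

omit [HasDerivedCategory.{w} A] [IsGrothendieckAbelian.{v} A] in
theorem mono_inr (X : CochainComplex A ℤ) : Mono (CochainComplex.mappingCone.inr (𝟙 X)) :=
  (shortExact_cone X).mono_f

instance mono_testHom (T : CochainComplex A ℤ) (t : TIdx T ι) : Mono (testHom S T t) :=
  match t with
  | .inl s => inferInstanceAs (Mono s.2.1.arrow)
  | .inr p => mono_inr _

/-- Lifting against the projection of the contractible cone. -/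
theorem hasLiftingProperty_coneProj {X Y : CochainComplex A ℤ} (i : X ⟶ Y) (M : CochainComplex A ℤ)
    {Z : CochainComplex A ℤ} (π : Y ⟶ Z) (w : i ≫ π = 0)
    (hdesc : ∀ {W : CochainComplex A ℤ} (c : Y ⟶ W), i ≫ c = 0 → ∃ c₀ : Z ⟶ W, π ≫ c₀ = c)
    (hext : ∀ a : X ⟶ CochainComplex.mappingCone (𝟙 M), ∃ a', i ≫ a' = a)
    (hnull : ∀ c : Z ⟶ M⟦(1 : ℤ)⟧, Nonempty (Homotopy c 0)) :
    HasLiftingProperty i (coneProj M) := by
  refine ⟨fun {a b} sq => ?_⟩
  obtain ⟨a', ha'⟩ := hext a
  obtain ⟨c₀, hc₀⟩ := hdesc (b - a' ≫ coneProj M) (by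
    rw [Preadditive.comp_sub, reassoc_of% ha', sq.w, sub_self])
  obtain ⟨h⟩ := hnull c₀
  obtain ⟨l, hl⟩ := exists_lift_coneProj M c₀ h
  refine ⟨⟨{ l := a' + π ≫ l, fac_left := ?_, fac_right := ?_ }⟩⟩
  · rw [Preadditive.comp_add, ha', reassoc_of% w, zero_comp, add_zero]
  · rw [Preadditive.add_comp, Category.assoc, hl, hc₀, add_sub_cancel]

theorem rlp_testHom (T : CochainComplex A ℤ) (M : CochainComplex A ℤ) [M.IsKInjective]
    (hI : ∀ n, Injective (M.X n))
    (hM : rightOrth (fun i => DerivedCategory.Q.obj (S i)) (DerivedCategory.Q.obj M)) :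
    (ofHoms (testHom S T)).rlp (0 : M ⟶ (0 : CochainComplex A ℤ)) ∧
      (ofHoms (testHom S T)).rlp (coneProj M) := by
  have := isKInjective_cone M
  have hIc := injective_cone M hI
  constructor
  · rintro _ _ _ ⟨t⟩
    refine ⟨fun {a b} _ => ?_⟩
    suffices h : ∃ g, testHom S T t ≫ g = a by
      obtain ⟨g, hg⟩ := h
      exact ⟨⟨{ l := g, fac_left := hg, fac_right := (isZero_zero _).eq_of_tgt _ _ }⟩⟩
    match t with
    | .inl s =>
      exact DCat.lifting_of_isKInjective M hI
        (S := ShortComplex.mk s.2.1.arrow (cokernel.π _) (cokernel.condition _))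
        { exact := ShortComplex.exact_cokernel _ } s.2.2 a
    | .inr p => exact exists_desc_inr M a (nonempty_homotopy_zero S hM p.1 p.2 a).some
  · rintro _ _ _ ⟨t⟩
    match t with
    | .inl s =>
      exact hasLiftingProperty_coneProj s.2.1.arrow M (cokernel.π _) (cokernel.condition _)
        (fun c hc => ⟨cokernel.desc _ c hc, cokernel.π_desc _ _ _⟩)
        (fun a => DCat.lifting_of_isKInjective _ hIc
          (S := ShortComplex.mk s.2.1.arrow (cokernel.π _) (cokernel.condition _))
          { exact := ShortComplex.exact_cokernel _ } s.2.2 a)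
        (fun c => CochainComplex.IsKInjective.nonempty_homotopy_zero c s.2.2)
    | .inr p =>
      refine hasLiftingProperty_coneProj (CochainComplex.mappingCone.inr (𝟙 ((S p.1)⟦p.2⟧))) M
        (CochainComplex.mappingCone.triangleRotateShortComplex (𝟙 ((S p.1)⟦p.2⟧))).g
        (CochainComplex.mappingCone.triangleRotateShortComplex (𝟙 ((S p.1)⟦p.2⟧))).zero
        (fun c hc => ?_) (fun a => ?_) (fun c => ?_)
      · have := (shortExact_cone ((S p.1)⟦p.2⟧)).epi_g
        exact ⟨(shortExact_cone ((S p.1)⟦p.2⟧)).exact.desc c hc,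
          (shortExact_cone ((S p.1)⟦p.2⟧)).exact.g_desc c hc⟩
      · exact exists_desc_inr _ a ((Homotopy.ofEq (Category.comp_id a).symm).trans
          (((CochainComplex.mappingCone.homotopyToZeroOfId M).compLeft a).trans
            (Homotopy.ofEq comp_zero)))
      · let e : (S p.1)⟦p.2 + 1⟧ ≅ ((S p.1)⟦p.2⟧)⟦(1 : ℤ)⟧ :=
          (CategoryTheory.shiftFunctorAdd (CochainComplex A ℤ) p.2 1).app (S p.1)
        let e' := (CategoryTheory.shiftFunctor (CochainComplex A ℤ) (1 : ℤ))
        have hM' : rightOrth (fun i => DerivedCategory.Q.obj (S i))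
            (DerivedCategory.Q.obj (M⟦(1 : ℤ)⟧)) := by
          refine rightOrth_of_iso _ (fun i n => ?_) ((DerivedCategory.Q.commShiftIso (1 : ℤ)).symm.app M)
          have := hM i (1 + n)
          exact (((shiftFunctorAdd (DerivedCategory A) (1 : ℤ) n).app
            (DerivedCategory.Q.obj M)).homToEquiv (Z := DerivedCategory.Q.obj (S i))).symm.subsingleton
        obtain ⟨h⟩ := nonempty_homotopy_zero S hM' p.1 (p.2 + 1) (e.hom ≫ c)
        exact ⟨(Homotopy.ofEq (e.inv_hom_id_assoc c).symm).trans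
          ((h.compLeft e.inv).trans (Homotopy.ofEq comp_zero))⟩

theorem exists_reflection (K : DerivedCategory A) :
    ∃ (L : DerivedCategory A) (η : K ⟶ L), rightOrth (fun i => DerivedCategory.Q.obj (S i)) L ∧
      ∀ N, rightOrth (fun i => DerivedCategory.Q.obj (S i)) N →
        Function.Bijective fun g : L ⟶ N => η ≫ g := by
  obtain ⟨K₀, ⟨eK⟩⟩ : ∃ K₀, Nonempty (DerivedCategory.Q.obj K₀ ≅ K) :=
    ⟨_, ⟨DerivedCategory.Q.objObjPreimageIso K⟩⟩
  obtain ⟨T, hT⟩ := DCat.exists_small_test (isSeparator_separator A)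
    (isSeparator_separator (CochainComplex A ℤ))
  have : HasSmallObjectArgument.{v} (ofHoms (testHom S T)) := hasSmallObjectArgument_ofHoms _
  let F := MorphismProperty.factorizationData (ofHoms (testHom S T)).rlp.llp
    (ofHoms (testHom S T)).rlp (0 : K₀ ⟶ (0 : CochainComplex A ℤ))
  let L := F.Z
  have hlift : ∀ (S' : ShortComplex (CochainComplex A ℤ)), S'.ShortExact → S'.X₃.Acyclic →
      ∀ φ : S'.X₁ ⟶ L, ∃ ψ : S'.X₂ ⟶ L, S'.f ≫ ψ = φ := by
    intro S' hS hC φ
    have := hS.mono_f
    have hc : (cokernel S'.f).Acyclic := DCat.acyclic_of_iso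
      (hS.gIsCokernel.coconePointUniqueUpToIso (colimit.isColimit _)) hC
    have hp : (DCat.smallMonos T).rlp F.p := by
      rintro _ _ _ ⟨s⟩
      exact F.hp _ ⟨Sum.inl s⟩
    have := hT F.p hp S'.f hc
    have sq : CommSq φ S'.f F.p (0 : S'.X₂ ⟶ (0 : CochainComplex A ℤ)) :=
      ⟨(isZero_zero _).eq_of_tgt _ _⟩
    exact ⟨sq.lift, sq.fac_left⟩
  have hK : L.IsKInjective := DCat.isKInjective_of_lifting L hlift
  have hLI : ∀ n, Injective (L.X n) := DCat.injective_of_lifting L hlift
  have hbij := fun (X : CochainComplex A ℤ) (M : CochainComplex A ℤ) [M.IsKInjective] =>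
    CochainComplex.IsKInjective.Qh_map_bijective (C := A)
      ((HomotopyCategory.quotient A (ComplexShape.up ℤ)).obj X) M
  -- maps in `D(A)` into a K-injective complex come from maps of complexes
  have hQ : ∀ (X M : CochainComplex A ℤ) [M.IsKInjective]
      (g : DerivedCategory.Q.obj X ⟶ DerivedCategory.Q.obj M), ∃ f, DerivedCategory.Q.map f = g := by
    intro X M _ g
    let q := DerivedCategory.quotientCompQhIso A
    obtain ⟨f', hf'⟩ := (hbij X M).2 (q.hom.app X ≫ g ≫ q.inv.app M)
    obtain ⟨f, rfl⟩ := (HomotopyCategory.quotient A (ComplexShape.up ℤ)).map_surjective f'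
    refine ⟨f, ?_⟩
    rw [← cancel_epi (q.hom.app X), ← cancel_mono (q.inv.app M), Category.assoc, Category.assoc, ← hf']
    simp [q]
  have hLloc : rightOrth (fun i => DerivedCategory.Q.obj (S i)) (DerivedCategory.Q.obj L) := by
    intro i n
    refine ⟨fun g₁ g₂ => ?_⟩
    let e := shiftFunctor (DerivedCategory A) (-n)
    let eL : e.obj ((DerivedCategory.Q.obj L)⟦n⟧) ≅ DerivedCategory.Q.obj L :=
      (shiftFunctorCompIsoId (DerivedCategory A) n (-n) (add_neg_cancel n)).app _
    let eS : DerivedCategory.Q.obj ((S i)⟦(-n : ℤ)⟧) ≅ e.obj (DerivedCategory.Q.obj (S i)) :=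
      (DerivedCategory.Q.commShiftIso (-n)).app (S i)
    have key : ∀ g : DerivedCategory.Q.obj ((S i)⟦(-n : ℤ)⟧) ⟶ DerivedCategory.Q.obj L, g = 0 := by
      intro g
      obtain ⟨f, rfl⟩ := hQ _ _ g
      have sq : CommSq f (testHom S T (Sum.inr (i, -n))) F.p 0 := ⟨(isZero_zero _).eq_of_tgt _ _⟩
      have := F.hp (testHom S T (Sum.inr (i, -n))) ⟨Sum.inr (i, -n)⟩
      have hz : DerivedCategory.Q.map
          (testHom S T (Sum.inr (i, -n)) : (S i)⟦(-n : ℤ)⟧ ⟶ tgt S T (Sum.inr (i, -n))) = 0 := by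
        refine IsZero.eq_of_tgt ?_ _ _
        refine IsZero.of_iso ?_ ((DerivedCategory.quotientCompQhIso A).app _).symm
        exact Functor.map_isZero DerivedCategory.Qh ((HomotopyCategory.isZero_quotient_obj_iff _).2
          ⟨CochainComplex.mappingCone.homotopyToZeroOfId _⟩)
      rw [← sq.fac_left, Functor.map_comp]
      exact (congrArg (· ≫ DerivedCategory.Q.map sq.lift) hz).trans zero_comp
    have key' : ∀ g, eS.hom ≫ e.map g ≫ eL.hom = 0 := fun g => key _
    apply e.map_injective
    rw [← cancel_epi eS.hom, ← cancel_mono eL.hom, Category.assoc, Category.assoc, key', key']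
  refine ⟨DerivedCategory.Q.obj L, eK.inv ≫ DerivedCategory.Q.map F.i, hLloc, fun N hN => ?_⟩
  -- bijectivity against a K-injective representative
  have main : ∀ (M : CochainComplex A ℤ) [M.IsKInjective], (∀ n, Injective (M.X n)) →
      rightOrth (fun i => DerivedCategory.Q.obj (S i)) (DerivedCategory.Q.obj M) →
      (∀ g : DerivedCategory.Q.obj K₀ ⟶ DerivedCategory.Q.obj M,
        ∃ g', DerivedCategory.Q.map F.i ≫ g' = g) ∧
      (∀ g : DerivedCategory.Q.obj L ⟶ DerivedCategory.Q.obj (M⟦(1 : ℤ)⟧),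
        DerivedCategory.Q.map F.i ≫ g = 0 → g = 0) := by
    intro M _ hI hM
    obtain ⟨r0, rp⟩ := rlp_testHom S T M hI hM
    constructor
    · intro g
      obtain ⟨f, rfl⟩ := hQ _ _ g
      have := F.hi _ r0
      have sq : CommSq f F.i (0 : M ⟶ (0 : CochainComplex A ℤ)) 0 := ⟨(isZero_zero _).eq_of_tgt _ _⟩
      exact ⟨DerivedCategory.Q.map sq.lift, by rw [← Functor.map_comp, sq.fac_left]⟩
    · intro g hg
      obtain ⟨f, rfl⟩ := hQ _ _ g
      let q := DerivedCategory.quotientCompQhIso A
      have h0 : (HomotopyCategory.quotient A (ComplexShape.up ℤ)).map (F.i ≫ f) =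
          (HomotopyCategory.quotient A (ComplexShape.up ℤ)).map 0 := by
        apply (hbij K₀ (M⟦(1 : ℤ)⟧)).1
        rw [← cancel_mono (q.hom.app (M⟦(1 : ℤ)⟧))]
        change (_ : _ ⟶ _) ≫ _ = _ ≫ _
        erw [q.hom.naturality, q.hom.naturality]
        rw [Functor.map_comp, hg, Functor.map_zero]
      obtain ⟨l, hl⟩ := exists_lift_coneProj M (F.i ≫ f) (HomotopyCategory.homotopyOfEq _ _ h0)
      have := F.hi _ rp
      have sq : CommSq l F.i (coneProj M) f := ⟨hl⟩
      rw [← sq.fac_right, Functor.map_comp]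
      refine (congrArg (· ≫ DerivedCategory.Q.map (coneProj M)) (IsZero.eq_of_tgt ?_ _ 0)).trans zero_comp
      refine IsZero.of_iso ?_ ((DerivedCategory.quotientCompQhIso A).app _).symm
      exact Functor.map_isZero DerivedCategory.Qh ((HomotopyCategory.isZero_quotient_obj_iff _).2
        ⟨CochainComplex.mappingCone.homotopyToZeroOfId _⟩)
  have repr : ∀ N', rightOrth (fun i => DerivedCategory.Q.obj (S i)) N' →
      ∃ (M : CochainComplex A ℤ) (_ : M.IsKInjective), (∀ n, Injective (M.X n)) ∧
        rightOrth (fun i => DerivedCategory.Q.obj (S i)) (DerivedCategory.Q.obj M) ∧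
        Nonempty (DerivedCategory.Q.obj M ≅ N') := by
    intro N' hN'
    obtain ⟨M, s, hM, hs, -, hI⟩ := DCat.exists_kInj_res (DerivedCategory.Q.objPreimage N')
    have := hs
    let e := (asIso (DerivedCategory.Q.map s)).symm ≪≫ DerivedCategory.Q.objObjPreimageIso N'
    exact ⟨M, hM, hI, rightOrth_of_iso _ hN' e.symm, ⟨e⟩⟩
  refine ⟨fun g₁ g₂ h => ?_, fun g => ?_⟩
  · have hN1 : rightOrth (fun i => DerivedCategory.Q.obj (S i)) (N⟦(-1 : ℤ)⟧) := fun i n => by
      have := hN i (-1 + n)
      exact (((shiftFunctorAdd (DerivedCategory A) (-1 : ℤ) n).app N).homToEquiv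
        (Z := DerivedCategory.Q.obj (S i))).symm.subsingleton
    obtain ⟨M, hMK, hI, hM, ⟨e⟩⟩ := repr _ hN1
    let e₁ : DerivedCategory.Q.obj (M⟦(1 : ℤ)⟧) ≅ N :=
      (DerivedCategory.Q.commShiftIso (1 : ℤ)).app M ≪≫ (shiftFunctor _ (1 : ℤ)).mapIso e ≪≫
        (shiftFunctorCompIsoId (DerivedCategory A) (-1 : ℤ) 1 (by norm_num)).app N
    rw [← sub_eq_zero]
    simp only at h
    have h1 := (main M hI hM).2 ((g₁ - g₂) ≫ e₁.inv) (by
      rw [← cancel_epi eK.inv, comp_zero, ← Category.assoc, ← Category.assoc, Preadditive.comp_sub, h,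
        sub_self, zero_comp])
    rwa [← cancel_mono e₁.inv, zero_comp]
  · obtain ⟨M, hMK, hI, hM, ⟨e⟩⟩ := repr _ hN
    obtain ⟨g', hg'⟩ := (main M hI hM).1 (eK.hom ≫ g ≫ e.inv)
    refine ⟨g' ≫ e.hom, ?_⟩
    simp only [Category.assoc, reassoc_of% hg', Iso.inv_hom_id, Category.comp_id, Iso.inv_hom_id_assoc]

/-- The right orthogonal of a small family is reflective. -/
theorem isRightAdjoint_ι (P : ObjectProperty (DerivedCategory A))
    (hP : P = rightOrth (fun i => DerivedCategory.Q.obj (S i))) : P.ι.IsRightAdjoint := by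
  subst hP
  choose L η hL hbij using exists_reflection S
  let e : ∀ (K : DerivedCategory A)
      (Y : (rightOrth (fun i => DerivedCategory.Q.obj (S i))).FullSubcategory),
      ((⟨L K, hL K⟩ : (rightOrth (fun i => DerivedCategory.Q.obj (S i))).FullSubcategory) ⟶ Y) ≃
        (K ⟶ (rightOrth (fun i => DerivedCategory.Q.obj (S i))).ι.obj Y) := fun K Y =>
    (InducedCategory.homEquiv).trans (Equiv.ofBijective _ (hbij K Y.obj Y.property))
  exact ⟨_, ⟨Adjunction.adjunctionOfEquivLeft e fun X Y Y' g h => (Category.assoc _ _ _).symm⟩⟩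

end

end Groth.Agent.DerCompLib
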