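import Groth.Agent.DerCompLib.Bousfield
import Groth.Agent.DCat.ModulesGrothendieck
import Groth.Prelude.Def_DerComp

/-! Derived completion on a ringed site exists for every sheaf of ideals. -/

set_option autoImplicit false

universe u

open CategoryTheory CategoryTheory.Limits Opposite

attribute [local instance] HasDerivedCategory.standard

namespace Groth.Agent.DerCompLib

variable {C : Type u} [SmallCategory C] {J : GrothendieckTopology C}
  (O : Sheaf J CommRingCat.{u}) (I : DerComp.IdealSh O)

/-- The test complexes `j_{U!} O_{U,f}` for `f ∈ I(U)`. -/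
noncomputable def testCx (p : Σ U : C, { f : O.obj.obj (op U) // f ∈ I.ideal U }) :
    CochainComplex (ModSite.Mod O) ℤ :=
  (CochainComplex.singleFunctor (ModSite.Mod O) 0).obj
    ((ModSite.extZero O p.1).obj (DerComp.awayOver O p.1 p.2.1))

theorem isDerComp_eq : DerComp.IsDerComp O I =
    rightOrth fun p => DerivedCategory.Q.obj (testCx O I p) := by
  funext K
  exact propext ⟨fun h p n => h p.1 p.2.1 p.2.2 n, fun h U f hf n => h ⟨U, f, hf⟩ n⟩

/-- The inclusion of derived complete objects has a left adjoint. -/
theorem hasDerCompletion : DerComp.HasDerCompletion O I :=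
  isRightAdjoint_ι (testCx O I) _ (isDerComp_eq O I)

end Groth.Agent.DerCompLib
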