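import Groth.Agent.DerCompLib.LocalLift

/-!
# Inverse images of bounded above exact complexes of free modules are exact

`SecData`: an adjunction `G ⊣ F` between sheaves of modules on two ringed sites in which the
sections of `F N` over `E` are the sections of `N` over `fn E`, semilinearly. For `fn` locally
flat, `G` preserves exactness of bounded above complexes whose terms are free on families of
objects. The proof is an elementary local contraction.
-/

set_option autoImplicit false
set_option backward.isDefEq.respectTransparency false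

universe u

open CategoryTheory CategoryTheory.Limits Opposite

namespace Groth.Agent.DerCompLib

variable {C D : Type u} [SmallCategory C] [SmallCategory D] {J : GrothendieckTopology C}
  {K : GrothendieckTopology D} {OC : Sheaf J CommRingCat.{u}} {OD : Sheaf K CommRingCat.{u}}

/-- An adjunction whose right adjoint takes sections along a functor, semilinearly. -/
structure SecData (OC : Sheaf J CommRingCat.{u}) (OD : Sheaf K CommRingCat.{u}) where
  /-- the functor on objects of the sites -/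
  fn : D ⥤ C
  /-- the inverse image -/
  G : ModSite.Mod OD ⥤ ModSite.Mod OC
  /-- the direct image -/
  F : ModSite.Mod OC ⥤ ModSite.Mod OD
  /-- the adjunction -/
  adj : G ⊣ F
  /-- the map of rings on sections -/
  σ : ∀ E : D, OD.obj.obj (op E) →+* OC.obj.obj (op (fn.obj E))
  σ_res : ∀ {E E' : D} (h : E' ⟶ E) (r : OD.obj.obj (op E)),
    (OC.obj.map (fn.map h).op).hom (σ E r) = σ E' ((OD.obj.map h.op).hom r)
  /-- sections of the direct image -/
  secF : ∀ (N : ModSite.Mod OC) (E : D), Sec (F.obj N) E ≃+ Sec N (fn.obj E)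
  secF_smul : ∀ (N : ModSite.Mod OC) (E : D) (r : OD.obj.obj (op E)) (y : Sec (F.obj N) E),
    secF N E (r • y) = σ E r • secF N E y
  secF_res : ∀ (N : ModSite.Mod OC) {E E' : D} (h : E' ⟶ E) (y : Sec (F.obj N) E),
    secF N E' (secRes (F.obj N) h y) = secRes N (fn.map h) (secF N E y)
  secF_map : ∀ {N N' : ModSite.Mod OC} (q : N ⟶ N') (E : D) (y : Sec (F.obj N) E),
    secF N' E (secMap (F.map q) E y) = secMap q (fn.obj E) (secF N E y)

namespace SecData

variable (S : SecData OC OD)

/-- The translate of a section along `k : X ⟶ fn E`. -/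
noncomputable def θ {X : C} {E : D} (k : X ⟶ S.fn.obj E) (M : ModSite.Mod OD) :
    Sec M E →+ Sec (S.G.obj M) X :=
  (secRes (S.G.obj M) k).comp ((S.secF (S.G.obj M) E).toAddMonoidHom.comp
    (secMap (S.adj.unit.app M) E).toAddMonoidHom)

/-- The scalars along `k : X ⟶ fn E`. -/
noncomputable def ψ {X : C} {E : D} (k : X ⟶ S.fn.obj E) :
    OD.obj.obj (op E) →+* OC.obj.obj (op X) :=
  (OC.obj.map k.op).hom.comp (S.σ E)

variable {X : C} {E : D} (k : X ⟶ S.fn.obj E)

lemma θ_apply (M : ModSite.Mod OD) (m : Sec M E) :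
    S.θ k M m = secRes (S.G.obj M) k (S.secF _ E (secMap (S.adj.unit.app M) E m)) := rfl

lemma θ_smul (M : ModSite.Mod OD) (r : OD.obj.obj (op E)) (m : Sec M E) :
    S.θ k M (r • m) = S.ψ k r • S.θ k M m := by
  rw [θ_apply, θ_apply, map_smul, S.secF_smul, secRes_smul]
  rfl

lemma θ_map {M M' : ModSite.Mod OD} (q : M ⟶ M') (m : Sec M E) :
    secMap (S.G.map q) X (S.θ k M m) = S.θ k M' (secMap q E m) := by
  rw [θ_apply, θ_apply, secMap_secRes, ← S.secF_map]
  congr 2
  exact congrArg (fun φ => secMap φ E m) (S.adj.unit_naturality q)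

lemma secRes_θ (M : ModSite.Mod OD) {W : C} (g : W ⟶ X) (m : Sec M E) :
    secRes _ g (S.θ k M m) = S.θ (g ≫ k) M m := by
  rw [θ_apply, θ_apply, secRes_comp]

lemma θ_res (M : ModSite.Mod OD) {E' : D} (h : E' ⟶ E) (k' : X ⟶ S.fn.obj E') (m : Sec M E) :
    S.θ k' M (secRes M h m) = S.θ (k' ≫ S.fn.map h) M m := by
  refine (congrArg (fun y => secRes (S.G.obj M) k' (S.secF (S.G.obj M) E' y))
    (secMap_secRes (S.adj.unit.app M) h m)).trans ?_
  refine (congrArg (secRes (S.G.obj M) k') (S.secF_res (S.G.obj M) h _)).trans ?_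
  exact secRes_comp (S.G.obj M) k' (S.fn.map h) _

lemma ψ_res {E' : D} (h : E' ⟶ E) (k' : X ⟶ S.fn.obj E') (r : OD.obj.obj (op E)) :
    S.ψ k' ((OD.obj.map h.op).hom r) = S.ψ (k' ≫ S.fn.map h) r := by
  simp only [ψ, RingHom.comp_apply]
  rw [← S.σ_res, ← CommRingCat.comp_apply, ← Functor.map_comp, ← op_comp]

lemma map_ψ {W : C} (g : W ⟶ X) (r : OD.obj.obj (op E)) :
    (OC.obj.map g.op).hom (S.ψ k r) = S.ψ (g ≫ k) r := by
  simp only [ψ, RingHom.comp_apply]
  rw [← CommRingCat.comp_apply, ← Functor.map_comp, ← op_comp]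

variable {ι : Type u} {V : ι → D}

/-- The translate of a translate. -/
def nodePush (n : Node V E) : Node (fun e => S.fn.obj (V e)) X := ⟨n.1, k ≫ S.fn.map n.2⟩

variable {M : ModSite.Mod OD}

/-- The generators of the inverse image. -/
noncomputable def gens (x : ∀ e, Sec M (V e)) (e : ι) : Sec (S.G.obj M) (S.fn.obj (V e)) :=
  S.θ (𝟙 _) M (x e)

lemma isFreeOn_gens {x : ∀ e, Sec M (V e)} (hM : IsFreeOn M x) :
    IsFreeOn (S.G.obj M) (S.gens x) := by
  intro N
  have e : (fun (φ : S.G.obj M ⟶ N) (e : ι) => secMap φ (S.fn.obj (V e)) (S.gens x e)) =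
      (Equiv.piCongrRight fun e => (S.secF N (V e)).toEquiv) ∘
        (fun (φ : M ⟶ S.F.obj N) (e : ι) => secMap φ (V e) (x e)) ∘ S.adj.homEquiv M N := by
    funext φ e
    simp only [Function.comp_apply, Equiv.piCongrRight_apply, Pi.map_apply, AddEquiv.toEquiv_eq_coe,
      EquivLike.coe_coe, gens, θ_apply, secRes_id]
    rw [← S.secF_map]
    exact congrArg (fun φ' => S.secF N (V e) (secMap φ' (V e) (x e)))
      (S.adj.homEquiv_unit M N φ).symm
  rw [e]
  exact (Equiv.bijective _).comp ((hM _).comp (Equiv.bijective _))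

lemma θ_secRes_gen (x : ∀ e, Sec M (V e)) (n : Node V E) :
    S.θ k M (secRes M n.2 (x n.1)) =
      secRes (S.G.obj M) (k ≫ S.fn.map n.2) (S.gens x n.1) := by
  rw [θ_res, gens, secRes_θ, Category.comp_id]

lemma θ_nodeEval (x : ∀ e, Sec M (V e)) (c : Node V E →₀ OD.obj.obj (op E)) :
    S.θ k M (nodeEval x E c) = nodeEval (S.gens x) X
      (Finsupp.mapDomain (S.nodePush k) (Finsupp.mapRange (S.ψ k) (map_zero _) c)) := by
  induction c using Finsupp.induction_linear with
  | zero => simp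
  | add a b ha hb =>
    simp only [map_add, ha, hb, Finsupp.mapRange_add' (f := (S.ψ k).toAddMonoidHom),
      Finsupp.mapDomain_add]
    rw [← map_add, ← Finsupp.mapDomain_add, ← Finsupp.mapRange_add (map_add (S.ψ k))]
  | single n r =>
    rw [Finsupp.mapRange_single, Finsupp.mapDomain_single, nodeEval_single, nodeEval_single,
      θ_smul, θ_secRes_gen]
    rfl

end SecData

/-- `mapRange` by additive maps commutes with `mapDomain`. -/
lemma mapRange_mapDomain {α β R R' : Type*} [AddCommMonoid R] [AddCommMonoid R'] (f : α → β)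
    (g : R →+ R') (v : α →₀ R) :
    Finsupp.mapRange g g.map_zero (Finsupp.mapDomain f v) =
      Finsupp.mapDomain f (Finsupp.mapRange g g.map_zero v) :=
  (DFunLike.congr_fun (Finsupp.addHom_ext (fun a r => by
    simp : ∀ a r, ((Finsupp.mapRange.addMonoidHom g).comp (Finsupp.mapDomain.addMonoidHom f))
      (Finsupp.single a r) = ((Finsupp.mapDomain.addMonoidHom f).comp
        (Finsupp.mapRange.addMonoidHom g)) (Finsupp.single a r))) v :)

/-- If `f a = f b` implies `h a = h b` on the support, `mapDomain f v = 0` gives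
`mapDomain h v = 0`. -/
lemma mapDomain_eq_zero_of_factor {α β γ R : Type*} [AddCommMonoid R] {f : α → β} {h : α → γ}
    (v : α →₀ R) (hv : Finsupp.mapDomain f v = 0)
    (hfh : ∀ a ∈ v.support, ∀ b ∈ v.support, f a = f b → h a = h b) :
    Finsupp.mapDomain h v = 0 := by
  classical
  rcases v.support.eq_empty_or_nonempty with hs | ⟨a₀, ha₀⟩
  · rw [Finsupp.support_eq_empty.1 hs, Finsupp.mapDomain_zero]
  let g : β → γ := fun b => if hb : ∃ a ∈ v.support, f a = b then h hb.choose else h a₀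
  have hg : ∀ a ∈ v.support, h a = g (f a) := fun a ha => by
    have hb : ∃ a' ∈ v.support, f a' = f a := ⟨a, ha, rfl⟩
    simp only [g, dif_pos hb]
    exact hfh a ha _ hb.choose_spec.1 hb.choose_spec.2.symm
  rw [Finsupp.mapDomain_congr hg, show (fun a => g (f a)) = g ∘ f from rfl,
    Finsupp.mapDomain_comp, hv, Finsupp.mapDomain_zero]

section Contraction

variable (P : CochainComplex (ModSite.Mod OD) ℤ)

lemma coeffRes_smul {ι : Type u} {V : ι → D} {X W : D} (g : W ⟶ X) (r : OD.obj.obj (op X))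
    (c : Node V X →₀ OD.obj.obj (op X)) :
    coeffRes OD V g (r • c) = (OD.obj.map g.op).hom r • coeffRes OD V g c := by
  induction c using Finsupp.induction_linear with
  | zero => simp
  | add a b ha hb => simp only [smul_add, map_add, ha, hb]
  | single n t =>
    rw [Finsupp.smul_single, coeffRes_single, coeffRes_single, Finsupp.smul_single, smul_eq_mul,
      smul_eq_mul, map_mul]

/-- The sections of a finite family at `E`, restricted. -/
noncomputable abbrev resFam {κ : Type*} {E E' : D} (h : E' ⟶ E)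
    (c : κ →₀ OD.obj.obj (op E)) : κ →₀ OD.obj.obj (op E') :=
  Finsupp.mapRange (OD.obj.map h.op).hom (map_zero _) c

lemma resFam_comp {κ : Type*} {E E' E'' : D} (h : E' ⟶ E) (h' : E'' ⟶ E')
    (c : κ →₀ OD.obj.obj (op E)) : resFam h' (resFam h c) = resFam (h' ≫ h) c := by
  ext a
  simp

lemma linComb_resFam_eq_sum {κ : Type u} {E E' : D} (h : E' ⟶ E)
    {M : ModSite.Mod OD} (w : κ → Sec M E') (N : Finset κ) (c : κ →₀ OD.obj.obj (op E))
    (hc : c.support ⊆ N) :
    Finsupp.linearCombination (OD.obj.obj (op E')) w (resFam h c) =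
      ∑ n : N, (OD.obj.map h.op).hom (c n.1) • w n.1 := by
  rw [Finsupp.linearCombination_apply, Finsupp.sum_of_support_subset (s := N) _
    (Finsupp.support_mapRange.trans hc) _ (fun n _ => zero_smul _ (w n))]
  exact (Finset.sum_coe_sort N fun n => (OD.obj.map h.op).hom (c n) • w n).symm

/-- Local contraction: given finitely many `b j ∈ P^q(E)` and representations of their
differentials by combinations of translates, locally `b j = d (a j) + Σ c j n • w n`. -/
theorem exists_contraction (hP : P.Acyclic)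
    (hfree : ∀ q, ∃ (ι : Type u) (V : ι → D) (x : ∀ e, Sec (P.X q) (V e)), IsFreeOn (P.X q) x)
    (top : ℤ) (htop : ∀ q, top < q → IsZero (P.X q)) (m : ℕ) :
    ∀ (q0 q1 q2 : ℤ), q0 + 1 = q1 → q1 + 1 = q2 → top < q1 + m →
    ∀ {ι : Type u} (V : ι → D) (x : ∀ e, Sec (P.X q2) (V e)), IsFreeOn (P.X q2) x →
    ∀ {E : D} {κ : Type u} [Finite κ] (b : κ → Sec (P.X q1) E)
      (c : κ → (Node V E →₀ OD.obj.obj (op E))),
      (∀ j, secMap (P.d q1 q2) E (b j) = nodeEval x E (c j)) →
      Loc K E fun E' h => ∃ (a : κ → Sec (P.X q0) E') (w : Node V E → Sec (P.X q1) E'),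
        ∀ j, secRes (P.X q1) h (b j) = secMap (P.d q0 q1) E' (a j) +
          Finsupp.linearCombination (OD.obj.obj (op E')) w (resFam h (c j)) := by
  induction m with
  | zero =>
    intro q0 q1 q2 _ _ ht ι V x _ E κ _ b c _
    refine Loc.of_forall fun E' h => ⟨fun _ => 0, fun _ => 0, fun j => ?_⟩
    have hz : Subsingleton (Sec (P.X q1) E') := ⟨fun p p' => (secEquiv E' _).symm.injective
      ((htop q1 (by simpa using ht)).eq_of_tgt _ _)⟩
    exact Subsingleton.elim _ _
  | succ m ih =>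
    intro q0 q1 q2 h01 h12 ht ι V x hx E κ _ b c hbc
    classical
    haveI := Fintype.ofFinite κ
    let N : Finset (Node V E) := Finset.univ.biUnion fun j => (c j).support
    obtain ⟨ι₃, V₃, x₃, hx₃⟩ := hfree (q2 + 1)
    let gn : N → Sec (P.X q2) E := fun n => secRes (P.X q2) n.1.2 (x n.1.1)
    -- represent the differentials of the finitely many generators
    have h1 : Loc K E fun E₁ h₁ => ∀ n : N, ∃ c' : Node V₃ E₁ →₀ OD.obj.obj (op E₁),
        nodeEval x₃ E₁ c' = secRes (P.X (q2 + 1)) h₁ (secMap (P.d q2 (q2 + 1)) E (gn n)) := by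
      have key : ∀ s : Finset N, Loc K E fun E₁ h₁ => ∀ n ∈ s,
          ∃ c' : Node V₃ E₁ →₀ OD.obj.obj (op E₁),
          nodeEval x₃ E₁ c' = secRes (P.X (q2 + 1)) h₁ (secMap (P.d q2 (q2 + 1)) E (gn n)) := by
        intro s
        induction s using Finset.induction with
        | empty => exact Loc.of_forall fun _ _ _ hn => absurd hn (Finset.notMem_empty _)
        | insert n s hn hs =>
          refine (hs.and (hx₃.exists_local_nodeEval
            (secMap (P.d q2 (q2 + 1)) E (gn n)))).mono fun E₁ h₁ ⟨h2, h3⟩ n' hn' => ?_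
          rcases Finset.mem_insert.1 hn' with rfl | hn'
          · exact h3
          · exact h2 n' hn'
      exact (key Finset.univ).mono fun E₁ h₁ h n => h n (Finset.mem_univ n)
    refine h1.bind fun E₁ h₁ hc' => ?_
    choose c' hc' using hc'
    -- the combined coefficients vanish locally
    let C₁ : κ → (Node V₃ E₁ →₀ OD.obj.obj (op E₁)) := fun j =>
      ∑ n : N, (OD.obj.map h₁.op).hom (c j n.1) • c' n
    have hcN : ∀ j, (c j).support ⊆ N := fun j =>
      Finset.subset_biUnion_of_mem (fun j => (c j).support) (Finset.mem_univ j)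
    have hsum : ∀ {E' : D} (h : E' ⟶ E) (w : Node V E → Sec (P.X q2) E') (j : κ),
        Finsupp.linearCombination (OD.obj.obj (op E')) w (resFam h (c j)) =
          ∑ n : N, (OD.obj.map h.op).hom (c j n.1) • w n.1 :=
      fun h w j => linComb_resFam_eq_sum h w N (c j) (hcN j)
    have hsum' : ∀ {E' : D} (h : E' ⟶ E) (w : Node V E → Sec (P.X q1) E') (j : κ),
        Finsupp.linearCombination (OD.obj.obj (op E')) w (resFam h (c j)) =
          ∑ n : N, (OD.obj.map h.op).hom (c j n.1) • w n.1 :=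
      fun h w j => linComb_resFam_eq_sum h w N (c j) (hcN j)
    have hdb : ∀ {E' : D} (h : E' ⟶ E) (j : κ),
        secMap (P.d q1 q2) E' (secRes _ h (b j)) =
          ∑ n : N, (OD.obj.map h.op).hom (c j n.1) • secRes (P.X q2) h (gn n) := by
      intro E' h j
      rw [secMap_secRes, hbc, secRes_nodeEval]
      have e := hsum h (fun n => secRes (P.X q2) h (secRes (P.X q2) n.2 (x n.1))) j
      refine Eq.trans ?_ e
      rw [coeffRes, Finsupp.linearCombination_apply]
      change nodeEval x E' (Finsupp.mapDomain (nodeRes V h) (resFam h (c j))) = _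
      rw [nodeEval, Finsupp.linearCombination_mapDomain, Finsupp.linearCombination_apply]
      refine Finsupp.sum_congr fun n _ => ?_
      simp only [Function.comp_apply, nodeRes, secRes_comp]
    have hC₁ : ∀ j, nodeEval x₃ E₁ (C₁ j) = 0 := fun j => by
      have e := congrArg (secMap (P.d q2 (q2 + 1)) E₁) (hdb h₁ j)
      rw [secMap_d_d, map_sum] at e
      simp only [map_smul, secMap_secRes] at e
      simp only [C₁, map_sum, map_smul, hc']
      exact e.symm
    have h2 : Loc K E₁ fun E₂ h₂ => ∀ j, coeffRes OD V₃ h₂ (C₁ j) = 0 := by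
      have key : ∀ s : Finset κ, Loc K E₁ fun E₂ h₂ => ∀ j ∈ s,
          coeffRes OD V₃ h₂ (C₁ j) = 0 := by
        intro s
        induction s using Finset.induction with
        | empty => exact Loc.of_forall fun _ _ _ hn => absurd hn (Finset.notMem_empty _)
        | insert j s hj hs =>
          obtain ⟨R, hR, hRj⟩ := hx₃.nodeEval_eq_zero_local _ (hC₁ j)
          refine (hs.and (⟨R, hR, hRj⟩ : Loc K E₁ fun E₂ h₂ =>
            coeffRes OD V₃ h₂ (C₁ j) = 0)).mono fun E₂ h₂ ⟨p, p'⟩ j' hj' => ?_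
          rcases Finset.mem_insert.1 hj' with rfl | hj'
          · exact p'
          · exact p j' hj'
      exact (key Finset.univ).mono fun E₂ h₂ h j => h j (Finset.mem_univ j)
    refine h2.bind fun E₂ h₂ hC₂ => ?_
    -- contract the generators
    have h3 := ih q1 q2 (q2 + 1) h12 rfl (by push_cast at ht; omega) V₃ x₃ hx₃
      (fun n : N => secRes (P.X q2) (h₂ ≫ h₁) (gn n)) (fun n => coeffRes OD V₃ h₂ (c' n))
      (fun n => by
        rw [← secRes_nodeEval, hc']
        exact (secMap_secRes _ _ _).trans (secRes_comp _ h₂ h₁ _).symm)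
    refine h3.bind fun E₃ h₃ ⟨a, w, haw⟩ => ?_
    -- the corrected elements are cycles
    let h : E₃ ⟶ E := h₃ ≫ h₂ ≫ h₁
    let z : κ → Sec (P.X q1) E₃ := fun j =>
      secRes _ h (b j) - ∑ n : N, (OD.obj.map h.op).hom (c j n.1) • a n
    have hz : ∀ j, secMap (P.d q1 q2) E₃ (z j) = 0 := fun j => by
      rw [map_sub, hdb, map_sum, ← Finset.sum_sub_distrib]
      have e0 : ∀ n : N, (OD.obj.map h.op).hom (c j n.1) • secRes (P.X q2) h (gn n) -
          secMap (P.d q1 q2) E₃ ((OD.obj.map h.op).hom (c j n.1) • a n) =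
          Finsupp.linearCombination (OD.obj.obj (op E₃)) w
            (resFam h₃ ((OD.obj.map (h₂ ≫ h₁).op).hom (c j n.1) • coeffRes OD V₃ h₂ (c' n))) := by
        intro n
        have e1 := haw n
        rw [secRes_comp] at e1
        rw [map_smul, ← smul_sub, e1, add_sub_cancel_left]
        rw [show resFam h₃ ((OD.obj.map (h₂ ≫ h₁).op).hom (c j n.1) • coeffRes OD V₃ h₂ (c' n)) =
          (OD.obj.map h.op).hom (c j n.1) • resFam h₃ (coeffRes OD V₃ h₂ (c' n)) from by
            ext t
            simp only [Finsupp.mapRange_apply, Finsupp.smul_apply, smul_eq_mul, map_mul]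
            rw [← CommRingCat.comp_apply, ← Functor.map_comp, ← op_comp]]
        rw [map_smul]
      simp only [e0, ← map_sum]
      have e2 : ∑ n : N, resFam h₃ ((OD.obj.map (h₂ ≫ h₁).op).hom (c j n.1) •
          coeffRes OD V₃ h₂ (c' n)) = resFam h₃ (coeffRes OD V₃ h₂ (C₁ j)) := by
        refine (map_sum (Finsupp.mapRange.addMonoidHom (OD.obj.map h₃.op).hom.toAddMonoidHom)
          _ _).symm.trans ?_
        refine congrArg (resFam h₃) ?_
        simp only [C₁, map_sum]
        refine Finset.sum_congr rfl fun n _ => ?_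
        rw [coeffRes_smul, ← CommRingCat.comp_apply, ← Functor.map_comp, ← op_comp]
      rw [e2, hC₂ j]
      simp
    -- correct by local boundaries
    have h4 : Loc K E₃ fun E₄ h₄ => ∀ j, ∃ a', secMap (P.d q0 q1) E₄ a' =
        secRes (P.X q1) h₄ (z j) := by
      have hex : (P.sc' q0 q1 q2).Exact :=
        (P.exactAt_iff' q0 q1 q2 (by simp; omega) (by simp; omega)).1 (hP q1)
      have key : ∀ s : Finset κ, Loc K E₃ fun E₄ h₄ => ∀ j ∈ s, ∃ a',
          secMap (P.d q0 q1) E₄ a' = secRes (P.X q1) h₄ (z j) := by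
        intro s
        induction s using Finset.induction with
        | empty => exact Loc.of_forall fun _ _ _ hn => absurd hn (Finset.notMem_empty _)
        | insert j s hj hs =>
          refine (hs.and (exists_local_boundary hex (z j) (hz j))).mono
            fun E₄ h₄ ⟨p, p'⟩ j' hj' => ?_
          rcases Finset.mem_insert.1 hj' with rfl | hj'
          · exact p'
          · exact p j' hj'
      exact (key Finset.univ).mono fun E₄ h₄ h j => h j (Finset.mem_univ j)
    refine h4.mono fun E₄ h₄ ha' => ?_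
    choose a' ha' using ha'
    refine ⟨a', fun n => if hn : n ∈ N then secRes (P.X q1) h₄ (a ⟨n, hn⟩) else 0, fun j => ?_⟩
    rw [hsum', ha' j, map_sub, map_sum, secRes_comp]
    have e : ∀ n : N, secRes (P.X q1) h₄ ((OD.obj.map h.op).hom (c j n.1) • a n) =
        (OD.obj.map (((h₄ ≫ h₃) ≫ h₂) ≫ h₁).op).hom (c j n.1) •
          (if hn : n.1 ∈ N then secRes (P.X q1) h₄ (a ⟨n.1, hn⟩) else 0) := by
      intro n
      rw [secRes_smul, dif_pos n.2, ← CommRingCat.comp_apply, ← Functor.map_comp, ← op_comp]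
      simp [h]
    simp only [e]
    simp [h]

/-- The inverse image of a bounded above exact complex of free modules is exact. -/
theorem acyclic_map_of_free (S : SecData OC OD) (hflat : LocFlat K J S.fn)
    [S.G.PreservesZeroMorphisms] (hP : P.Acyclic)
    (hfree : ∀ q, ∃ (ι : Type u) (V : ι → D) (x : ∀ e, Sec (P.X q) (V e)), IsFreeOn (P.X q) x)
    (top : ℤ) (htop : ∀ q, top < q → IsZero (P.X q)) :
    ((S.G.mapHomologicalComplex (ComplexShape.up ℤ)).obj P).Acyclic := by
  intro p
  rw [HomologicalComplex.exactAt_iff' _ (p - 1) p (p + 1) (by simp) (by simp)]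
  refine exact_of_locally _ fun X z (hz : secMap (S.G.map (P.d p (p + 1))) X z = 0) => ?_
  suffices h : Loc J X fun W g => ∃ a, secMap (S.G.map (P.d (p - 1) p)) W a =
      secRes (S.G.obj (P.X p)) g z by exact h
  classical
  obtain ⟨ι₁, V₁, x₁, hx₁⟩ := hfree p
  obtain ⟨ι₂, V₂, x₂, hx₂⟩ := hfree (p + 1)
  refine (show Loc J X _ from (S.isFreeOn_gens hx₁).exists_local_nodeEval z).bind
    fun W₀ g₀ ⟨c, hc⟩ => ?_
  -- a common refinement of the translates
  have h1 : ∀ s : Finset (Node (fun e => S.fn.obj (V₁ e)) W₀), Loc J W₀ fun W g =>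
      ∃ (E : D) (k : W ⟶ S.fn.obj E), ∀ n ∈ s, ∃ q : E ⟶ V₁ n.1,
        k ≫ S.fn.map q = g ≫ n.2 := by
    intro s
    induction s using Finset.induction with
    | empty =>
      exact (hflat.nonempty W₀).mono fun W g ⟨E, ⟨k⟩⟩ =>
        ⟨E, k, fun _ hn => absurd hn (Finset.notMem_empty _)⟩
    | insert n s hn hs =>
      refine hs.bind fun W g ⟨E, k, hk⟩ => ?_
      refine (hflat.pair k (g ≫ n.2)).mono fun W' g' ⟨E', q₁, q₂, k', e₁, e₂⟩ => ?_
      refine ⟨E', k', fun n' hn' => ?_⟩
      rcases Finset.mem_insert.1 hn' with rfl | hn'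
      · exact ⟨q₂, e₂.trans (Category.assoc _ _ _).symm⟩
      · obtain ⟨q, hq⟩ := hk n' hn'
        exact ⟨q₁ ≫ q, by rw [Functor.map_comp, reassoc_of% e₁, hq, Category.assoc]⟩
  refine (h1 c.support).bind fun W₁ g₁ ⟨E, k, hk⟩ => ?_
  choose q hq using hk
  let b : c.support → Sec (P.X p) E := fun n => secRes (P.X p) (q n.1 n.2) (x₁ n.1.1)
  let r : c.support → OC.obj.obj (op W₁) := fun n => (OC.obj.map g₁.op).hom (c n.1)
  have hz₁ : secRes (S.G.obj (P.X p)) (g₁ ≫ g₀) z = ∑ n, r n • S.θ k (P.X p) (b n) := by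
    rw [← secRes_comp, ← hc, nodeEval, Finsupp.linearCombination_apply, Finsupp.sum, map_sum,
      ← Finset.sum_coe_sort]
    refine Finset.sum_congr rfl fun n _ => ?_
    simp only [b, r]
    rw [secRes_smul, secRes_comp, SecData.θ_res, hq, SecData.gens, SecData.secRes_θ,
      Category.comp_id]
  -- represent the differentials
  have h2 : ∀ s : Finset c.support, Loc K E fun E' h => ∀ n ∈ s,
      ∃ c' : Node V₂ E' →₀ OD.obj.obj (op E'),
        nodeEval x₂ E' c' = secRes (P.X (p + 1)) h (secMap (P.d p (p + 1)) E (b n)) := by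
    intro s
    induction s using Finset.induction with
    | empty => exact Loc.of_forall fun _ _ _ hn => absurd hn (Finset.notMem_empty _)
    | insert n s hn hs =>
      refine (hs.and (hx₂.exists_local_nodeEval
        (secMap (P.d p (p + 1)) E (b n)))).mono fun E₁ h₁ ⟨h2, h3⟩ n' hn' => ?_
      rcases Finset.mem_insert.1 hn' with rfl | hn'
      · exact h3
      · exact h2 n' hn'
  obtain ⟨R, hR, hRc⟩ := h2 Finset.univ
  refine (hflat.cov R hR k).bind fun W₂ g₂ ⟨E₂, h₂, k₂, hh₂, e₂⟩ => ?_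
  choose c₂ hc₂ using fun n => hRc h₂ hh₂ n (Finset.mem_univ n)
  let b₂ : c.support → Sec (P.X p) E₂ := fun n => secRes (P.X p) h₂ (b n)
  let r₂ : c.support → OC.obj.obj (op W₂) := fun n => (OC.obj.map g₂.op).hom (r n)
  have hb₂ : ∀ n, secMap (P.d p (p + 1)) E₂ (b₂ n) = nodeEval x₂ E₂ (c₂ n) := fun n => by
    rw [hc₂, secMap_secRes]
  have hz₂ : secRes (S.G.obj (P.X p)) (g₂ ≫ g₁ ≫ g₀) z =
      ∑ n, r₂ n • S.θ k₂ (P.X p) (b₂ n) := by
    rw [← secRes_comp _ g₂, hz₁, map_sum]
    refine Finset.sum_congr rfl fun n _ => ?_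
    rw [secRes_smul, SecData.secRes_θ]
    exact congrArg (fun y => r₂ n • y)
      ((congrArg (fun k' => S.θ k' (P.X p) (b n)) e₂).symm.trans
        (S.θ_res (P.X p) h₂ k₂ (b n)).symm)
  let R₀ : Node V₂ E₂ →₀ OC.obj.obj (op W₂) :=
    ∑ n, r₂ n • Finsupp.mapRange (S.ψ k₂) (map_zero _) (c₂ n)
  have hR₀ : nodeEval (S.gens x₂) W₂ (Finsupp.mapDomain (S.nodePush k₂) R₀) = 0 := by
    have e := congrArg (secMap (S.G.map (P.d p (p + 1))) W₂) hz₂
    rw [secMap_secRes, hz, map_zero] at e
    refine Eq.trans ?_ e.symm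
    simp only [R₀, Finsupp.mapDomain_finsetSum, Finsupp.mapDomain_smul, map_sum, map_smul,
      SecData.θ_map, hb₂, SecData.θ_nodeEval]
  obtain ⟨R₁, hR₁, hR₁0⟩ := (S.isFreeOn_gens hx₂).nodeEval_eq_zero_local _ hR₀
  refine Loc.bind ⟨R₁, hR₁, hR₁0⟩ fun W₃ g₃ h0 => ?_
  let k₃ := g₃ ≫ k₂
  let N := R₀.support
  -- equalise coinciding translates
  have h3 : ∀ s : Finset (Node V₂ E₂ × Node V₂ E₂), Loc J W₃ fun W g =>
      ∃ (E' : D) (h : E' ⟶ E₂) (k' : W ⟶ S.fn.obj E'), k' ≫ S.fn.map h = g ≫ k₃ ∧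
        ∀ a ∈ s, S.nodePush k₃ a.1 = S.nodePush k₃ a.2 → nodeRes V₂ h a.1 = nodeRes V₂ h a.2 := by
    intro s
    induction s using Finset.induction with
    | empty =>
      exact Loc.of_forall fun W g => ⟨E₂, 𝟙 _, g ≫ k₃, by simp,
        fun _ hn => absurd hn (Finset.notMem_empty _)⟩
    | insert a s ha hs =>
      refine hs.bind fun W g ⟨E', h, k', ek, hk'⟩ => ?_
      by_cases heq : S.nodePush k₃ a.1 = S.nodePush k₃ a.2
      · obtain ⟨⟨e, u⟩, ⟨e', u'⟩⟩ := a
        simp only [SecData.nodePush, Sigma.mk.injEq] at heq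
        obtain ⟨rfl, heq⟩ := heq
        rw [heq_eq_eq] at heq
        refine (hflat.equ (h ≫ u) (h ≫ u') k' (by
          rw [Functor.map_comp, Functor.map_comp, reassoc_of% ek, reassoc_of% ek, heq])).mono
            fun W' g' ⟨E'', h', k'', eh, ek'⟩ => ?_
        refine ⟨E'', h' ≫ h, k'', by
          rw [Functor.map_comp, reassoc_of% ek', ek, Category.assoc], fun a' ha' he => ?_⟩
        rcases Finset.mem_insert.1 ha' with rfl | ha'
        · simp only [nodeRes, Sigma.mk.injEq, heq_eq_eq, true_and]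
          simpa using eh
        · have := congrArg (nodeRes V₂ h') (hk' a' ha' he)
          simpa [nodeRes] using this
      · refine Loc.of_forall fun W' g' => ⟨E', h, g' ≫ k', by simp [ek], fun a' ha' he => ?_⟩
        rcases Finset.mem_insert.1 ha' with rfl | ha'
        · exact absurd he heq
        · exact hk' a' ha' he
  refine (h3 (N ×ˢ N)).bind fun W₄ g₄ ⟨E₄, h₄, k₄, e₄, hN⟩ => ?_
  -- contract
  have h4 := exists_contraction P hP hfree top htop ((top - p).toNat + 1) (p - 1) p (p + 1)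
    (by omega) rfl (by omega) V₂ x₂ hx₂ (fun n => secRes (P.X p) h₄ (b₂ n))
    (fun n => coeffRes OD V₂ h₄ (c₂ n))
    (fun n => by rw [← secRes_nodeEval, ← hb₂, secMap_secRes])
  obtain ⟨R₄, hR₄, hR₄c⟩ := h4
  refine (hflat.cov R₄ hR₄ k₄).mono fun W₅ g₅ ⟨E₅, h₅, k₅, hh₅, e₅⟩ => ?_
  obtain ⟨a, w, haw⟩ := hR₄c h₅ hh₅
  let G := g₅ ≫ g₄ ≫ g₃
  have ek : k₅ ≫ S.fn.map (h₅ ≫ h₄) = G ≫ k₂ := by
    rw [Functor.map_comp, reassoc_of% e₅, e₄]
    simp [G, k₃]
  have hz₅ : secRes (S.G.obj (P.X p)) (g₅ ≫ g₄ ≫ g₃ ≫ g₂ ≫ g₁ ≫ g₀) z =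
      ∑ n, (OC.obj.map G.op).hom (r₂ n) • S.θ k₅ (P.X p) (secRes (P.X p) (h₅ ≫ h₄) (b₂ n)) := by
    rw [show g₅ ≫ g₄ ≫ g₃ ≫ g₂ ≫ g₁ ≫ g₀ = G ≫ g₂ ≫ g₁ ≫ g₀ by simp [G],
      ← secRes_comp _ G, hz₂, map_sum]
    refine Finset.sum_congr rfl fun n _ => ?_
    rw [secRes_smul, SecData.secRes_θ]
    exact congrArg (fun y => (OC.obj.map G.op).hom (r₂ n) • y)
      ((congrArg (fun k' => S.θ k' (P.X p) (b₂ n)) ek).symm.trans
        (S.θ_res (P.X p) (h₅ ≫ h₄) k₅ (b₂ n)).symm)
  have hR₅ : ∑ n, (OC.obj.map G.op).hom (r₂ n) •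
      Finsupp.mapRange (S.ψ k₅) (map_zero _) (resFam h₅ (coeffRes OD V₂ h₄ (c₂ n))) = 0 := by
    have e0 : Finsupp.mapDomain (nodeRes V₂ h₄)
        (Finsupp.mapRange (OC.obj.map G.op).hom (map_zero _) R₀) = 0 := by
      refine mapDomain_eq_zero_of_factor (f := S.nodePush k₃) _ ?_ fun n hn n' hn' he => ?_
      · have e := congrArg (Finsupp.mapRange (OC.obj.map (g₅ ≫ g₄).op).hom (map_zero _)) h0
        rw [Finsupp.mapRange_zero] at e
        refine Eq.trans ?_ e
        have hpush : S.nodePush k₃ = nodeRes (fun e => S.fn.obj (V₂ e)) g₃ ∘ S.nodePush k₂ :=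
          funext fun t => by simp [SecData.nodePush, nodeRes, k₃]
        have hG : ∀ t : OC.obj.obj (op W₂), (OC.obj.map G.op).hom t =
            (OC.obj.map (g₅ ≫ g₄).op).hom ((OC.obj.map g₃.op).hom t) := fun t => by
          rw [← CommRingCat.comp_apply, ← Functor.map_comp, ← op_comp]
          simp [G]
        rw [hpush, Finsupp.mapDomain_comp]
        simp only [coeffRes, AddMonoidHom.comp_apply]
        change _ = Finsupp.mapRange (OC.obj.map (g₅ ≫ g₄).op).hom.toAddMonoidHom (map_zero _)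
          (Finsupp.mapDomain (nodeRes _ g₃) (Finsupp.mapRange
            (OC.obj.map g₃.op).hom.toAddMonoidHom (map_zero _) (Finsupp.mapDomain _ R₀)))
        rw [mapRange_mapDomain, mapRange_mapDomain, mapRange_mapDomain]
        refine congrArg (Finsupp.mapDomain _) (congrArg (Finsupp.mapDomain _) ?_)
        ext t
        simp only [Finsupp.mapRange_apply]
        exact hG _
      · exact hN (n, n') (Finset.mem_product.2 ⟨Finsupp.support_mapRange hn,
          Finsupp.support_mapRange hn'⟩) he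
    refine Eq.trans ?_ e0
    have key : ∀ v : Node V₂ E₂ →₀ OD.obj.obj (op E₂),
        Finsupp.mapRange (S.ψ k₅) (map_zero _) (resFam h₅ (coeffRes OD V₂ h₄ v)) =
          Finsupp.mapDomain (nodeRes V₂ h₄) (Finsupp.mapRange (OC.obj.map G.op).hom (map_zero _)
            (Finsupp.mapRange (S.ψ k₂) (map_zero _) v)) := by
      intro v
      induction v using Finsupp.induction_linear with
      | zero => simp [coeffRes]
      | add u v hu hv =>
        simp only [resFam, map_add, Finsupp.mapRange_add (map_add _)] at hu hv ⊢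
        rw [hu, hv, Finsupp.mapDomain_add]
      | single t s =>
        simp only [coeffRes_single, resFam, Finsupp.mapRange_single, Finsupp.mapDomain_single]
        rw [S.ψ_res, S.ψ_res, Category.assoc, ← Functor.map_comp, ek, ← S.map_ψ]
    simp only [key, ← Finsupp.mapDomain_smul, ← Finsupp.mapDomain_finsetSum]
    refine congrArg (Finsupp.mapDomain _) ?_
    ext t
    simp [R₀, Finsupp.finsetSum_apply, map_sum, map_mul]
  refine ⟨∑ n, (OC.obj.map G.op).hom (r₂ n) • S.θ k₅ (P.X (p - 1)) (a n), ?_⟩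
  simp only [Category.assoc]
  rw [hz₅, map_sum]
  have e : ∀ n, S.θ k₅ (P.X p) (secRes (P.X p) (h₅ ≫ h₄) (b₂ n)) =
      secMap (S.G.map (P.d (p - 1) p)) W₅ (S.θ k₅ (P.X (p - 1)) (a n)) +
        Finsupp.linearCombination (OC.obj.obj (op W₅)) (fun t => S.θ k₅ (P.X p) (w t))
          (Finsupp.mapRange (S.ψ k₅) (map_zero _) (resFam h₅ (coeffRes OD V₂ h₄ (c₂ n)))) := by
    intro n
    rw [← secRes_comp, haw n, map_add, ← S.θ_map]
    congr 1
    generalize resFam h₅ (coeffRes OD V₂ h₄ (c₂ n)) = v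
    induction v using Finsupp.induction_linear with
    | zero => simp
    | add u v hu hv =>
      rw [map_add, map_add, hu, hv, ← map_add, ← Finsupp.mapRange_add (map_add (S.ψ k₅))]
    | single t s => simp [SecData.θ_smul]
  simp only [e, smul_add, Finset.sum_add_distrib, ← map_smul, ← map_sum, hR₅, map_zero, add_zero]

end Contraction

end Groth.Agent.DerCompLib
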