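import Groth.Agent.DerCompLib.KoszulRpush

/-!
# Objects killed by cones along generators, tested on nilpotent complexes
-/

set_option autoImplicit false
set_option backward.isDefEq.respectTransparency false

universe t w v u

open CategoryTheory CategoryTheory.Limits CategoryTheory.Pretriangulated

attribute [local instance] HasDerivedCategory.standard

namespace Groth.Agent.DerCompLib

section General

variable {A : Type u} [Category.{v} A] [Abelian A] {R : Type t} [CommRing R] [Linear R A]
  [HasDerivedCategory.{w} A]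

/-- Every member of `l` is nilpotent on `Z`. -/
def NilOn (l : List R) (Z : DerivedCategory A) : Prop := ∀ r ∈ l, ∃ N : ℕ, r ^ N • 𝟙 Z = 0

lemma smul_id_eq_of_iso {Z Z' : DerivedCategory A} (e : Z ≅ Z') (r : R) :
    r • 𝟙 Z' = e.inv ≫ (r • 𝟙 Z) ≫ e.hom := by simp

lemma NilOn.of_iso {l : List R} {Z Z' : DerivedCategory A} (h : NilOn l Z) (e : Z ≅ Z') : NilOn l Z' :=
  fun r hr => by
    obtain ⟨N, hN⟩ := h r hr
    exact ⟨N, by rw [smul_id_eq_of_iso e, hN, zero_comp, comp_zero]⟩

lemma nilOn_kos (l : List R) (X : CochainComplex A ℤ) :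
    NilOn l (DerivedCategory.Q.obj ((kos l).obj X)) := fun r hr => by
  obtain ⟨N, hN⟩ := exists_pow_smul_kos (A := A) l r hr
  exact ⟨N, hN X⟩

/-- Orthogonality to a complex passes to its iterated cones. -/
theorem orth_kos {Z : DerivedCategory A} : ∀ (l : List R) (X : CochainComplex A ℤ),
    Orth Z (DerivedCategory.Q.obj X) → Orth Z (DerivedCategory.Q.obj ((kos l).obj X))
  | [], _, h => h
  | r :: l, X, h => orth_kos l _ ((orth_cone_right_iff r).2 fun n => by
      haveI := h n
      exact ⟨fun a b _ => Subsingleton.elim a b, fun b => ⟨0, Subsingleton.elim _ _⟩⟩)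

/-- If the iterated cone vanishes, nothing nilpotent maps to the complex. -/
theorem orth_of_isZero_kos {Z : DerivedCategory A} : ∀ (l : List R), NilOn l Z →
    ∀ X : CochainComplex A ℤ, IsZero (DerivedCategory.Q.obj ((kos l).obj X)) →
      Orth Z (DerivedCategory.Q.obj X)
  | [], _, _, h => fun n => ⟨fun _ _ => ((shiftFunctor _ n).map_isZero h).eq_of_tgt _ _⟩
  | r :: l, hZ, X, h => fun n => by
    have hb := (orth_cone_right_iff r).1
      (orth_of_isZero_kos (Z := Z) l (fun t ht => hZ t (List.mem_cons_of_mem _ ht)) _ h) n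
    obtain ⟨N, hN⟩ := hZ r List.mem_cons_self
    refine subsingleton_of_forall_eq 0 fun f => ?_
    have hf : r ^ N • f = 0 := by
      rw [← Category.id_comp f, ← Linear.smul_comp, hN, zero_comp]
    clear hN
    induction N with
    | zero => rwa [pow_zero, one_smul] at hf
    | succ N ih => exact ih (hb.1 (show r • (r ^ N • f) = r • 0 by rw [smul_smul, ← pow_succ', hf, smul_zero]))

/-- The iterated cone vanishes as soon as no nilpotent complex maps to the complex. -/
theorem isZero_kos_of_forall (l : List R) (X : CochainComplex A ℤ)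
    (h : ∀ Y : CochainComplex A ℤ, NilOn l (DerivedCategory.Q.obj Y) →
      Orth (DerivedCategory.Q.obj Y) (DerivedCategory.Q.obj X)) :
    IsZero (DerivedCategory.Q.obj ((kos l).obj X)) :=
  orth_self_iff.1 (orth_kos l X (h _ (nilOn_kos l X)))

/-- Orthogonality to the third object gives bijectivity of composition with the first map. -/
theorem bijective_comp_of_orth {Z : DerivedCategory A} (T : Triangle (DerivedCategory A))
    (hT : T ∈ distTriang (DerivedCategory A)) (h : Orth Z T.obj₃) (n : ℤ) :
    Function.Bijective fun f : Z ⟶ T.obj₁⟦n⟧ => f ≫ T.mor₁⟦n⟧' := by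
  let Tn := (Triangle.shiftFunctor _ n).obj T
  have hTn : Tn ∈ distTriang (DerivedCategory A) := Triangle.shift_distinguished T hT n
  suffices hb : Function.Bijective fun f : Z ⟶ T.obj₁⟦n⟧ => f ≫ Tn.mor₁ by
    change Function.Bijective fun f : Z ⟶ T.obj₁⟦n⟧ => f ≫ (n.negOnePow • T.mor₁⟦n⟧') at hb
    rcases Int.even_or_odd n with hm | hm
    · simpa [Int.negOnePow_even n hm] using hb
    · simpa [Int.negOnePow_odd n hm, Function.comp_def] using (Equiv.neg _).bijective.comp hb
  haveI := h n
  refine ⟨fun f g hfg => ?_, fun g => ?_⟩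
  · rw [← sub_eq_zero]
    have hd : (f - g) ≫ Tn.mor₁ = 0 := by rw [Preadditive.sub_comp]; exact sub_eq_zero.2 hfg
    obtain ⟨y, hy⟩ := Triangle.coyoneda_exact₂ Tn.invRotate (inv_rot_of_distTriang _ hTn) (f - g) hd
    haveI : Subsingleton (Z ⟶ Tn.invRotate.obj₁) := h.shift n (-1)
    rw [hy, Subsingleton.elim y 0, zero_comp]
  · obtain ⟨f, hf⟩ := Triangle.coyoneda_exact₂ Tn hTn g
      (Subsingleton.elim (α := Z ⟶ T.obj₃⟦n⟧) _ _)
    exact ⟨f, hf.symm⟩

end General

end Groth.Agent.DerCompLib
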