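import Groth.Prelude.Def_ModSite
import Mathlib.CategoryTheory.Sites.Subsheaf
import Mathlib.CategoryTheory.Sites.Pullback

/-!
# Local flatness of the functor underlying a morphism of sites

`LocFlat K J fn`: finitely many arrows `X ⟶ fn Eᵢ` factor locally through a single one, two
arrows equalised after `fn` are equalised locally, and covering sieves map to coverings. This
follows from continuity and left exactness of the pullback of sheaves of sets.
-/

set_option autoImplicit false
set_option backward.isDefEq.respectTransparency false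

universe u

open CategoryTheory CategoryTheory.Limits Opposite

namespace Groth.Agent.DerCompLib

variable {C D : Type u} [SmallCategory C] [SmallCategory D]

/-- `P` holds locally on `X`. -/
def Loc (J : GrothendieckTopology C) (X : C) (P : ∀ ⦃W : C⦄, (W ⟶ X) → Prop) : Prop :=
  ∃ S ∈ J X, ∀ ⦃W : C⦄ (g : W ⟶ X), S g → P g

namespace Loc

variable {J : GrothendieckTopology C} {X : C}

lemma of_forall {P : ∀ ⦃W : C⦄, (W ⟶ X) → Prop} (h : ∀ ⦃W : C⦄ (g : W ⟶ X), P g) : Loc J X P :=
  ⟨⊤, J.top_mem X, fun _ g _ => h g⟩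

lemma mono {P Q : ∀ ⦃W : C⦄, (W ⟶ X) → Prop} (h : Loc J X P)
    (hPQ : ∀ ⦃W : C⦄ (g : W ⟶ X), P g → Q g) : Loc J X Q := by
  obtain ⟨S, hS, hP⟩ := h
  exact ⟨S, hS, fun W g hg => hPQ g (hP g hg)⟩

lemma and {P Q : ∀ ⦃W : C⦄, (W ⟶ X) → Prop} (h : Loc J X P) (h' : Loc J X Q) :
    Loc J X fun _ g => P g ∧ Q g := by
  obtain ⟨S, hS, hP⟩ := h
  obtain ⟨S', hS', hQ⟩ := h'
  exact ⟨S ⊓ S', J.intersection_covering hS hS', fun W g hg => ⟨hP g hg.1, hQ g hg.2⟩⟩

lemma pullback {P : ∀ ⦃W : C⦄, (W ⟶ X) → Prop} (h : Loc J X P) {Y : C} (f : Y ⟶ X) :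
    Loc J Y fun _ g => P (g ≫ f) := by
  obtain ⟨S, hS, hP⟩ := h
  exact ⟨S.pullback f, J.pullback_stable f hS, fun W g hg => hP _ hg⟩

lemma bind {P : ∀ ⦃W : C⦄, (W ⟶ X) → Prop} {Q : ∀ ⦃W : C⦄, (W ⟶ X) → Prop} (h : Loc J X P)
    (hPQ : ∀ ⦃W : C⦄ (g : W ⟶ X), P g → Loc J W fun _ g' => Q (g' ≫ g)) : Loc J X Q := by
  obtain ⟨S, hS, hP⟩ := h
  choose S' hS' hQ using fun (W : C) (g : W ⟶ X) (hg : S g) => hPQ g (hP g hg)
  refine ⟨Sieve.bind S.arrows fun W g hg => S' W g hg,
    J.bind_covering hS fun W g hg => hS' W g hg, ?_⟩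
  rintro W _ ⟨Y, g', g, hg, hg', rfl⟩
  exact hQ Y g hg g' hg'

end Loc

variable (K : GrothendieckTopology D) (J : GrothendieckTopology C) (fn : D ⥤ C)

/-- Local flatness of `fn`. -/
structure LocFlat : Prop where
  nonempty : ∀ X : C, Loc J X fun W _ => ∃ E : D, Nonempty (W ⟶ fn.obj E)
  pair : ∀ {X : C} {E₁ E₂ : D} (k₁ : X ⟶ fn.obj E₁) (k₂ : X ⟶ fn.obj E₂),
    Loc J X fun W g => ∃ (E : D) (g₁ : E ⟶ E₁) (g₂ : E ⟶ E₂) (k : W ⟶ fn.obj E),
      k ≫ fn.map g₁ = g ≫ k₁ ∧ k ≫ fn.map g₂ = g ≫ k₂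
  equ : ∀ {X : C} {E E₁ : D} (a b : E ⟶ E₁) (k : X ⟶ fn.obj E), k ≫ fn.map a = k ≫ fn.map b →
    Loc J X fun W g => ∃ (E' : D) (h : E' ⟶ E) (k' : W ⟶ fn.obj E'),
      h ≫ a = h ≫ b ∧ k' ≫ fn.map h = g ≫ k
  cov : ∀ {X : C} {E : D} (R : Sieve E), R ∈ K E → ∀ (k : X ⟶ fn.obj E),
    Loc J X fun W g => ∃ (E' : D) (h : E' ⟶ E) (k' : W ⟶ fn.obj E'),
      R h ∧ k' ≫ fn.map h = g ≫ k

/-- The identity is locally flat. -/
theorem locFlat_id : LocFlat J J (𝟭 C) where
  nonempty X := Loc.of_forall fun W _ => ⟨W, ⟨𝟙 W⟩⟩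
  pair k₁ k₂ := Loc.of_forall fun W g => ⟨W, g ≫ k₁, g ≫ k₂, 𝟙 W, by simp, by simp⟩
  equ {X E E₁} a b k e := Loc.of_forall fun W g => ⟨W, g ≫ k, 𝟙 W, by
    simp only [Category.assoc]
    exact congrArg (g ≫ ·) e, by simp⟩
  cov {X E} R hR k := ⟨R.pullback k, J.pullback_stable k hR, fun W g hg =>
    ⟨W, g ≫ k, 𝟙 W, hg, by simp⟩⟩

section Pullback

/-- The sheafified representable. -/
noncomputable abbrev hSh {E : Type u} [SmallCategory E] (L : GrothendieckTopology E) (X : E) :
    Sheaf L (Type u) :=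
  (presheafToSheaf L (Type u)).obj (yoneda.obj X)

/-- The tautological section of `hSh L X`. -/
noncomputable def hGen {E : Type u} [SmallCategory E] (L : GrothendieckTopology E) (X : E) :
    (hSh L X).obj.obj (op X) :=
  ((sheafificationAdjunction L (Type u)).unit.app (yoneda.obj X)).app (op X) (𝟙 X)

/-- Maps out of `hSh L X` are sections. -/
noncomputable def hShEquiv {E : Type u} [SmallCategory E] (L : GrothendieckTopology E) (X : E)
    (T : Sheaf L (Type u)) : (hSh L X ⟶ T) ≃ T.obj.obj (op X) :=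
  ((sheafificationAdjunction L (Type u)).homEquiv _ _).trans yonedaEquiv

lemma hShEquiv_apply {E : Type u} [SmallCategory E] (L : GrothendieckTopology E) (X : E)
    (T : Sheaf L (Type u)) (φ : hSh L X ⟶ T) :
    hShEquiv L X T φ = φ.hom.app (op X) (hGen L X) := by
  simp only [hShEquiv, Equiv.trans_apply, Adjunction.homEquiv_unit]
  rfl

/-- Locally, every section of `hSh L X` is a translate of the tautological one. -/
lemma exists_local_hGen {E : Type u} [SmallCategory E] (L : GrothendieckTopology E) {X Y : E}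
    (a : (hSh L X).obj.obj (op Y)) :
    Loc L Y fun W g => ∃ f : W ⟶ X,
      (hSh L X).obj.map f.op (hGen L X) = (hSh L X).obj.map g.op a := by
  refine ⟨_, Presheaf.imageSieve_mem L (toSheafify L (yoneda.obj X)) a, fun W g hg => ?_⟩
  obtain ⟨f, hf⟩ := hg
  refine ⟨f, Eq.trans ?_ hf⟩
  have h := ConcreteCategory.congr_hom ((toSheafify L (yoneda.obj X)).naturality f.op) (𝟙 X)
  refine h.symm.trans ?_
  exact congrArg _ (Category.comp_id f)

/-- Two translates of the tautological section agree only if they agree locally. -/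
lemma local_eq_of_hGen {E : Type u} [SmallCategory E] (L : GrothendieckTopology E) {X Y : E}
    (f f' : Y ⟶ X)
    (h : (hSh L X).obj.map f.op (hGen L X) = (hSh L X).obj.map f'.op (hGen L X)) :
    Loc L Y fun _ g => g ≫ f = g ≫ f' := by
  have e : ∀ f : Y ⟶ X, (toSheafify L (yoneda.obj X)).app (op Y) f =
      (hSh L X).obj.map f.op (hGen L X) := fun f => by
    refine Eq.trans ?_ (ConcreteCategory.congr_hom
      ((toSheafify L (yoneda.obj X)).naturality f.op) (𝟙 X))
    exact congrArg _ (Category.comp_id f).symm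
  exact ⟨Presheaf.equalizerSieve (F := yoneda.obj X) (X := op Y) f f',
    Presheaf.equalizerSieve_mem L (toSheafify L (yoneda.obj X)) (X := op Y) f f'
      ((e f).trans (h.trans (e f').symm)), fun W g hg => hg⟩

variable [hcont : fn.IsContinuous K J]

/-- Continuity: covering sieves map to coverings. -/
theorem cov_of_isContinuous {X : C} {E : D} (R : Sieve E) (hR : R ∈ K E) (k : X ⟶ fn.obj E) :
    Loc J X fun W g => ∃ (E' : D) (h : E' ⟶ E) (k' : W ⟶ fn.obj E'),
      R h ∧ k' ≫ fn.map h = g ≫ k := by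
  let T := hSh J (fn.obj E)
  let G : Subfunctor T.obj :=
    { obj := fun X => {w | Loc J X.unop fun W g => ∃ (E' : D) (h : E' ⟶ E) (k' : W ⟶ fn.obj E'),
        R h ∧ T.obj.map (k' ≫ fn.map h).op (hGen J (fn.obj E)) = T.obj.map g.op w}
      map := fun {X Y} i w hw => (hw.pullback i.unop).mono fun W g ⟨E', h, k', hh, e⟩ =>
        ⟨E', h, k', hh, by rw [e, op_comp, Functor.map_comp]; rfl⟩ }
  have hT := (isSheaf_iff_isSheaf_of_type J T.obj).1 T.property
  have hG : Presieve.IsSheaf J G.toFunctor := by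
    rw [Subfunctor.isSheaf_iff _ hT]
    intro U s hs
    refine Loc.bind ⟨G.sieveOfSection s, hs, fun W g hg => hg⟩ fun W g hg => ?_
    refine Loc.mono (hg : Loc J W _) fun W' g' ⟨E', h, k', hh, e⟩ =>
      ⟨E', h, k', hh, by rw [e, op_comp, Functor.map_comp]; rfl⟩
  let Gs : Sheaf J (Type u) := ⟨G.toFunctor, (isSheaf_iff_isSheaf_of_type J _).2 hG⟩
  let P := (fn.sheafPushforwardContinuous (Type u) K J).obj Gs
  have hP := (isSheaf_iff_isSheaf_of_type K P.obj).1 P.property R hR
  let fam : Presieve.FamilyOfElements P.obj R.arrows := fun E' h hh =>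
    ⟨T.obj.map (fn.map h).op (hGen J (fn.obj E)), Loc.of_forall fun W g =>
      ⟨E', h, g, hh, by rw [op_comp, Functor.map_comp]; rfl⟩⟩
  have hfam : fam.Compatible := by
    rw [Presieve.compatible_iff_sieveCompatible]
    intro E' E'' h i hh
    refine Subtype.ext ?_
    change T.obj.map (fn.map (i ≫ h)).op _ = T.obj.map (fn.map i).op (T.obj.map (fn.map h).op _)
    rw [fn.map_comp, op_comp, Functor.map_comp]
    rfl
  obtain ⟨w, hw, -⟩ := hP fam hfam
  have hsep := ((isSheaf_iff_isSheaf_of_type K _).1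
    ((fn.sheafPushforwardContinuous (Type u) K J).obj T).property R hR).isSeparatedFor.ext
      (t₁ := (show G.toFunctor.obj (op (fn.obj E)) from w).1) (t₂ := hGen J (fn.obj E)) fun E' h hh =>
        congrArg Subtype.val (hw h hh : _ = (fam h hh : G.toFunctor.obj (op (fn.obj E'))))
  have hgen : Loc J (fn.obj E) _ := w.2
  rw [hsep] at hgen
  refine (hgen.pullback k).bind fun W g ⟨E', h, k', hh, e⟩ => ?_
  exact (local_eq_of_hGen J _ _ e).mono fun W' g' e' =>
    ⟨E', h, g' ≫ k', hh, by rw [Category.assoc, e', Category.assoc]⟩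

variable [hexact : PreservesFiniteLimits (fn.sheafPullback (Type u) K J)]

/-- Sections of the pullback are locally translates of sections. -/
theorem exists_local_translate (F : Sheaf K (Type u)) {X : C}
    (w : ((fn.sheafPullback (Type u) K J).obj F).obj.obj (op X)) :
    Loc J X fun W g => ∃ (E : D) (a : F.obj.obj (op E)) (k : W ⟶ fn.obj E),
      ((fn.sheafPullback (Type u) K J).obj F).obj.map k.op
        (((fn.sheafAdjunctionContinuous (Type u) K J).unit.app F).hom.app (op E) a) =
      ((fn.sheafPullback (Type u) K J).obj F).obj.map g.op w := by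
  let T := (fn.sheafPullback (Type u) K J).obj F
  let η := (fn.sheafAdjunctionContinuous (Type u) K J).unit.app F
  let G : Subfunctor T.obj :=
    { obj := fun X => {w | Loc J X.unop fun W g => ∃ (E : D) (a : F.obj.obj (op E))
        (k : W ⟶ fn.obj E), T.obj.map k.op (η.hom.app (op E) a) = T.obj.map g.op w}
      map := fun {X Y} i w hw => (hw.pullback i.unop).mono fun W g ⟨E, a, k, e⟩ =>
        ⟨E, a, k, by rw [e, op_comp, Functor.map_comp]; rfl⟩ }
  have hT := (isSheaf_iff_isSheaf_of_type J T.obj).1 T.property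
  have hG : Presieve.IsSheaf J G.toFunctor := by
    rw [Subfunctor.isSheaf_iff _ hT]
    intro U s hs
    refine Loc.bind ⟨G.sieveOfSection s, hs, fun W g hg => hg⟩ fun W g hg => ?_
    exact Loc.mono (hg : Loc J W _) fun W' g' ⟨E, a, k, e⟩ =>
      ⟨E, a, k, by rw [e, op_comp, Functor.map_comp]; rfl⟩
  let Gs : Sheaf J (Type u) := ⟨G.toFunctor, (isSheaf_iff_isSheaf_of_type J _).2 hG⟩
  let i : Gs ⟶ T := ⟨G.ι⟩
  let η' : F ⟶ (fn.sheafPushforwardContinuous (Type u) K J).obj Gs :=
    ⟨{ app := fun E => ↾fun a => ⟨η.hom.app E a, Loc.of_forall fun W g =>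
          ⟨E.unop, a, g, rfl⟩⟩
       naturality := fun E E' h => by
        ext a
        refine Subtype.ext ?_
        exact ConcreteCategory.congr_hom (η.hom.naturality h) a }⟩
  let s : T ⟶ Gs := ((fn.sheafAdjunctionContinuous (Type u) K J).homEquiv F Gs).symm η'
  have hs : s ≫ i = 𝟙 T := by
    apply ((fn.sheafAdjunctionContinuous (Type u) K J).homEquiv F T).injective
    rw [Adjunction.homEquiv_naturality_right]
    simp only [s, Equiv.apply_symm_apply]
    rw [Adjunction.homEquiv_unit]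
    apply ObjectProperty.hom_ext
    ext E a
    change _ = ((fn.sheafPushforwardContinuous (Type u) K J).map (𝟙 T)).hom.app E (η.hom.app E a)
    rw [CategoryTheory.Functor.map_id]
    rfl
  have hw : (s.hom.app (op X) w).1 = w := by
    have := congrArg (fun q : T ⟶ T => q.hom.app (op X) w) hs
    exact this
  have h : Loc J X _ := (s.hom.app (op X) w).2
  rw [hw] at h
  exact h

/-- The comparison from the pullback of a representable to a representable. -/
noncomputable def reprCmp (E : D) :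
    (fn.sheafPullback (Type u) K J).obj (hSh K E) ⟶ hSh J (fn.obj E) :=
  ((fn.sheafAdjunctionContinuous (Type u) K J).homEquiv _ _).symm
    ((hShEquiv K E _).symm (hGen J (fn.obj E)))

lemma reprCmp_unit (E : D) :
    (reprCmp K J fn E).hom.app (op (fn.obj E))
      (((fn.sheafAdjunctionContinuous (Type u) K J).unit.app (hSh K E)).hom.app (op E)
        (hGen K E)) = hGen J (fn.obj E) := by
  have e : (fn.sheafAdjunctionContinuous (Type u) K J).unit.app (hSh K E) ≫
      (fn.sheafPushforwardContinuous (Type u) K J).map (reprCmp K J fn E) =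
        (hShEquiv K E _).symm (hGen J (fn.obj E)) := by
    exact ((fn.sheafAdjunctionContinuous (Type u) K J).homEquiv_unit (hSh K E) _
      (reprCmp K J fn E)).symm.trans (Equiv.apply_symm_apply _ _)
  refine (ConcreteCategory.congr_hom
    (congrArg (fun q : hSh K E ⟶ _ => q.hom.app (op E)) e) (hGen K E)).trans ?_
  exact (hShEquiv_apply K E _ _).symm.trans (Equiv.apply_symm_apply _ _)

/-- The translate of the tautological section along `k : X ⟶ fn E`. -/
noncomputable def transl {X : C} {E : D} (k : X ⟶ fn.obj E) :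
    ((fn.sheafPullback (Type u) K J).obj (hSh K E)).obj.obj (op X) :=
  ((fn.sheafPullback (Type u) K J).obj (hSh K E)).obj.map k.op
    (((fn.sheafAdjunctionContinuous (Type u) K J).unit.app (hSh K E)).hom.app (op E) (hGen K E))

lemma local_eq_of_transl {X : C} {E : D} {k k' : X ⟶ fn.obj E}
    (h : transl K J fn k = transl K J fn k') : Loc J X fun _ g => g ≫ k = g ≫ k' := by
  refine local_eq_of_hGen J _ _ ?_
  have e : ∀ k : X ⟶ fn.obj E, (hSh J (fn.obj E)).obj.map k.op (hGen J (fn.obj E)) =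
      (reprCmp K J fn E).hom.app (op X) (transl K J fn k) := fun k => by
    rw [← reprCmp_unit K J fn E]
    exact (ConcreteCategory.congr_hom ((reprCmp K J fn E).hom.naturality k.op) _).symm
  rw [e, e, h]

/-- Translating a translate. -/
lemma transl_map {X : C} {E E₁ : D} (g : E ⟶ E₁) (k : X ⟶ fn.obj E) :
    ((fn.sheafPullback (Type u) K J).map ((hShEquiv K E (hSh K E₁)).symm
      ((hSh K E₁).obj.map g.op (hGen K E₁)))).hom.app (op X) (transl K J fn k) =
      transl K J fn (k ≫ fn.map g) := by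
  set f := (hShEquiv K E (hSh K E₁)).symm ((hSh K E₁).obj.map g.op (hGen K E₁)) with hf
  have h1 := ConcreteCategory.congr_hom
    (((fn.sheafPullback (Type u) K J).map f).hom.naturality k.op)
    (((fn.sheafAdjunctionContinuous (Type u) K J).unit.app (hSh K E)).hom.app (op E) (hGen K E))
  refine h1.trans ?_
  have h2 := ConcreteCategory.congr_hom (congrArg (fun q : hSh K E ⟶
      (fn.sheafPushforwardContinuous (Type u) K J).obj
        ((fn.sheafPullback (Type u) K J).obj (hSh K E₁)) => q.hom.app (op E))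
    ((fn.sheafAdjunctionContinuous (Type u) K J).unit.naturality f)) (hGen K E)
  have h3 : f.hom.app (op E) (hGen K E) = (hSh K E₁).obj.map g.op (hGen K E₁) := by
    rw [← hShEquiv_apply, hf, Equiv.apply_symm_apply]
  have h4 := ConcreteCategory.congr_hom
    (((fn.sheafAdjunctionContinuous (Type u) K J).unit.app (hSh K E₁)).hom.naturality g.op)
    (hGen K E₁)
  refine (congrArg (((fn.sheafPullback (Type u) K J).obj (hSh K E₁)).obj.map k.op)
    (h2.symm.trans ((congrArg (((fn.sheafAdjunctionContinuous (Type u) K J).unit.app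
      (hSh K E₁)).hom.app (op E)) h3).trans h4))).trans ?_
  rw [transl, op_comp, Functor.map_comp]
  rfl

include K hcont hexact

/-- The terminal and binary-product cases. -/
theorem pair_of_exact {X : C} {E₁ E₂ : D} (k₁ : X ⟶ fn.obj E₁) (k₂ : X ⟶ fn.obj E₂) :
    Loc J X fun W g => ∃ (E : D) (g₁ : E ⟶ E₁) (g₂ : E ⟶ E₂) (k : W ⟶ fn.obj E),
      k ≫ fn.map g₁ = g ≫ k₁ ∧ k ≫ fn.map g₂ = g ≫ k₂ := by
  let u := fn.sheafPullback (Type u) K J
  let η := (fn.sheafAdjunctionContinuous (Type u) K J).unit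
  let P := hSh K E₁ ⨯ hSh K E₂
  let w : hSh J X ⟶ u.obj P := prod.lift ((hShEquiv J X _).symm (transl K J fn k₁))
    ((hShEquiv J X _).symm (transl K J fn k₂)) ≫ inv (prodComparison u (hSh K E₁) (hSh K E₂))
  have hfst : w ≫ u.map prod.fst = (hShEquiv J X _).symm (transl K J fn k₁) := by
    simp only [w, Category.assoc]
    rw [(IsIso.inv_comp_eq _).2 (prodComparison_fst u (A := hSh K E₁) (B := hSh K E₂)).symm]
    exact prod.lift_fst _ _
  have hsnd : w ≫ u.map prod.snd = (hShEquiv J X _).symm (transl K J fn k₂) := by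
    simp only [w, Category.assoc]
    rw [(IsIso.inv_comp_eq _).2 (prodComparison_snd u (A := hSh K E₁) (B := hSh K E₂)).symm]
    exact prod.lift_snd _ _
  let w₀ := hShEquiv J X _ w
  have hw₁ : (u.map prod.fst).hom.app (op X) w₀ = transl K J fn k₁ := by
    rw [← (hShEquiv J X _).apply_symm_apply (transl K J fn k₁), ← hfst, hShEquiv_apply]
    simp only [w₀, hShEquiv_apply]
    rfl
  have hw₂ : (u.map prod.snd).hom.app (op X) w₀ = transl K J fn k₂ := by
    rw [← (hShEquiv J X _).apply_symm_apply (transl K J fn k₂), ← hsnd, hShEquiv_apply]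
    simp only [w₀, hShEquiv_apply]
    rfl
  refine (exists_local_translate K J fn P w₀).bind fun W g ⟨E, a, k, e⟩ => ?_
  -- refine `E` so that both components are genuine arrows
  have hcomp := (exists_local_hGen K ((prod.fst : P ⟶ hSh K E₁).hom.app (op E) a)).and
    (exists_local_hGen K ((prod.snd : P ⟶ hSh K E₂).hom.app (op E) a))
  obtain ⟨R, hR, hRa⟩ := hcomp
  refine (cov_of_isContinuous K J fn R hR k).bind fun W' g' ⟨E', h, k', hh, ek⟩ => ?_
  obtain ⟨⟨g₁, hg₁⟩, ⟨g₂, hg₂⟩⟩ := hRa h hh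
  have key : ∀ {E₀ : D} (q : P ⟶ hSh K E₀) (k₀ : X ⟶ fn.obj E₀) (g₀ : E' ⟶ E₀)
      (_ : (u.map q).hom.app (op X) w₀ = transl K J fn k₀)
      (_ : (hSh K E₀).obj.map g₀.op (hGen K E₀) =
        (hSh K E₀).obj.map h.op (q.hom.app (op E) a)),
      transl K J fn (k' ≫ fn.map g₀) = transl K J fn ((g' ≫ g) ≫ k₀) := by
    intro E₀ q k₀ g₀ hq hg₀
    have hA : ∀ {W : C} (k : W ⟶ X), (u.obj (hSh K E₀)).obj.map k.op (transl K J fn k₀) =
        transl K J fn (k ≫ k₀) := fun k => by
      change _ = (u.obj (hSh K E₀)).obj.map (k ≫ k₀).op _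
      rw [op_comp, Functor.map_comp]
      rfl
    rw [← hA, ← hq, ← ConcreteCategory.comp_apply, ← (u.map q).hom.naturality,
      ConcreteCategory.comp_apply, op_comp, Functor.map_comp, ConcreteCategory.comp_apply, ← e]
    rw [← ConcreteCategory.comp_apply _ ((u.obj P).obj.map g'.op), ← Functor.map_comp, ← op_comp,
      ← ek, op_comp, Functor.map_comp, ConcreteCategory.comp_apply]
    have n1 := ConcreteCategory.congr_hom ((η.app P).hom.naturality h.op) a
    rw [show (u.obj P).obj.map (fn.map h).op ((η.app P).hom.app (op E) a) =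
      (η.app P).hom.app (op E') (P.obj.map h.op a) from n1.symm]
    rw [← ConcreteCategory.comp_apply, (u.map q).hom.naturality, ConcreteCategory.comp_apply]
    have n2 := ConcreteCategory.congr_hom
      (congrArg (fun r : P ⟶ (fn.sheafPushforwardContinuous (Type u) K J).obj (u.obj (hSh K E₀)) =>
        r.hom.app (op E')) (η.naturality q)) (P.obj.map h.op a)
    have n3 := ConcreteCategory.congr_hom (q.hom.naturality h.op) a
    have n4 := ConcreteCategory.congr_hom ((η.app (hSh K E₀)).hom.naturality g₀.op) (hGen K E₀)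
    rw [show (u.map q).hom.app (op (fn.obj E')) ((η.app P).hom.app (op E') (P.obj.map h.op a)) =
      (u.obj (hSh K E₀)).obj.map (fn.map g₀).op ((η.app (hSh K E₀)).hom.app (op E₀) (hGen K E₀))
      from n2.symm.trans ((congrArg ((η.app (hSh K E₀)).hom.app (op E'))
        (n3.trans hg₀.symm)).trans n4)]
    change (u.obj (hSh K E₀)).obj.map (k' ≫ fn.map g₀).op _ = _
    rw [op_comp, Functor.map_comp]
    rfl
  exact ((local_eq_of_transl K J fn (key prod.fst k₁ g₁ hw₁ hg₁)).and
    (local_eq_of_transl K J fn (key prod.snd k₂ g₂ hw₂ hg₂))).mono fun W'' g'' ⟨e₁, e₂⟩ =>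
      ⟨E', g₁, g₂, g'' ≫ k', by simpa using e₁, by simpa using e₂⟩

theorem nonempty_of_exact (X : C) : Loc J X fun W _ => ∃ E : D, Nonempty (W ⟶ fn.obj E) := by
  let u := fn.sheafPullback (Type u) K J
  let w : hSh J X ⟶ u.obj (⊤_ (Sheaf K (Type u))) :=
    terminal.from _ ≫ (PreservesTerminal.iso u).inv
  exact (exists_local_translate K J fn (⊤_ _) (hShEquiv J X _ w)).mono
    fun W g ⟨E, _, k, _⟩ => ⟨E, ⟨k⟩⟩

theorem equ_of_exact {X : C} {E E₁ : D} (a b : E ⟶ E₁) (k : X ⟶ fn.obj E)
    (hab : k ≫ fn.map a = k ≫ fn.map b) :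
    Loc J X fun W g => ∃ (E' : D) (h : E' ⟶ E) (k' : W ⟶ fn.obj E'),
      h ≫ a = h ≫ b ∧ k' ≫ fn.map h = g ≫ k := by
  let u := fn.sheafPullback (Type u) K J
  let η := (fn.sheafAdjunctionContinuous (Type u) K J).unit
  let fa := (hShEquiv K E (hSh K E₁)).symm ((hSh K E₁).obj.map a.op (hGen K E₁))
  let fb := (hShEquiv K E (hSh K E₁)).symm ((hSh K E₁).obj.map b.op (hGen K E₁))
  let t := (hShEquiv J X _).symm (transl K J fn k)
  have ht : t ≫ u.map fa = t ≫ u.map fb := by
    apply (hShEquiv J X _).injective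
    rw [hShEquiv_apply, hShEquiv_apply]
    change (u.map fa).hom.app (op X) (t.hom.app (op X) _) =
      (u.map fb).hom.app (op X) (t.hom.app (op X) _)
    rw [← hShEquiv_apply J X _ t, Equiv.apply_symm_apply, transl_map, transl_map, hab]
  let w : hSh J X ⟶ u.obj (equalizer fa fb) :=
    equalizer.lift t ht ≫ inv (equalizerComparison fa fb u)
  have hw : w ≫ u.map (equalizer.ι fa fb) = t := by
    simp only [w, Category.assoc]
    rw [(IsIso.inv_comp_eq _).2 (equalizerComparison_comp_π fa fb u).symm]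
    exact equalizer.lift_ι _ _
  let w₀ := hShEquiv J X _ w
  have hw₀ : (u.map (equalizer.ι fa fb)).hom.app (op X) w₀ = transl K J fn k := by
    rw [← (hShEquiv J X _).apply_symm_apply (transl K J fn k)]
    change _ = hShEquiv J X _ t
    rw [← hw]
    simp only [w₀, hShEquiv_apply]
    rfl
  refine (exists_local_translate K J fn _ w₀).bind fun W g ⟨F₀, z, k₁, e⟩ => ?_
  -- refine `F₀` so that `z` is a genuine arrow equalising `a` and `b`
  have hz : Loc K F₀ fun E' h => ∃ c : E' ⟶ E, c ≫ a = c ≫ b ∧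
      (hSh K E).obj.map c.op (hGen K E) =
        (hSh K E).obj.map h.op ((equalizer.ι fa fb).hom.app (op F₀) z) := by
    refine (exists_local_hGen K ((equalizer.ι fa fb).hom.app (op F₀) z)).bind
      fun E' h ⟨c, hc⟩ => ?_
    have hfa : ∀ (a : E ⟶ E₁), ((hShEquiv K E (hSh K E₁)).symm
        ((hSh K E₁).obj.map a.op (hGen K E₁))).hom.app (op E')
          ((hSh K E).obj.map c.op (hGen K E)) = (hSh K E₁).obj.map (c ≫ a).op (hGen K E₁) := by
      intro a
      rw [← ConcreteCategory.comp_apply, NatTrans.naturality, ConcreteCategory.comp_apply,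
        ← hShEquiv_apply, Equiv.apply_symm_apply, op_comp, Functor.map_comp]
      rfl
    have hcab : (hSh K E₁).obj.map (c ≫ a).op (hGen K E₁) =
        (hSh K E₁).obj.map (c ≫ b).op (hGen K E₁) := by
      rw [← hfa, ← hfa, hc, ← ConcreteCategory.comp_apply,
        ← ConcreteCategory.comp_apply ((hSh K E).obj.map h.op),
        NatTrans.naturality, NatTrans.naturality, ConcreteCategory.comp_apply,
        ConcreteCategory.comp_apply]
      exact congrArg _ (ConcreteCategory.congr_hom (congrArg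
        (fun r : equalizer fa fb ⟶ hSh K E₁ => r.hom.app (op F₀))
        (equalizer.condition fa fb)) z)
    refine (local_eq_of_hGen K _ _ hcab).mono fun E'' g' eq => ⟨g' ≫ c, ?_, ?_⟩
    · simpa using eq
    · rw [op_comp, Functor.map_comp, ConcreteCategory.comp_apply, hc, op_comp, Functor.map_comp]
      rfl
  obtain ⟨R, hR, hRz⟩ := hz
  refine (cov_of_isContinuous K J fn R hR k₁).bind fun W' g' ⟨E', h, k', hh, ek⟩ => ?_
  obtain ⟨c, hcab, hc⟩ := hRz h hh
  have key : transl K J fn (k' ≫ fn.map c) = transl K J fn ((g' ≫ g) ≫ k) := by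
    have hA : (u.obj (hSh K E)).obj.map (g' ≫ g).op (transl K J fn k) =
        transl K J fn ((g' ≫ g) ≫ k) := by
      change _ = (u.obj (hSh K E)).obj.map ((g' ≫ g) ≫ k).op _
      rw [op_comp (f := g' ≫ g) (g := k), Functor.map_comp]
      rfl
    rw [← hA, ← hw₀, ← ConcreteCategory.comp_apply, ← (u.map (equalizer.ι fa fb)).hom.naturality,
      ConcreteCategory.comp_apply, op_comp, Functor.map_comp, ConcreteCategory.comp_apply, ← e]
    rw [← ConcreteCategory.comp_apply _ ((u.obj (equalizer fa fb)).obj.map g'.op),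
      ← Functor.map_comp, ← op_comp,
      ← ek, op_comp, Functor.map_comp, ConcreteCategory.comp_apply]
    have n1 := ConcreteCategory.congr_hom ((η.app (equalizer fa fb)).hom.naturality h.op) z
    rw [show (u.obj (equalizer fa fb)).obj.map (fn.map h).op
        ((η.app (equalizer fa fb)).hom.app (op F₀) z) =
      (η.app (equalizer fa fb)).hom.app (op E') ((equalizer fa fb).obj.map h.op z) from n1.symm]
    rw [← ConcreteCategory.comp_apply, (u.map (equalizer.ι fa fb)).hom.naturality,
      ConcreteCategory.comp_apply]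
    have n2 := ConcreteCategory.congr_hom (congrArg (fun r : equalizer fa fb ⟶
        (fn.sheafPushforwardContinuous (Type u) K J).obj (u.obj (hSh K E)) => r.hom.app (op E'))
      (η.naturality (equalizer.ι fa fb))) ((equalizer fa fb).obj.map h.op z)
    have n3 := ConcreteCategory.congr_hom ((equalizer.ι fa fb).hom.naturality h.op) z
    have n4 := ConcreteCategory.congr_hom ((η.app (hSh K E)).hom.naturality c.op) (hGen K E)
    rw [show (u.map (equalizer.ι fa fb)).hom.app (op (fn.obj E'))
        ((η.app (equalizer fa fb)).hom.app (op E') ((equalizer fa fb).obj.map h.op z)) =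
      (u.obj (hSh K E)).obj.map (fn.map c).op ((η.app (hSh K E)).hom.app (op E) (hGen K E))
      from n2.symm.trans ((congrArg ((η.app (hSh K E)).hom.app (op E'))
        (n3.trans hc.symm)).trans n4)]
    change (u.obj (hSh K E)).obj.map (k' ≫ fn.map c).op _ = _
    rw [op_comp, Functor.map_comp]
    rfl
  exact (local_eq_of_transl K J fn key).mono fun W'' g'' e₁ =>
    ⟨E', c, g'' ≫ k', hcab, by simpa using e₁⟩

theorem locFlat_of_exact : LocFlat K J fn where
  nonempty := nonempty_of_exact K J fn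
  pair := pair_of_exact K J fn
  equ := equ_of_exact K J fn
  cov R hR k := cov_of_isContinuous K J fn R hR k

end Pullback

end Groth.Agent.DerCompLib
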