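import Groth.Agent.DerCompLib.SiteFree
import Groth.Agent.DerCompLib.SiteFlat

/-!
# Local lifting in sheaves of modules
-/

set_option autoImplicit false
set_option backward.isDefEq.respectTransparency false

universe u

open CategoryTheory CategoryTheory.Limits Opposite

namespace Groth.Agent.DerCompLib

variable {C : Type u} [SmallCategory C] {J : GrothendieckTopology C} {O : Sheaf J CommRingCat.{u}}

/-- An epimorphism of sheaves of modules is locally surjective on sections. -/
theorem exists_local_preimage {M N : ModSite.Mod O} (p : M ⟶ N) [Epi p] {X : C} (y : Sec N X) :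
    Loc J X fun W g => ∃ x, secMap p W x = secRes N g y := by
  let F := SheafOfModules.forget (ModSite.ringSh O) ⋙
    PresheafOfModules.restrictScalars (𝟙 (ModSite.ringSh O).obj)
  let π := cokernel.π (F.map p)
  let η := (shAdj O).unit.app (cokernel (F.map p))
  have hz : IsZero ((ModSite.sheafify O).obj (cokernel (F.map p))) := by
    refine IsZero.of_iso ?_ (PreservesCokernel.iso (ModSite.sheafify O) (F.map p))
    haveI : Epi ((ModSite.sheafify O).map (F.map p)) := by
      have e := (shAdj O).counit.naturality p
      have : IsIso ((shAdj O).counit.app M) := inferInstance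
      have : IsIso ((shAdj O).counit.app N) := inferInstance
      have e' : (ModSite.sheafify O).map (F.map p) =
          (shAdj O).counit.app M ≫ p ≫ inv ((shAdj O).counit.app N) := by
        rw [← Category.assoc, IsIso.eq_comp_inv]
        exact e
      rw [e']
      infer_instance
    exact isZero_cokernel_of_epi _
  haveI : Presheaf.IsLocallyInjective J ((PresheafOfModules.toPresheaf _).map η) := by
    rw [PresheafOfModules.toPresheaf_map_sheafificationAdjunction_unit_app]
    exact ((J.W_iff_isLocallyBijective _).1 (J.W_toSheafify _)).1
  let c : (cokernel (F.map p)).obj (op X) := (π.app (op X)).hom y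
  have h0 : (η.app (op X)).hom c = (η.app (op X)).hom 0 := by
    rw [map_zero]
    have : Subsingleton (Sec ((ModSite.sheafify O).obj (cokernel (F.map p))) X) := by
      refine ⟨fun a b => (secEquiv X _).symm.injective ?_⟩
      exact hz.eq_of_tgt _ _
    exact Subsingleton.elim (α := Sec ((ModSite.sheafify O).obj (cokernel (F.map p))) X) _ _
  refine ⟨_, Presheaf.equalizerSieve_mem J ((PresheafOfModules.toPresheaf _).map η)
    (X := op X) c 0 h0, fun W g hg => ?_⟩
  have hg' : (π.app (op W)).hom (secRes N g y) = 0 :=
    (PresheafOfModules.naturality_apply π g.op y).trans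
      ((hg : (cokernel (F.map p)).map g.op c = _).trans (map_zero _))
  have hex := (ShortComplex.exact_cokernel (F.map p)).map
    (PresheafOfModules.evaluation (ModSite.ringSh O).obj (op W))
  exact (ShortComplex.moduleCat_exact_iff _).1 hex _ hg'

/-- In an exact sequence, cycles are locally boundaries. -/
theorem exists_local_boundary {S : ShortComplex (ModSite.Mod O)} (hS : S.Exact) {X : C}
    (b : Sec S.X₂ X) (hb : secMap S.g X b = 0) :
    Loc J X fun W g => ∃ a, secMap S.f W a = secRes S.X₂ g b := by
  haveI : Epi (kernel.lift S.g S.f S.zero) := S.exact_iff_epi_kernel_lift.1 hS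
  have h0 : (secEquiv X _).symm b ≫ S.g = 0 := (secEquiv X _).injective (by
    rw [secEquiv_comp, AddEquiv.apply_symm_apply, map_zero, hb])
  let y := secEquiv X (kernel S.g) (kernel.lift S.g _ h0)
  have hy : secMap (kernel.ι S.g) X y = b := by
    rw [← secEquiv_comp, kernel.lift_ι, AddEquiv.apply_symm_apply]
  refine (exists_local_preimage (kernel.lift S.g S.f S.zero) y).mono fun W g ⟨a, ha⟩ => ⟨a, ?_⟩
  have := congrArg (secMap (kernel.ι S.g) W) ha
  rw [← secMap_comp, kernel.lift_ι, secMap_secRes, hy] at this
  exact this

end Groth.Agent.DerCompLib
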