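import Groth.Agent.DerCompLib.Locality

/-!
# The sheaf of ideals of local completeness
-/

set_option autoImplicit false

universe u

open CategoryTheory CategoryTheory.Limits Opposite

attribute [local instance] HasDerivedCategory.standard

namespace Groth.Agent.DerCompLib

variable {C : Type u} [SmallCategory C] {J : GrothendieckTopology C} {O : Sheaf J CommRingCat.{u}}

/-- The sections of `O` all of whose restrictions lie in the ideal of completeness of `L`. -/
noncomputable def vanishIdealSh (L : CochainComplex (ModSite.Mod O) ℤ) [L.IsKInjective]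
    (hL : ∀ i, Injective (L.X i)) : DerComp.IdealSh O where
  ideal U := ⨅ (V : C) (g : V ⟶ U), (secIdeal L V).comap (O.obj.map g.op).hom
  map_mem {U V} g {f} hf := by
    simp only [Submodule.mem_iInf, Ideal.mem_comap] at hf ⊢
    intro W h
    rw [← CommRingCat.comp_apply, ← Functor.map_comp, ← op_comp]
    exact hf W (h ≫ g)
  glue {U f} S hS hloc := by
    simp only [Submodule.mem_iInf, Ideal.mem_comap]
    intro W h
    refine secIdeal_of_cover L hL (S.pullback h) (J.pullback_stable h hS) _ fun V k hk => ?_
    have := hloc (k ≫ h) hk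
    simp only [Submodule.mem_iInf, Ideal.mem_comap] at this
    simpa using this V (𝟙 V)

lemma mem_vanishIdealSh (L : CochainComplex (ModSite.Mod O) ℤ) [L.IsKInjective]
    (hL : ∀ i, Injective (L.X i)) {U : C} {f : O.obj.obj (op U)} :
    f ∈ (vanishIdealSh L hL).ideal U ↔
      ∀ (V : C) (g : V ⟶ U), (O.obj.map g.op).hom f ∈ secIdeal L V := by
  simp only [vanishIdealSh, Submodule.mem_iInf, Ideal.mem_comap]

/-- Derived completeness is containment in the ideal of completeness. -/
theorem isDerComp_iff_le_vanish {K : DerivedCategory (ModSite.Mod O)}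
    (L : CochainComplex (ModSite.Mod O) ℤ) [L.IsKInjective] (hL : ∀ i, Injective (L.X i))
    (e : K ≅ DerivedCategory.Q.obj L) (I : DerComp.IdealSh O) :
    DerComp.IsDerComp O I K ↔ I ≤ vanishIdealSh L hL := by
  rw [isDerComp_iff_secIdeal L hL e I, DerComp.IdealSh.le_def]
  refine ⟨fun h U f hf => (mem_vanishIdealSh L hL).2 fun V g => h V (I.map_mem g hf),
    fun h U f hf => ?_⟩
  simpa using (mem_vanishIdealSh L hL).1 (h U hf) U (𝟙 U)

end Groth.Agent.DerCompLib
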