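import Groth.Agent.DerCompLib.KoszulTest
import Groth.Agent.DerCompLib.VanishIdeal
import Groth.Agent.DCat.DerivedAdj
import Groth.Agent.DerCompLib.LocalLift

/-!
# Objects killed by derived completion, through iterated cones

`KZ V a E`: the cone along `a` of `E|_V` vanishes.
-/

set_option autoImplicit false
set_option backward.isDefEq.respectTransparency false

universe w v u

open CategoryTheory CategoryTheory.Limits CategoryTheory.Pretriangulated Opposite

attribute [local instance] HasDerivedCategory.standard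

namespace Groth.Agent.DerCompLib

section General

variable {S : Type*} [Category S] [Preadditive S] [HasZeroObject S] [HasShift S ℤ]
  [∀ n : ℤ, (shiftFunctor S n).Additive] [Pretriangulated S]

lemma bijective_precomp_shift {X X' Y : S} (m : X ⟶ X') (m₀ n : ℤ)
    (h : Function.Bijective fun g : X' ⟶ Y⟦n - m₀⟧ => m ≫ g) :
    Function.Bijective fun g : X'⟦m₀⟧ ⟶ Y⟦n⟧ => m⟦m₀⟧' ≫ g := by
  let s := shiftFunctor S m₀
  let e : (Y⟦n - m₀⟧)⟦m₀⟧ ≅ Y⟦n⟧ :=
    ((shiftFunctorAdd' S (n - m₀) m₀ n (by omega)).app Y).symm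
  let φ : ∀ Z : S, (Z ⟶ Y⟦n - m₀⟧) ≃ (Z⟦m₀⟧ ⟶ Y⟦n⟧) := fun Z =>
    (Equiv.ofBijective s.map ⟨s.map_injective, s.map_surjective⟩).trans e.homToEquiv
  have hc : (fun g : X'⟦m₀⟧ ⟶ Y⟦n⟧ => m⟦m₀⟧' ≫ g) ∘ φ X' =
      φ X ∘ fun g : X' ⟶ Y⟦n - m₀⟧ => m ≫ g := by
    funext g
    simp [φ, s]
  rw [← Function.Bijective.of_comp_iff _ (φ X').bijective, hc]
  exact (φ X).bijective.comp h

/-- Vanishing at the third object is bijectivity of precomposition with the first map. -/
theorem subsingleton_obj₃_iff (T : Triangle S) (hT : T ∈ distTriang S) (Y : S) :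
    (∀ n : ℤ, Subsingleton (T.obj₃ ⟶ Y⟦n⟧)) ↔
      ∀ n : ℤ, Function.Bijective fun g : T.obj₂ ⟶ Y⟦n⟧ => T.mor₁ ≫ g := by
  have h31 : T.mor₃ ≫ T.mor₁⟦(1 : ℤ)⟧' = 0 := comp_distTriang_mor_zero₃₁ T hT
  constructor
  · intro h n
    constructor
    · intro f g hfg
      rw [← sub_eq_zero]
      have hd : T.mor₁ ≫ (f - g) = 0 := by rw [Preadditive.comp_sub]; exact sub_eq_zero.2 hfg
      obtain ⟨y, hy⟩ := Triangle.yoneda_exact₂ T hT _ hd
      rw [hy, (h n).elim y 0, comp_zero]
    · intro x
      let e : (Y⟦n⟧)⟦(1 : ℤ)⟧ ≅ Y⟦n + 1⟧ := ((shiftFunctorAdd S n 1).app Y).symm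
      have h0 : T.mor₃ ≫ x⟦(1 : ℤ)⟧' ≫ e.hom = 0 := (h (n + 1)).elim _ _
      obtain ⟨z, hz⟩ := Triangle.yoneda_exact₂ T.rotate.rotate
        (rot_of_distTriang _ (rot_of_distTriang _ hT)) _ h0
      obtain ⟨y, hy⟩ := (shiftFunctor S (1 : ℤ)).map_surjective
        (X := T.obj₂) (Y := Y⟦n⟧) (z ≫ e.inv)
      change _ = (-T.mor₁⟦(1 : ℤ)⟧') ≫ _ at hz
      refine ⟨-y, (shiftFunctor S (1 : ℤ)).map_injective ?_⟩
      rw [Functor.map_comp, Functor.map_neg, Preadditive.comp_neg, hy, ← cancel_mono e.hom]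
      refine Eq.trans ?_ hz.symm
      simp
  · intro h n
    refine subsingleton_of_forall_eq 0 fun g => ?_
    have h2 : T.mor₂ ≫ g = 0 := (h n).1 (by
      change T.mor₁ ≫ T.mor₂ ≫ g = T.mor₁ ≫ 0
      rw [← Category.assoc, comp_distTriang_mor_zero₁₂ T hT, zero_comp, comp_zero])
    obtain ⟨y, hy⟩ := Triangle.yoneda_exact₃ T hT g h2
    obtain ⟨y', hy'⟩ := (bijective_precomp_shift T.mor₁ 1 n (h (n - 1))).2 y
    rw [hy, ← hy', ← Category.assoc, h31, zero_comp]

end General

variable {C : Type u} [SmallCategory C] {J : GrothendieckTopology C} {O : Sheaf J CommRingCat.{u}}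

instance restr_preservesFiniteLimits (V : C) : PreservesFiniteLimits (ModSite.restr O V) :=
  inferInstance

instance restr_preservesFiniteColimits (V : C) : PreservesFiniteColimits (ModSite.restr O V) :=
  haveI : (ModSite.restr O V).IsLeftAdjoint := hasPushOver O V
  inferInstance

/-- Restriction on derived categories. -/
noncomputable abbrev restrD (V : C) :
    DerivedCategory (ModSite.Mod O) ⥤ DerivedCategory (ModSite.Mod (O.over V)) :=
  (ModSite.restr O V).mapDerivedCategory

/-- Restriction of a complex, in the derived category. -/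
noncomputable def restrDQ (V : C) (L : CochainComplex (ModSite.Mod O) ℤ) :
    (restrD V).obj (DerivedCategory.Q.obj L) ≅ DerivedCategory.Q.obj (restrCx L V) :=
  (ModSite.restr O V).mapDerivedCategoryFactors.app L

variable {V : C} {r : ℕ}

/-- The list of global sections of `O|_V` given by a family in `O(V)`. -/
noncomputable abbrev gList (a : Fin r → O.obj.obj (op V)) : List (DerComp.GSec (O.over V)) :=
  List.ofFn fun j => DerComp.GSec.ofSect O V (a j)

variable (a : Fin r → O.obj.obj (op V))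

/-- The cone along `a` of the restriction to `V` vanishes. -/
def KZ (E : DerivedCategory (ModSite.Mod O)) : Prop :=
  ∀ Y : CochainComplex (ModSite.Mod (O.over V)) ℤ,
    Orth ((restrD V).obj E) (DerivedCategory.Q.obj ((kos (gList a).reverse).obj Y))

lemma KZ.isZero {E : DerivedCategory (ModSite.Mod O)} (h : KZ a E)
    (X : CochainComplex (ModSite.Mod (O.over V)) ℤ)
    (e : (restrD V).obj E ≅ DerivedCategory.Q.obj X) :
    IsZero (DerivedCategory.Q.obj ((kos (gList a)).obj X)) :=
  isZero_kos_of_orth _ _ ((h _).of_iso e (Iso.refl _))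

lemma kz_of_isZero {E : DerivedCategory (ModSite.Mod O)}
    (X : CochainComplex (ModSite.Mod (O.over V)) ℤ)
    (e : (restrD V).obj E ≅ DerivedCategory.Q.obj X)
    (h : IsZero (DerivedCategory.Q.obj ((kos (gList a)).obj X))) : KZ a E := fun Y =>
  ((orth_kos_iff (gList a) X Y).1 fun n => ⟨fun f g => h.eq_of_src f g⟩).of_iso e.symm (Iso.refl _)

/-- A morphism inducing bijections on maps to all cones along `a` over `V`. -/
def KZMor {E E' : DerivedCategory (ModSite.Mod O)} (φ : E ⟶ E') : Prop :=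
  ∀ (Y : CochainComplex (ModSite.Mod (O.over V)) ℤ) (n : ℤ),
    Function.Bijective fun g : (restrD V).obj E' ⟶
      (DerivedCategory.Q.obj ((kos (gList a).reverse).obj Y))⟦n⟧ => (restrD V).map φ ≫ g

theorem kz_obj₃_iff (T : Triangle (DerivedCategory (ModSite.Mod O)))
    (hT : T ∈ distTriang (DerivedCategory (ModSite.Mod O))) :
    KZ a T.obj₃ ↔ KZMor a T.mor₁ :=
  forall_congr' fun _ => subsingleton_obj₃_iff ((restrD V).mapTriangle.obj T)
    ((restrD V).map_distinguished T hT) _

lemma KZMor.of_comp {E E' E'' : DerivedCategory (ModSite.Mod O)} {φ : E ⟶ E'} {ψ : E' ⟶ E''}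
    (h : KZMor a (φ ≫ ψ)) (hφ : KZMor a φ) : KZMor a ψ := fun Y n => by
  have h' := h Y n
  simp only [Functor.map_comp, Category.assoc] at h'
  exact (Function.Bijective.of_comp_iff' (hφ Y n) _).1 h'

section Push

/-- Maps into a direct image of a K-injective complex. -/
theorem exists_equiv_push [ModSite.HasPushOver O V] [(ModSite.pushOver O V).Additive]
    (X : CochainComplex (ModSite.Mod O) ℤ) (L : CochainComplex (ModSite.Mod (O.over V)) ℤ)
    [L.IsKInjective] :
    Nonempty ((DerivedCategory.Q.obj X ⟶ DerivedCategory.Q.obj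
        (((ModSite.pushOver O V).mapHomologicalComplex (ComplexShape.up ℤ)).obj L)) ≃
      (DerivedCategory.Q.obj (restrCx X V) ⟶ DerivedCategory.Q.obj L)) := by
  let jL := ((ModSite.pushOver O V).mapHomologicalComplex (ComplexShape.up ℤ)).obj L
  haveI : CochainComplex.IsKInjective jL := isKInjective_map_of_adj (ModSite.restrPushOverAdj O V) L
  let q := HomotopyCategory.quotient (ModSite.Mod O) (ComplexShape.up ℤ)
  let q' := HomotopyCategory.quotient (ModSite.Mod (O.over V)) (ComplexShape.up ℤ)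
  let c := (DerivedCategory.quotientCompQhIso (ModSite.Mod O))
  let c' := (DerivedCategory.quotientCompQhIso (ModSite.Mod (O.over V)))
  exact ⟨(Iso.homCongr (c.app X) (c.app jL)).symm.trans
    ((Equiv.ofBijective _ (CochainComplex.IsKInjective.Qh_map_bijective (q.obj X) jL)).symm.trans
    (((DCat.adjHot (ComplexShape.up ℤ) (ModSite.restrPushOverAdj O V)).homEquiv (q.obj X) (q'.obj L)).symm.trans
    ((Equiv.ofBijective _ (CochainComplex.IsKInjective.Qh_map_bijective
      (q'.obj (restrCx X V)) L)).trans (Iso.homCongr (c'.app (restrCx X V)) (c'.app L)))))⟩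

end Push

/-- Objects without maps to derived complete objects are killed by cones along generators. -/
theorem kz_of_leftOrth (I : DerComp.IdealSh O)
    (hI : ∀ (W : C) (f : O.obj.obj (op W)), f ∈ I.ideal W → LocallyInSpan a f)
    {E : DerivedCategory (ModSite.Mod O)}
    (hE : ∀ N, DerComp.IsDerComp O I N → ∀ n : ℤ, Subsingleton (E ⟶ N⟦n⟧)) : KZ a E := by
  intro Y
  haveI : ModSite.HasPushOver O V := hasPushOver O V
  haveI : (ModSite.pushOver O V).Additive :=
    (ModSite.restrPushOverAdj O V).right_adjoint_additive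
  let P := (ModSite.pushOver O V).mapHomologicalComplex (ComplexShape.up ℤ)
  obtain ⟨Z, η, hZ, hη, -, -⟩ := DCat.exists_kInj_res ((kos (gList a).reverse).obj Y)
  have hQ : IsIso (DerivedCategory.Q.map η) :=
    Localization.inverts DerivedCategory.Q (HomologicalComplex.quasiIso _ _) η hη
  let eY : DerivedCategory.Q.obj Z ≅ DerivedCategory.Q.obj ((kos (gList a).reverse).obj Y) :=
    (@asIso _ _ _ _ (DerivedCategory.Q.map η) hQ).symm
  let eP : ∀ n : ℤ, (DerivedCategory.Q.obj (P.obj Z))⟦n⟧ ≅ DerivedCategory.Q.obj (P.obj (Z⟦n⟧)) :=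
    fun n => (DerivedCategory.Q.commShiftIso n).symm.app _ ≪≫
      DerivedCategory.Q.mapIso (((ModSite.pushOver O V).mapHomologicalComplex
        (ComplexShape.up ℤ)).commShiftIso n |>.symm.app Z)
  have key : ∀ (X : CochainComplex (ModSite.Mod O) ℤ) (n : ℤ),
      Nonempty ((DerivedCategory.Q.obj X ⟶ (DerivedCategory.Q.obj (P.obj Z))⟦n⟧) ≃
        (DerivedCategory.Q.obj (restrCx X V) ⟶
          (DerivedCategory.Q.obj ((kos (gList a).reverse).obj Y))⟦n⟧)) := fun X n => by
    obtain ⟨φ⟩ := exists_equiv_push (V := V) X (Z⟦n⟧)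
    exact ⟨((eP n).homToEquiv).trans (φ.trans (((DerivedCategory.Q.commShiftIso n).app Z ≪≫
      (shiftFunctor _ n).mapIso eY).homToEquiv))⟩
  have hN : DerComp.IsDerComp O I (DerivedCategory.Q.obj (P.obj Z)) := fun W f hf n => by
    let T₀ := (ModSite.extZero O W).obj (DerComp.awayOver O W f)
    let e₀ : SiteCmp.inD O T₀ ≅ DerivedCategory.Q.obj
        ((HomologicalComplex.single _ (ComplexShape.up ℤ) 0).obj T₀) :=
      (DerivedCategory.singleFunctorIsoCompQ _ 0).app T₀
    obtain ⟨φ⟩ := key ((HomologicalComplex.single _ (ComplexShape.up ℤ) 0).obj T₀) n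
    have hz := isZero_kos_restr_test a f (hI W f hf)
    have ho := ((orth_kos_iff (gList a) _ Y).1 fun n => ⟨fun f g => hz.eq_of_src f g⟩).of_iso
      (DerivedCategory.Q.mapIso ((HomologicalComplex.singleMapHomologicalComplex
        (ModSite.restr O V) (ComplexShape.up ℤ) 0).app T₀).symm) (Iso.refl _)
    haveI : Subsingleton (DerivedCategory.Q.obj (restrCx
        ((HomologicalComplex.single (ModSite.Mod O) (ComplexShape.up ℤ) 0).obj T₀) V) ⟶
        (DerivedCategory.Q.obj ((kos (gList a).reverse).obj Y))⟦n⟧) := ho n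
    exact (e₀.homFromEquiv.trans φ).subsingleton
  intro n
  obtain ⟨φ⟩ := key (DerivedCategory.Q.objPreimage E) n
  haveI := hE _ hN n
  haveI : Subsingleton (DerivedCategory.Q.obj (DerivedCategory.Q.objPreimage E) ⟶
      (DerivedCategory.Q.obj (P.obj Z))⟦n⟧) :=
    ((DerivedCategory.Q.objObjPreimageIso E).homFromEquiv).subsingleton
  haveI := φ.symm.subsingleton
  exact (((restrD V).mapIso (DerivedCategory.Q.objObjPreimageIso E)).symm ≪≫
    restrDQ V _).homFromEquiv.subsingleton

section Descent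

variable {C' : Type u} [SmallCategory C'] {J' : GrothendieckTopology C'}
  {O' : Sheaf J' CommRingCat.{u}}

/-- An isomorphism of multiplication by a global section is bijective on cohomology of sections. -/
theorem bijective_smul_secH (s : DerComp.GSec O') (X : CochainComplex (ModSite.Mod O') ℤ)
    [X.IsKInjective] (h : IsIso (s • 𝟙 (DerivedCategory.Q.obj X))) (U : C') (i : ℤ) :
    Function.Bijective fun y : secH X U i => (s.1 U : O'.obj.obj (op U)) • y := by
  haveI : QuasiIso (s • 𝟙 X) := by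
    rw [← DerivedCategory.isIso_Q_map_iff_quasiIso, Functor.map_smul, CategoryTheory.Functor.map_id]
    exact h
  obtain ⟨g, ⟨h₁⟩, ⟨h₂⟩⟩ := exists_homotopyInverse (s • 𝟙 X)
  have hgen : ∀ (z : Sec (X.X i) U) (hh : Homotopy ((s • 𝟙 X) ≫ g) (𝟙 X)),
      secMap (X.d i (i + 1)) U z = 0 →
      secMap (g.f i) U ((s.1 U : O'.obj.obj (op U)) • z) =
        secMap (X.d (i - 1) i) U (secMap (hh.hom i (i - 1)) U z) + z := fun z hh hz => by
    have e := hh.comm i
    rw [dNext_eq _ (show (ComplexShape.up ℤ).Rel i (i + 1) by simp),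
      prevD_eq _ (show (ComplexShape.up ℤ).Rel (i - 1) i by simp)] at e
    have e' := congrArg (fun t => secMap t U z) e
    simp only [secMap_add, secMap_comp, hz, map_zero, zero_add] at e'
    exact e'
  constructor
  · intro y y' hy
    rw [← sub_eq_zero]
    have hd : (s.1 U : O'.obj.obj (op U)) • (y - y') = 0 := by
      rw [smul_sub]; exact sub_eq_zero.2 hy
    revert hd
    generalize y - y' = q
    obtain ⟨z, rfl⟩ := Submodule.mkQ_surjective _ q
    intro hd
    obtain ⟨w, hw⟩ := (secH_mk_eq_zero _).1 ((map_smul _ _ _).trans hd)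
    refine (secH_mk_eq_zero _).2 ⟨secMap (g.f (i - 1)) U w - secMap (h₁.hom i (i - 1)) U z, ?_⟩
    rw [map_sub, ← secMap_comp, g.comm, secMap_comp, hw]
    exact sub_eq_iff_eq_add'.2 (hgen z h₁ (LinearMap.mem_ker.1 z.2))
  · intro q
    obtain ⟨z, rfl⟩ := Submodule.mkQ_surjective _ q
    have hgz : secMap (X.d i (i + 1)) U (secMap (g.f i) U (z : Sec (X.X i) U)) = 0 := by
      rw [← secMap_comp, g.comm, secMap_comp, LinearMap.mem_ker.1 z.2, map_zero]
    refine ⟨(secBdry X U i).mkQ ⟨secMap (g.f i) U (z : Sec (X.X i) U), hgz⟩, ?_⟩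
    refine (map_smul _ _ _).symm.trans (sub_eq_zero.1 ?_)
    rw [← map_sub]
    refine (secH_mk_eq_zero _).2 ⟨secMap (h₁.hom i (i - 1)) U z, ?_⟩
    refine (eq_sub_iff_add_eq.2 (hgen z h₁ (LinearMap.mem_ker.1 z.2)).symm).trans ?_
    exact congrArg (· - _) (map_smul _ _ _)

lemma IsDerComp.coneSmul (I : DerComp.IdealSh O') (s : DerComp.GSec O')
    {X : CochainComplex (ModSite.Mod O') ℤ}
    (h : DerComp.IsDerComp O' I (DerivedCategory.Q.obj X)) :
    DerComp.IsDerComp O' I (DerivedCategory.Q.obj (CochainComplex.mappingCone (s • 𝟙 X))) :=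
  fun U f hf => (orth_cone_right_iff s).2 fun n => by
    haveI := h U f hf n
    exact ⟨fun a b _ => Subsingleton.elim a b, fun b => ⟨b, Subsingleton.elim _ _⟩⟩

/-- Complete objects killed by the cone along elements of the ideal have no cohomology. -/
theorem isZero_of_kos_zero (I : DerComp.IdealSh O') :
    ∀ (l : List (DerComp.GSec O')), (∀ s ∈ l, ∀ U, s.1 U ∈ I.ideal U) →
      ∀ X : CochainComplex (ModSite.Mod O') ℤ, DerComp.IsDerComp O' I (DerivedCategory.Q.obj X) →
        IsZero (DerivedCategory.Q.obj ((kos l).obj X)) → IsZero (DerivedCategory.Q.obj X)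
  | [], _, X, _, h => h
  | s :: l, hl, X, hX, h => by
    have hc := isZero_of_kos_zero I l (fun t ht => hl t (List.mem_cons_of_mem _ ht)) _
      (IsDerComp.coneSmul I s hX) h
    have hs : IsIso (s • 𝟙 (DerivedCategory.Q.obj X)) := by
      rw [← smulTri_mor₁ s]
      exact (Triangle.isZero₃_iff_isIso₁ _ (smulTri_dist s X)).1 hc
    obtain ⟨M, η, hM, hη, -, hMI⟩ := DCat.exists_kInj_res X
    have hQ : IsIso (DerivedCategory.Q.map η) :=
      Localization.inverts DerivedCategory.Q (HomologicalComplex.quasiIso _ _) η hη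
    let e := @asIso _ _ _ _ (DerivedCategory.Q.map η) hQ
    have hs' : IsIso (s • 𝟙 (DerivedCategory.Q.obj M)) := by
      have : s • 𝟙 (DerivedCategory.Q.obj M) =
          e.inv ≫ (s • 𝟙 (DerivedCategory.Q.obj X)) ≫ e.hom := by
        simp [Linear.smul_comp, Linear.comp_smul]
      rw [this]
      infer_instance
    have hcompl := (isDerComp_iff_secIdeal M hMI e I).1 hX
    have hzero : ∀ (U : C') (i : ℤ) (y : secH M U i), y = 0 := fun U i y =>
      IsComplElt.eq_zero_of_bijective (mem_secIdeal.1 (hcompl U (hl s List.mem_cons_self U)) i)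
        (bijective_smul_secH s M hs' U i) y
    refine IsZero.of_iso ((isZero_Q_iff M).2 fun i => ?_) e
    rw [HomologicalComplex.exactAt_iff' _ (i - 1) i (i + 1) (by simp) (by simp)]
    refine exact_of_locally _ fun U b hb => ⟨⊤, J'.top_mem U, fun W k _ => ?_⟩
    exact (secH_mk_eq_zero ⟨secRes (M.X i) k b, (secMap_secRes _ k b).trans
      ((congrArg _ hb).trans (map_zero _))⟩).1 (hzero W i _)

end Descent

set_option maxHeartbeats 1000000 in
/-- Restrictions of complete objects are complete. -/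
theorem isDerComp_restr (I : DerComp.IdealSh O) (V : C)
    (L : CochainComplex (ModSite.Mod O) ℤ) [L.IsKInjective] (hL : ∀ i, Injective (L.X i))
    (h : DerComp.IsDerComp O I (DerivedCategory.Q.obj L)) :
    DerComp.IsDerComp (O.over V) (I.over V) (DerivedCategory.Q.obj (restrCx L V)) := by
  haveI : (restrCx L V).IsKInjective := isKInjective_map_of_adj (ModSite.extZeroAdj O V) L
  refine (isDerComp_iff_secIdeal (restrCx L V)
    (fun i => (ModSite.restr O V).injective_obj_of_injective (hL i)) (Iso.refl _) _).2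
    fun U f hf => ?_
  exact (isDerComp_iff_secIdeal L hL (Iso.refl _) I).1 h U.left hf

/-- A complete object killed by cones along generators on a cover is zero. -/
theorem isZero_of_complete_of_cover (I : DerComp.IdealSh O)
    {W : DerivedCategory (ModSite.Mod O)} (hW : DerComp.IsDerComp O I W)
    (hcov : ∀ U : C, ∃ S ∈ J U, ∀ ⦃V : C⦄ (g : V ⟶ U), S g →
      ∃ (r : ℕ) (a : Fin r → O.obj.obj (op V)), (∀ j, a j ∈ I.ideal V) ∧ KZ a W) :
    IsZero W := by
  obtain ⟨L, hL, hLI, ⟨e⟩⟩ := exists_kInj_rep W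
  have hc : DerComp.IsDerComp O I (DerivedCategory.Q.obj L) := fun U f hf n => by
    haveI := hW U f hf n
    exact ((shiftFunctor _ n).mapIso e).homToEquiv.symm.subsingleton
  refine IsZero.of_iso ((isZero_Q_iff L).2 fun i => ?_) e
  rw [HomologicalComplex.exactAt_iff' _ (i - 1) i (i + 1) (by simp) (by simp)]
  refine exact_of_locally _ fun U b hb => ?_
  obtain ⟨S, hS, hSV⟩ := hcov U
  suffices hl : ∀ ⦃V : C⦄ (g : V ⟶ U), S g → ∃ R ∈ J V, ∀ ⦃V' : C⦄ (k : V' ⟶ V), R k →
      ∃ c, secMap (L.d (i - 1) i) V' c = secRes (L.X i) (k ≫ g) b by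
    choose R hR hRk using hl
    refine ⟨Sieve.bind S.1 fun V g hg => R g hg, J.bind_covering hS fun V g hg => hR g hg, ?_⟩
    rintro V' _ ⟨V, k, g, hg, hk, rfl⟩
    exact hRk g hg k hk
  intro V g hg
  obtain ⟨r, a, ha, hkz⟩ := hSV g hg
  have hz := isZero_of_kos_zero (I.over V) (gList a) (fun s hs U' => by
    obtain ⟨j, rfl⟩ := List.mem_ofFn.1 hs
    exact I.map_mem U'.hom (ha j)) (restrCx L V) (isDerComp_restr I V L hLI hc)
    (hkz.isZero a (restrCx L V) ((restrD V).mapIso e ≪≫ restrDQ V L))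
  haveI : (restrCx L V).IsKInjective := isKInjective_map_of_adj (ModSite.extZeroAdj O V) L
  have hex := ((isZero_Q_iff _).1 hz) i
  rw [HomologicalComplex.exactAt_iff' _ (i - 1) i (i + 1) (by simp) (by simp)] at hex
  obtain ⟨R, hR, hRk⟩ := exists_local_boundary hex (X := Over.mk (𝟙 V))
    (secRes (L.X i) g b) ((secMap_secRes _ g b).trans ((congrArg _ hb).trans (map_zero _)))
  refine ⟨Sieve.overEquiv _ R, (GrothendieckTopology.mem_over_iff _ R).1 hR, fun V' k hk => ?_⟩
  obtain ⟨c, hc⟩ := hRk _ ((Sieve.overEquiv_iff R k).1 hk)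
  exact ⟨c, hc.trans (secRes_comp (L.X i) k g b)⟩

end Groth.Agent.DerCompLib
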