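import Groth.Agent.DerCompLib.KoszulTok
import Mathlib.Algebra.Category.ModuleCat.Presheaf.Colimits
import Mathlib.Algebra.Category.ModuleCat.Presheaf.EpiMono
import Mathlib.Algebra.Homology.HomologicalComplexAbelian

/-!
# Iterated cones of presheaves of modules and sheafification

Presheaves of modules over `O` are linear over global sections; evaluation and sheafification are
compatible, so iterated cones of a sheafification vanish when they vanish at every object.
-/

set_option autoImplicit false
set_option backward.isDefEq.respectTransparency false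

universe u

open CategoryTheory CategoryTheory.Limits Opposite

attribute [local instance] HasDerivedCategory.standard

namespace Groth.Agent.DerCompLib

variable {C : Type u} [SmallCategory C] {J : GrothendieckTopology C} {O : Sheaf J CommRingCat.{u}}

/-- Presheaves of modules over `O`. -/
abbrev PreMod (O : Sheaf J CommRingCat.{u}) := PresheafOfModules.{u} (ModSite.ringSh O).obj

/-- Multiplication by a global section on a presheaf of modules. -/
noncomputable def smulPre (s : DerComp.GSec O) (F : PreMod O) : F ⟶ F where
  app X := ModuleCat.ofHom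
    { toFun := fun x => DerComp.GSec.val' s X • x
      map_add' := fun x y => smul_add _ x y
      map_smul' := fun r x => by
        rw [RingHom.id_apply, smul_smul, smul_smul]
        exact congrArg (fun t => t • x) (DerComp.GSec.val'_comm s X r) }
  naturality {X Y} g := by
    ext x
    dsimp
    rw [PresheafOfModules.map_smul]
    congr 1
    exact (s.2 g.unop).symm

lemma smulPre_comm (s : DerComp.GSec O) {F G : PreMod O} (φ : F ⟶ G) :
    smulPre s F ≫ φ = φ ≫ smulPre s G := by
  ext X x
  exact (φ.app X).hom.map_smul (DerComp.GSec.val' s X) x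

/-- Presheaves of modules are linear over global sections. -/
noncomputable instance linearPre : Linear (DerComp.GSec O) (PreMod O) where
  homModule F G :=
    { smul := fun s φ => smulPre s F ≫ φ
      one_smul := fun φ => by
        ext X x
        exact congrArg (φ.app X).hom (one_smul ((ModSite.ringSh O).obj.obj X) x)
      mul_smul := fun s t φ => by
        ext X x
        refine congrArg (φ.app X).hom ?_
        change (DerComp.GSec.val' s X * DerComp.GSec.val' t X) • x =
          DerComp.GSec.val' t X • (DerComp.GSec.val' s X • x)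
        rw [smul_smul, DerComp.GSec.val'_comm]
      smul_zero := fun s => show smulPre s F ≫ (0 : F ⟶ G) = 0 from Limits.comp_zero
      smul_add := fun s φ ψ => show smulPre s F ≫ (φ + ψ) = smulPre s F ≫ φ + smulPre s F ≫ ψ from
        Preadditive.comp_add _ _ _ _ _ _
      add_smul := fun s t φ => by
        ext X x
        refine (congrArg (φ.app X).hom (add_smul (DerComp.GSec.val' s X) (DerComp.GSec.val' t X) x)).trans ?_
        exact (φ.app X).hom.map_add _ _
      zero_smul := fun φ => by
        ext X x
        refine (congrArg (φ.app X).hom (zero_smul ((ModSite.ringSh O).obj.obj X) x)).trans ?_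
        exact (φ.app X).hom.map_zero }
  smul_comp X Y Z r f g := Category.assoc _ _ _
  comp_smul X Y Z f r g := show f ≫ (smulPre r Y ≫ g) = smulPre r X ≫ (f ≫ g) by
    rw [← Category.assoc, ← smulPre_comm, Category.assoc]

/-- Evaluation, with values in modules over the commutative ring of sections. -/
noncomputable def evX (O : Sheaf J CommRingCat.{u}) (X : Cᵒᵖ) :
    PreMod O ⥤ ModuleCat.{u} (O.obj.obj X) :=
  PresheafOfModules.evaluation _ X

instance (X : Cᵒᵖ) : (evX O X).Additive :=
  inferInstanceAs (PresheafOfModules.evaluation.{u} (ModSite.ringSh O).obj X).Additive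

instance (X : Cᵒᵖ) (T : Type u) [SmallCategory T] : PreservesColimitsOfShape T (evX O X) :=
  inferInstanceAs (PreservesColimitsOfShape T (PresheafOfModules.evaluation.{u} (ModSite.ringSh O).obj X))

instance (X : Cᵒᵖ) : PreservesFiniteColimits (evX O X) :=
  inferInstanceAs (PreservesFiniteColimits (PresheafOfModules.evaluation.{u} (ModSite.ringSh O).obj X))

instance (X : Cᵒᵖ) : PreservesFiniteLimits (evX O X) :=
  inferInstanceAs (PreservesFiniteLimits (PresheafOfModules.evaluation.{u} (ModSite.ringSh O).obj X))

lemma evX_smul (X : Cᵒᵖ) (F : PreMod O) (s : DerComp.GSec O) :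
    (evX O X).map (s • 𝟙 F) = (s.1 X.unop) • 𝟙 ((evX O X).obj F) := by
  change (evX O X).map (smulPre s F ≫ 𝟙 F) = _
  rw [Category.comp_id]
  ext x
  rfl

/-- A complex of presheaves of modules is acyclic if all its evaluations are. -/
lemma acyclic_of_evX {K : CochainComplex (PreMod O) ℤ}
    (h : ∀ X, (((evX O X).mapHomologicalComplex (ComplexShape.up ℤ)).obj K).Acyclic) :
    K.Acyclic := by
  intro n
  have hX : ∀ X, IsZero ((evX O X).obj (K.homology n)) := fun X => by
    have h1 := (HomologicalComplex.exactAt_iff_isZero_homology _ _).1 (h X n)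
    exact IsZero.of_iso h1 ((K.sc n).mapHomologyIso (evX O X)).symm
  rw [HomologicalComplex.exactAt_iff_isZero_homology, IsZero.iff_id_eq_zero]
  apply PresheafOfModules.hom_ext
  intro X
  exact (hX X).eq_of_src _ _

lemma sheafify_map_smul (s : DerComp.GSec O) (F : PreMod O) :
    (ModSite.sheafify O).map (s • 𝟙 F) = s • 𝟙 ((ModSite.sheafify O).obj F) := by
  let adj := PresheafOfModules.sheafificationAdjunction.{u} (𝟙 (ModSite.ringSh O).obj)
  apply (adj.homEquiv _ _).injective
  rw [Adjunction.homEquiv_unit, Adjunction.homEquiv_unit]
  have h1 := adj.unit.naturality (smulPre s F ≫ 𝟙 F)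
  refine h1.symm.trans ?_
  rw [Functor.id_map, Category.comp_id]
  refine (smulPre_comm (O := O) s (G := ((SheafOfModules.forget (ModSite.ringSh O) ⋙
    PresheafOfModules.restrictScalars (𝟙 (ModSite.ringSh O).obj)).obj ((ModSite.sheafify O).obj F))) (adj.unit.app F)).trans ?_
  refine congrArg (adj.unit.app F ≫ ·) ?_
  apply PresheafOfModules.hom_ext
  intro X
  ext x
  rfl

/-- Vanishing at every object gives vanishing after sheafification. -/
theorem isZero_kos_sheafify (l : List (DerComp.GSec O)) (P : PreMod O)
    (h : ∀ X : Cᵒᵖ, IsZero (DerivedCategory.Q.obj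
      ((kos (l.map fun s => (s.1 X.unop : O.obj.obj X))).obj
        ((HomologicalComplex.single _ (ComplexShape.up ℤ) 0).obj ((evX O X).obj P))))) :
    IsZero (DerivedCategory.Q.obj ((kos l).obj
      ((HomologicalComplex.single _ (ComplexShape.up ℤ) 0).obj ((ModSite.sheafify O).obj P)))) := by
  let S₀ := HomologicalComplex.single (PreMod O) (ComplexShape.up ℤ) 0
  have hac : ((kos l).obj (S₀.obj P)).Acyclic := by
    refine acyclic_of_evX fun X => ?_
    obtain ⟨e⟩ := nonempty_iso_map_kos (evX O X) (fun s : DerComp.GSec O => (s.1 X.unop : O.obj.obj X))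
      (fun F s => evX_smul X F s) l (S₀.obj P)
    rw [← isZero_Q_iff]
    refine IsZero.of_iso (h X) (DerivedCategory.Q.mapIso (e ≪≫ (kos _).mapIso ?_))
    exact (HomologicalComplex.singleMapHomologicalComplex (evX O X) (ComplexShape.up ℤ) 0).app P
  haveI : PreservesFiniteColimits (ModSite.sheafify O) := by
    haveI : (ModSite.sheafify O).IsLeftAdjoint :=
      (PresheafOfModules.sheafificationAdjunction.{u} (𝟙 (ModSite.ringSh O).obj)).isLeftAdjoint
    infer_instance
  haveI : (ModSite.sheafify O).Additive :=
    (PresheafOfModules.sheafificationAdjunction.{u} (𝟙 (ModSite.ringSh O).obj)).left_adjoint_additive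
  obtain ⟨e⟩ := nonempty_iso_map_kos (ModSite.sheafify O) id (fun F s => sheafify_map_smul s F) l
    (S₀.obj P)
  rw [List.map_id] at e
  refine IsZero.of_iso ?_ (DerivedCategory.Q.mapIso (((kos l).mapIso
    ((HomologicalComplex.singleMapHomologicalComplex (ModSite.sheafify O)
      (ComplexShape.up ℤ) 0).app P)).symm ≪≫ e.symm))
  rw [isZero_Q_iff]
  intro n
  rw [HomologicalComplex.exactAt_iff_isZero_homology]
  exact IsZero.of_iso ((ModSite.sheafify O).map_isZero
    ((HomologicalComplex.exactAt_iff_isZero_homology _ _).1 (hac n)))
    ((((kos l).obj (S₀.obj P)).sc n).mapHomologyIso (ModSite.sheafify O))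

end Groth.Agent.DerCompLib
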