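import Groth.Agent.DerCompLib.KoszulRpush

/-!
# Cones along generators and restriction
-/

set_option autoImplicit false
set_option backward.isDefEq.respectTransparency false

universe u

open CategoryTheory CategoryTheory.Limits CategoryTheory.Pretriangulated Opposite

attribute [local instance] HasDerivedCategory.standard

namespace Groth.Agent.DerCompLib

variable {C : Type u} [SmallCategory C] {J : GrothendieckTopology C} {O : Sheaf J CommRingCat.{u}}
variable {U V : C} (g : V ⟶ U) {r : ℕ} (a : Fin r → O.obj.obj (op V))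

/-- Koszul vanishing passes to a restriction to a smaller localised site. -/
theorem isZero_kos_restr (L : CochainComplex (ModSite.Mod O) ℤ) [L.IsKInjective]
    (h : IsZero (DerivedCategory.Q.obj ((kos (gList a)).obj (restrCx L V)))) :
    IsZero (DerivedCategory.Q.obj
      ((kos (gList (O := O.over U) (V := Over.mk g) a)).obj
        (restrCx (restrCx L U) (Over.mk g)))) := by
  rw [isZero_Q_iff]
  refine acyclic_of_overSec fun X => ?_
  rw [← isZero_Q_iff]
  let X' : Over V := Over.mk X.hom.left
  let G := overSec (O := O) V X'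
  let F : ModSite.Mod ((O.over U).over (Over.mk g)) ⥤ ModuleCat.{u} (O.obj.obj (op X'.left)) :=
    overSec (O := O.over U) (Over.mk g) X
  haveI : F.Additive := inferInstanceAs (overSec (O := O.over U) (Over.mk g) X).Additive
  let l' : List (O.obj.obj (op X'.left)) :=
    List.ofFn fun j => gVal (O := O.over U) (Over.mk g) X (DerComp.GSec.ofSect (O.over U) (Over.mk g) (a j))
  have hrel : List.Forall₂ (fun (t : DerComp.GSec (O.over V)) (t' : O.obj.obj (op X'.left)) =>
      ∀ M, G.map (t • 𝟙 M) = t' • 𝟙 (G.obj M)) (gList a) l' := by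
    refine List.forall₂_iff_get.2 ⟨by simp [l'], fun k h₁ h₂ M => ?_⟩
    simp only [List.get_eq_getElem, List.getElem_ofFn, l']
    exact overSec_smul V X' M _
  obtain ⟨eG⟩ := nonempty_iso_map_kos' G _ l' hrel (restrCx L V)
  let v : DerComp.GSec ((O.over U).over (Over.mk g)) → O.obj.obj (op X'.left) :=
    gVal (O := O.over U) (Over.mk g) X
  obtain ⟨eF⟩ := nonempty_iso_map_kos F v
    (fun M s => overSec_smul (O := O.over U) (Over.mk g) X M s) (gList (O := O.over U) (V := Over.mk g) a)
    (restrCx (restrCx L U) (Over.mk g))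
  refine IsZero.of_iso ?_ (DerivedCategory.Q.mapIso eF)
  rw [List.map_ofFn]
  haveI : (restrCx L V).IsKInjective := isKInjective_map_of_adj (ModSite.extZeroAdj O V) L
  haveI := isKInjective_kos (gList a) (restrCx L V)
  let e : (G.mapHomologicalComplex (ComplexShape.up ℤ)).obj (restrCx L V) ≅
      (F.mapHomologicalComplex (ComplexShape.up ℤ)).obj (restrCx (restrCx L U) (Over.mk g)) :=
    HomologicalComplex.Hom.isoOfComponents (fun i => Iso.refl _) (fun i j _ => by
      ext x
      rfl)
  exact isZero_kos_congr (A := ModuleCat.{u} (O.obj.obj (op X'.left))) l' (DerivedCategory.Q.mapIso e)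
    (IsZero.of_iso ((isZero_Q_iff _).2 (acyclic_map_of_kInj G ((isZero_Q_iff _).1 h)))
      (DerivedCategory.Q.mapIso eG).symm)

/-- Koszul vanishing passes to restrictions. -/
theorem kz_restr {E : DerivedCategory (ModSite.Mod O)} (h : KZ a E) :
    KZ (O := O.over U) (V := Over.mk g) a ((restrD U).obj E) := by
  obtain ⟨L, hL, -, ⟨e⟩⟩ := exists_kInj_rep E
  exact kz_of_isZero (O := O.over U) (V := Over.mk g) a (restrCx (restrCx L U) (Over.mk g))
    ((restrD (O := O.over U) (Over.mk g)).mapIso ((restrD U).mapIso e ≪≫ restrDQ U L) ≪≫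
      restrDQ (O := O.over U) _ _)
    (isZero_kos_restr g a L (h.isZero a (restrCx L V) ((restrD V).mapIso e ≪≫ restrDQ V L)))

/-- Local spans restrict. -/
theorem locallyInSpan_restr {W : Over U} {f : O.obj.obj (op W.left)} (h : LocallyInSpan a f) :
    LocallyInSpan (O := O.over U) (V := Over.mk g) a (W := W) f := fun X k q => by
  obtain ⟨R, hR, hm⟩ := h k.left q.left
  refine ⟨(Sieve.overEquiv X).symm R, ?_, fun Z m hk => hm m.left ((Sieve.overEquiv_symm_iff R m).1 hk)⟩
  rw [GrothendieckTopology.mem_over_iff]
  exact ((Sieve.overEquiv X).apply_symm_apply R).symm ▸ hR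

end Groth.Agent.DerCompLib
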