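import Groth.Agent.DerCompLib.Locality
import Mathlib.Algebra.Category.ModuleCat.Presheaf.Free

/-!
# Free sheaves of modules on families of objects of a site

`IsFreeOn M V x`: maps out of `M` are families of sections over the `V e`, through the generators
`x e`. Sections of such a module are locally finite combinations of the translates of the
generators (`exists_local_nodeEval`), uniquely locally (`nodeEval_eq_zero_local`).
-/

set_option autoImplicit false
set_option backward.isDefEq.respectTransparency false

universe u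

open CategoryTheory CategoryTheory.Limits Opposite

attribute [local instance] HasDerivedCategory.standard

namespace Groth.Agent.DerCompLib

variable {C : Type u} [SmallCategory C] {J : GrothendieckTopology C} {O : Sheaf J CommRingCat.{u}}
  {ι : Type u} (V : ι → C)

/-- A translate of a generator over `X`. -/
abbrev Node (X : C) : Type u := Σ e : ι, (X ⟶ V e)

/-- Restriction of translates. -/
def nodeRes {X W : C} (g : W ⟶ X) (n : Node V X) : Node V W := ⟨n.1, g ≫ n.2⟩

/-- The presheaf of translates. -/
def nodePre : Cᵒᵖ ⥤ Type u where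
  obj X := Node V X.unop
  map g := ↾(nodeRes V g.unop)
  map_id X := by ext n <;> simp [nodeRes]
  map_comp g h := by ext n <;> simp [nodeRes]

variable {V}

/-- The combination of translates with given coefficients. -/
noncomputable def nodeEval {M : ModSite.Mod O} (x : ∀ e, Sec M (V e)) (X : C) :
    (Node V X →₀ O.obj.obj (op X)) →ₗ[O.obj.obj (op X)] Sec M X :=
  Finsupp.linearCombination _ fun n => secRes M n.2 (x n.1)

lemma nodeEval_single {M : ModSite.Mod O} (x : ∀ e, Sec M (V e)) (X : C) (n : Node V X)
    (r : O.obj.obj (op X)) : nodeEval x X (Finsupp.single n r) = r • secRes M n.2 (x n.1) :=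
  Finsupp.linearCombination_single _ _ _

variable (V O) in
/-- Restriction of coefficient families. -/
noncomputable def coeffRes {X W : C} (g : W ⟶ X) :
    (Node V X →₀ O.obj.obj (op X)) →+ (Node V W →₀ O.obj.obj (op W)) :=
  (Finsupp.mapDomain.addMonoidHom (nodeRes V g)).comp
    (Finsupp.mapRange.addMonoidHom (O.obj.map g.op).hom.toAddMonoidHom)

lemma coeffRes_single {X W : C} (g : W ⟶ X) (n : Node V X) (r : O.obj.obj (op X)) :
    coeffRes O V g (Finsupp.single n r) =
      Finsupp.single (nodeRes V g n) ((O.obj.map g.op).hom r) := by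
  simp [coeffRes]

lemma secRes_comp (M : ModSite.Mod O) {X Y W : C} (g : W ⟶ Y) (h : Y ⟶ X) (a : Sec M X) :
    secRes M g (secRes M h a) = secRes M (g ≫ h) a :=
  (M.val.map_comp_apply h.op g.op a).symm

lemma secRes_id (M : ModSite.Mod O) {X : C} (a : Sec M X) : secRes M (𝟙 X) a = a :=
  LinearMap.congr_fun (congrArg ModuleCat.Hom.hom (M.val.map_id (op X))) a

lemma secRes_nodeEval {M : ModSite.Mod O} (x : ∀ e, Sec M (V e)) {X W : C} (g : W ⟶ X)
    (c : Node V X →₀ O.obj.obj (op X)) :
    secRes M g (nodeEval x X c) = nodeEval x W (coeffRes O V g c) := by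
  induction c using Finsupp.induction_linear with
  | zero => simp
  | add a b ha hb => simp only [map_add, ha, hb]
  | single n r =>
    rw [coeffRes_single, nodeEval_single, nodeEval_single, secRes_smul, secRes_comp]
    rfl

lemma secMap_nodeEval {M N : ModSite.Mod O} (φ : M ⟶ N) (x : ∀ e, Sec M (V e)) (X : C)
    (c : Node V X →₀ O.obj.obj (op X)) :
    secMap φ X (nodeEval x X c) = nodeEval (fun e => secMap φ (V e) (x e)) X c := by
  induction c using Finsupp.induction_linear with
  | zero => simp
  | add a b ha hb => simp only [map_add, ha, hb]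
  | single n r => rw [nodeEval_single, nodeEval_single, map_smul, secMap_secRes]

/-- `M` is free on the generators `x e ∈ M(V e)`. -/
def IsFreeOn (M : ModSite.Mod O) (x : ∀ e, Sec M (V e)) : Prop :=
  ∀ N : ModSite.Mod O, Function.Bijective fun (φ : M ⟶ N) (e : ι) => secMap φ (V e) (x e)

variable (O V)

/-- The free sheaf on a family of objects. -/
noncomputable def frS : ModSite.Mod O :=
  (ModSite.sheafify O).obj (PresheafOfModules.freeObj (R := (ModSite.ringSh O).obj) (nodePre V))

/-- The adjunction used for `frS`. -/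
noncomputable abbrev shAdj :=
  PresheafOfModules.sheafificationAdjunction.{u} (𝟙 (ModSite.ringSh O).obj)

/-- The unit of `frS`, on sections. -/
noncomputable def frUnit (X : C) :
    (Node V X →₀ O.obj.obj (op X)) →ₗ[O.obj.obj (op X)] Sec (frS O V) X :=
  (((shAdj O).unit.app (PresheafOfModules.freeObj (R := (ModSite.ringSh O).obj) (nodePre V))).app
    (op X)).hom

/-- The generators of `frS`. -/
noncomputable def frGen (e : ι) : Sec (frS O V) (V e) :=
  frUnit O V (V e) (Finsupp.single ⟨e, 𝟙 _⟩ 1)

variable {O V}

lemma frUnit_coeffRes {X W : C} (g : W ⟶ X) (n : Node V X) :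
    secRes (frS O V) g (frUnit O V X (Finsupp.single n 1)) =
      frUnit O V W (Finsupp.single (nodeRes V g n) 1) := by
  refine (PresheafOfModules.naturality_apply ((shAdj O).unit.app
    (PresheafOfModules.freeObj (R := (ModSite.ringSh O).obj) (nodePre V))) g.op _).symm.trans ?_
  refine congrArg (frUnit O V W) ?_
  exact ModuleCat.freeDesc_apply _ _

lemma frUnit_eq_nodeEval (X : C) (c : Node V X →₀ O.obj.obj (op X)) :
    frUnit O V X c = nodeEval (frGen O V) X c := by
  induction c using Finsupp.induction_linear with
  | zero => simp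
  | add a b ha hb => simp only [map_add, ha, hb]
  | single n r =>
    rw [nodeEval_single, frGen, frUnit_coeffRes, ← map_smul, Finsupp.smul_single, smul_eq_mul,
      mul_one]
    rw [show nodeRes V n.2 ⟨n.1, 𝟙 _⟩ = n from Sigma.ext rfl (heq_of_eq (Category.comp_id _))]

variable (O V)

theorem isFreeOn_frS : IsFreeOn (frS O V) (frGen O V) := by
  intro N
  let e₁ := ((shAdj O).homEquiv
    (PresheafOfModules.freeObj (R := (ModSite.ringSh O).obj) (nodePre V)) N).trans
      PresheafOfModules.freeHomEquiv
  let e₂ : (nodePre V ⟶ ((SheafOfModules.forget (ModSite.ringSh O) ⋙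
        PresheafOfModules.restrictScalars (𝟙 (ModSite.ringSh O).obj)).obj N).presheaf ⋙
        forget _) ≃ (∀ e, Sec N (V e)) :=
    { toFun := fun α e => α.app (op (V e)) ⟨e, 𝟙 _⟩
      invFun := fun y =>
        { app := fun X => ↾fun n : Node V X.unop => secRes N n.2 (y n.1)
          naturality := fun {X W} g => by
            ext n
            exact (secRes_comp N g.unop n.2 (y n.1)).symm }
      left_inv := fun α => by
        ext X n
        have h := ConcreteCategory.congr_hom (α.naturality n.2.op)
          (⟨n.1, 𝟙 _⟩ : Node V (V n.1))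
        refine h.symm.trans ?_
        exact congrArg (α.app X) (Sigma.ext rfl (heq_of_eq (Category.comp_id _)))
      right_inv := fun y => funext fun e => secRes_id N (y e) }
  exact (e₁.trans e₂).bijective

variable {O V}
variable {M : ModSite.Mod O} {x : ∀ e, Sec M (V e)}

lemma IsFreeOn.exists_iso_frS (hM : IsFreeOn M x) :
    ∃ φ : frS O V ⟶ M, IsIso φ ∧ ∀ e, secMap φ (V e) (frGen O V e) = x e := by
  obtain ⟨φ, hφ⟩ := (isFreeOn_frS O V M).2 x
  obtain ⟨ψ, hψ⟩ := (hM (frS O V)).2 (frGen O V)
  refine ⟨φ, ⟨ψ, (isFreeOn_frS O V (frS O V)).1 ?_, (hM M).1 ?_⟩, congrFun hφ⟩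
  · funext e
    exact (congrArg (secMap ψ (V e)) (congrFun hφ e)).trans (congrFun hψ e)
  · funext e
    exact (congrArg (secMap φ (V e)) (congrFun hψ e)).trans (congrFun hφ e)

lemma IsFreeOn.hom_ext (hM : IsFreeOn M x) {N : ModSite.Mod O} {φ ψ : M ⟶ N}
    (h : ∀ e, secMap φ (V e) (x e) = secMap ψ (V e) (x e)) : φ = ψ :=
  (hM N).1 (funext h)

lemma coeffRes_eq_map {X W : C} (g : W ⟶ X) (c : Node V X →₀ O.obj.obj (op X)) :
    coeffRes O V g c =
      ((PresheafOfModules.freeObj (R := (ModSite.ringSh O).obj) (nodePre V)).map g.op).hom c := by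
  induction c using Finsupp.induction_linear with
  | zero => exact (map_zero _).trans (map_zero _).symm
  | add a b ha hb =>
    rw [map_add, ha, hb]
    exact (map_add ((PresheafOfModules.freeObj (R := (ModSite.ringSh O).obj)
      (nodePre V)).map g.op).hom a b).symm
  | single n r =>
    rw [coeffRes_single]
    refine Eq.symm ?_
    refine (congrArg ((PresheafOfModules.freeObj (R := (ModSite.ringSh O).obj)
      (nodePre V)).map g.op).hom (Finsupp.smul_single_one n r).symm).trans ?_
    refine ((PresheafOfModules.freeObj (R := (ModSite.ringSh O).obj) (nodePre V)).map_smul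
      g.op r (Finsupp.single n 1)).trans ?_
    refine (congrArg _ (ModuleCat.freeDesc_apply _ _)).trans ?_
    exact Finsupp.smul_single_one _ _

/-- Sections are locally combinations of translates of the generators. -/
theorem IsFreeOn.exists_local_nodeEval (hM : IsFreeOn M x) {X : C} (a : Sec M X) :
    ∃ R ∈ J X, ∀ ⦃W : C⦄ (g : W ⟶ X), R g →
      ∃ c : Node V W →₀ O.obj.obj (op W), nodeEval x W c = secRes M g a := by
  obtain ⟨φ, hφ, hgen⟩ := hM.exists_iso_frS
  let a₀ := secMap (inv φ) X a
  haveI : Presheaf.IsLocallySurjective J ((PresheafOfModules.toPresheaf _).map ((shAdj O).unit.app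
      (PresheafOfModules.freeObj (R := (ModSite.ringSh O).obj) (nodePre V)))) := by
    rw [PresheafOfModules.toPresheaf_map_sheafificationAdjunction_unit_app]
    exact ((J.W_iff_isLocallyBijective _).1 (J.W_toSheafify _)).2
  have h := Presheaf.imageSieve_mem J ((PresheafOfModules.toPresheaf _).map ((shAdj O).unit.app
    (PresheafOfModules.freeObj (R := (ModSite.ringSh O).obj) (nodePre V)))) a₀
  refine ⟨_, h, fun W g hg => ?_⟩
  obtain ⟨c, hc⟩ := hg
  refine ⟨c, ?_⟩
  have hc' : frUnit O V W c = secRes (frS O V) g a₀ := hc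
  rw [frUnit_eq_nodeEval] at hc'
  have := congrArg (secMap φ W) hc'
  rw [secMap_nodeEval, secMap_secRes, ← secMap_comp, IsIso.inv_hom_id] at this
  simp only [hgen] at this
  exact this

/-- A vanishing combination of translates vanishes locally as a family of coefficients. -/
theorem IsFreeOn.nodeEval_eq_zero_local (hM : IsFreeOn M x) {X : C}
    (c : Node V X →₀ O.obj.obj (op X)) (hc : nodeEval x X c = 0) :
    ∃ R ∈ J X, ∀ ⦃W : C⦄ (g : W ⟶ X), R g → coeffRes O V g c = 0 := by
  obtain ⟨φ, hφ, hgen⟩ := hM.exists_iso_frS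
  have h0 : frUnit O V X c = 0 := by
    rw [frUnit_eq_nodeEval]
    have : secMap φ X (nodeEval (frGen O V) X c) = 0 := by
      rw [secMap_nodeEval]
      simp only [hgen, hc]
    have := congrArg (secMap (inv φ) X) this
    rwa [map_zero, ← secMap_comp, IsIso.hom_inv_id] at this
  haveI : Presheaf.IsLocallyInjective J ((PresheafOfModules.toPresheaf _).map ((shAdj O).unit.app
      (PresheafOfModules.freeObj (R := (ModSite.ringSh O).obj) (nodePre V)))) := by
    rw [PresheafOfModules.toPresheaf_map_sheafificationAdjunction_unit_app]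
    exact ((J.W_iff_isLocallyBijective _).1 (J.W_toSheafify _)).1
  refine ⟨_, Presheaf.equalizerSieve_mem J
    ((PresheafOfModules.toPresheaf _).map ((shAdj O).unit.app
      (PresheafOfModules.freeObj (R := (ModSite.ringSh O).obj) (nodePre V))))
    (X := op X) c 0 (h0.trans (frUnit O V X).map_zero.symm), fun W g hg => ?_⟩
  refine ((coeffRes_eq_map g c).trans hg).trans ?_
  exact map_zero ((PresheafOfModules.freeObj (R := (ModSite.ringSh O).obj) (nodePre V)).map g.op).hom

variable (O V)

/-- A sum of the `j_{U!} O_U` is free on the tautological sections. -/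
theorem isFreeOn_sigma_freeOn :
    IsFreeOn (∐ fun e => ModSite.freeOn O (V e))
      (fun e => secEquiv (V e) _ (Sigma.ι (fun e => ModSite.freeOn O (V e)) e)) := by
  intro N
  refine ⟨fun φ ψ h => Sigma.hom_ext _ _ fun e => (secEquiv (V e) N).injective ?_, fun y => ?_⟩
  · rw [secEquiv_comp, secEquiv_comp]
    exact congrFun h e
  · refine ⟨Sigma.desc fun e => (secEquiv (V e) N).symm (y e), funext fun e => ?_⟩
    refine (secEquiv_comp (V e) _ _).symm.trans ?_
    rw [Sigma.ι_desc, AddEquiv.apply_symm_apply]

end Groth.Agent.DerCompLib
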