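import Groth.Agent.DerCompLib.KoszulPre
import Groth.Agent.DerCompLib.SiteFree
import Groth.Agent.DerCompLib.RestrAdj
import Mathlib.RingTheory.Finiteness.Ideal

/-!
# The iterated cone of a test object vanishes

If `f ∈ O(W)` is locally in the span of `a` over `V`, the cone along `a` of the restriction to
`C/V` of `j_{W!} O_{W,f}` vanishes.
-/

set_option autoImplicit false
set_option backward.isDefEq.respectTransparency false

universe u

open CategoryTheory CategoryTheory.Limits Opposite

attribute [local instance] HasDerivedCategory.standard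

namespace Groth.Agent.DerCompLib

section Diag

variable {R : Type u} [CommRing R] {T : Type u}

/-- A diagonal endomorphism of a free module. -/
noncomputable def diagEnd (b : T → R) : (T →₀ R) →ₗ[R] (T →₀ R) :=
  Finsupp.lsum R fun t => b t • Finsupp.lsingle t

lemma diagEnd_single (b : T → R) (t : T) (c : R) :
    diagEnd b (Finsupp.single t c) = Finsupp.single t (b t * c) := by
  simp [diagEnd, Finsupp.smul_single, mul_comm]

lemma diagEnd_mul (b c : T → R) : diagEnd b ∘ₗ diagEnd c = diagEnd fun t => b t * c t :=
  Finsupp.lhom_ext fun t r => by simp [diagEnd_single, mul_assoc]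

lemma diagEnd_one : diagEnd (fun _ : T => (1 : R)) = LinearMap.id :=
  Finsupp.lhom_ext fun t r => by simp [diagEnd_single]

end Diag

variable {C : Type u} [SmallCategory C] {J : GrothendieckTopology C} {O : Sheaf J CommRingCat.{u}}

/-- The span of restrictions of `a` over `X → V`. -/
noncomputable abbrev resSpan {V X : C} {r : ℕ} (a : Fin r → O.obj.obj (op V)) (h : X ⟶ V) :
    Ideal (O.obj.obj (op X)) :=
  Ideal.span (Set.range fun j => (O.obj.map h.op).hom (a j))

lemma res_mem_resSpan {V X Y : C} {r : ℕ} (a : Fin r → O.obj.obj (op V)) (h : X ⟶ V) (k : Y ⟶ X)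
    {z : O.obj.obj (op X)} (hz : z ∈ resSpan a h) :
    (O.obj.map k.op).hom z ∈ resSpan a (k ≫ h) := by
  have := Ideal.mem_map_of_mem (O.obj.map k.op).hom hz
  rw [resSpan, Ideal.map_span, ← Set.range_comp] at this
  convert this using 3
  funext j
  simp [Function.comp_def]

/-- `f` is locally in the span of `a` over objects over `V`. -/
def LocallyInSpan {V W : C} {r : ℕ} (a : Fin r → O.obj.obj (op V)) (f : O.obj.obj (op W)) : Prop :=
  ∀ ⦃X : C⦄ (h : X ⟶ V) (g : X ⟶ W), ∃ R ∈ J X, ∀ ⦃Y : C⦄ (k : Y ⟶ X), R k →
    (O.obj.map (k ≫ g).op).hom f ∈ resSpan a (k ≫ h)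

variable {V W : C} {r : ℕ} (a : Fin r → O.obj.obj (op V)) (f : O.obj.obj (op W))

/-- Arrows to `W` along which `f` lies in the span. -/
def spanPre : (Over V)ᵒᵖ ⥤ Type u where
  obj X := {g : X.unop.left ⟶ W // (O.obj.map g.op).hom f ∈ resSpan a X.unop.hom}
  map {X Y} k := ↾fun g => ⟨k.unop.left ≫ g.1, by
    have := res_mem_resSpan a X.unop.hom k.unop.left g.2
    rw [Over.w k.unop] at this
    simpa using this⟩
  map_id X := by ext g; simp
  map_comp k k' := by ext g; simp

/-- The free presheaf on `spanPre`. -/
noncomputable abbrev spanFree : PreMod (O.over V) :=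
  PresheafOfModules.freeObj (R := (ModSite.ringSh (O.over V)).obj) (spanPre a f)

/-- Multiplication by the coefficient of `f`. -/
noncomputable def spanEnd : spanFree a f ⟶ spanFree a f :=
  PresheafOfModules.freeObjDesc
    { app := fun X => ↾fun g => (show (O.over V).obj.obj X from (O.obj.map g.1.op).hom f) •
        (ModuleCat.freeMk g : (spanFree a f).obj X)
      naturality := fun {X Y} k => by
        ext g
        change (show (O.over V).obj.obj Y from (O.obj.map ((spanPre a f).map k g).1.op).hom f) •
            (ModuleCat.freeMk ((spanPre a f).map k g) : (spanFree a f).obj Y) =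
          ((spanFree a f).map k).hom
            ((show (O.over V).obj.obj X from (O.obj.map g.1.op).hom f) •
              (ModuleCat.freeMk g : (spanFree a f).obj X))
        refine Eq.symm (((spanFree a f).map_smul k _ _).trans ?_)
        refine (congrArg (_ • ·) (ModuleCat.freeDesc_apply _ _)).trans ?_
        congr 1
        change (O.obj.map k.unop.left.op).hom ((O.obj.map g.1.op).hom f) =
          (O.obj.map (k.unop.left ≫ g.1).op).hom f
        simp }

lemma spanEnd_app (X : (Over V)ᵒᵖ) :
    ((evX (O.over V) X).map (spanEnd a f)).hom =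
      diagEnd fun g : (spanPre a f).obj X =>
        (show (O.over V).obj.obj X from (O.obj.map g.1.op).hom f) := by
  have h1 : ∀ g : (spanPre a f).obj X, ((spanEnd a f).app X).hom (Finsupp.single g 1) =
      Finsupp.single g (show (O.over V).obj.obj X from (O.obj.map g.1.op).hom f) := fun g =>
    (ModuleCat.freeDesc_apply _ g).trans (Finsupp.smul_single_one g _)
  let R := (O.over V).obj.obj X
  let L : ((spanPre a f).obj X →₀ R) →ₗ[R] ((spanPre a f).obj X →₀ R) :=
    ((evX (O.over V) X).map (spanEnd a f)).hom
  have h2 : ∀ g : (spanPre a f).obj X, L (Finsupp.single g (1 : R)) =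
      Finsupp.single g (show R from (O.obj.map g.1.op).hom f) := h1
  change L = _
  refine Finsupp.lhom_ext fun g t => ?_
  rw [← Finsupp.smul_single_one g t, map_smul, h2, map_smul, diagEnd_single, mul_one]

/-- The generator of `j_{W!} O_W`. -/
noncomputable abbrev freeGen (W : C) : Sec (ModSite.freeOn O W) W :=
  secEquiv W _ (𝟙 (ModSite.freeOn O W))

lemma isFreeOn_freeGen (W : C) :
    IsFreeOn (O := O) (V := fun _ : PUnit.{u + 1} => W) (ModSite.freeOn O W)
      (fun _ => freeGen W) := by
  intro N
  have e : (fun (φ : ModSite.freeOn O W ⟶ N) (_ : PUnit.{u + 1}) => secMap φ W (freeGen W)) =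
      (fun x _ => x) ∘ secEquiv W N := by
    funext φ _
    exact (secEquiv_comp W (𝟙 _) φ).symm.trans (congrArg (secEquiv W N) (Category.id_comp φ))
  rw [e]
  refine Function.Bijective.comp ⟨fun x y h => congrFun h PUnit.unit, fun y => ⟨y PUnit.unit, ?_⟩⟩
    (secEquiv W N).bijective
  funext _
  rfl

variable [(ModSite.restr O V).Additive]

/-- The comparison with the restriction of `j_{W!} O_W`. -/
noncomputable def spanToRestr :
    spanFree a f ⟶ ((ModSite.restr O V).obj (ModSite.freeOn O W)).val :=
  PresheafOfModules.freeObjDesc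
    { app := fun X => ↾fun g => secRes (ModSite.freeOn O W) g.1 (freeGen W)
      naturality := fun {X Y} k => by
        ext g
        exact (secRes_comp (ModSite.freeOn O W) k.unop.left g.1 (freeGen W)).symm }

lemma spanToRestr_apply (X : (Over V)ᵒᵖ) (c : (spanPre a f).obj X →₀ (O.over V).obj.obj X) :
    ((spanToRestr a f).app X).hom c =
      nodeEval (O := O) (V := fun _ : PUnit.{u + 1} => W) (fun _ => freeGen W) X.unop.left
        (Finsupp.mapDomain (fun g => (⟨PUnit.unit, g.1⟩ :
          Node (fun _ : PUnit.{u + 1} => W) X.unop.left)) c) := by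
  induction c using Finsupp.induction_linear with
  | zero => rw [Finsupp.mapDomain_zero]; exact (map_zero _).trans (map_zero _).symm
  | add x y hx hy =>
    refine (((spanToRestr a f).app X).hom.map_add x y).trans ((congrArg₂ (· + ·) hx hy).trans ?_)
    rw [Finsupp.mapDomain_add]
    exact (map_add _ _ _).symm
  | single g c =>
    rw [Finsupp.mapDomain_single, nodeEval_single]
    refine (congrArg ((spanToRestr a f).app X).hom (Finsupp.smul_single_one g c).symm).trans ?_
    refine (((spanToRestr a f).app X).hom.map_smul c (Finsupp.single g 1)).trans ?_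
    exact congrArg (c • ·) (ModuleCat.freeDesc_apply _ g)

/-- The map of abelian presheaves under `spanToRestr`. -/
noncomputable abbrev spanMapAb :=
  (PresheafOfModules.toPresheaf (ModSite.ringSh (O.over V)).obj).map (spanToRestr a f)

lemma isLocallySurjective_spanMapAb (hf : LocallyInSpan a f) :
    Presheaf.IsLocallySurjective (J.over V) (spanMapAb a f) := by
  classical
  refine ⟨fun {X} x => ?_⟩
  obtain ⟨R, hR, hc⟩ := (isFreeOn_freeGen W).exists_local_nodeEval (X := X.left) x
  refine (J.over V).transitive
    ((GrothendieckTopology.mem_over_iff (J := J) ((Sieve.overEquiv X).symm R)).2 (by simpa using hR))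
    _ fun Y k hk => ?_
  rw [Sieve.overEquiv_symm_iff] at hk
  obtain ⟨c, hc⟩ := hc k.left hk
  choose R' hR' hmem using fun n : Node (fun _ : PUnit.{u + 1} => W) Y.left => hf Y.hom n.2
  have hcov : (c.support.inf fun n => (R' n : Sieve Y.left)) ∈ J Y.left := by
    refine Finset.inf_induction (p := fun S : Sieve Y.left => S ∈ J Y.left) (J.top_mem _) ?_
      fun n _ => hR' n
    exact fun S hS S' hS' => J.intersection_covering hS hS'
  refine (J.over V).superset_covering ?_
    ((GrothendieckTopology.mem_over_iff (J := J) ((Sieve.overEquiv Y).symm _)).2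
      (by simpa using hcov))
  intro Z k' hk'
  rw [Sieve.overEquiv_symm_iff] at hk'
  have hs : ∀ n ∈ c.support,
      (O.obj.map (k'.left ≫ n.2).op).hom f ∈ resSpan a Z.hom := fun n hn => by
    have := hmem n k'.left ((Finset.inf_le (f := fun n => (R' n : Sieve Y.left)) hn) _ hk')
    rwa [Over.w k'] at this
  let lift : c.support → (spanPre a f).obj (op Z) := fun n => ⟨k'.left ≫ n.1.2, hs n.1 n.2⟩
  refine ⟨∑ n : c.support, Finsupp.single (lift n) ((O.obj.map k'.left.op).hom (c n.1)), ?_⟩
  change ((spanToRestr a f).app (op Z)).hom _ = secRes (ModSite.freeOn O W) (k' ≫ k).left x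
  rw [Over.comp_left, ← secRes_comp, ← hc, secRes_nodeEval, spanToRestr_apply]
  refine congrArg _ ?_
  rw [Finsupp.mapDomain_finsetSum]
  conv_rhs => rw [← Finsupp.sum_single c, Finsupp.sum, map_sum, ← Finset.sum_attach]
  refine Finset.sum_congr rfl fun n _ => ?_
  rw [Finsupp.mapDomain_single, coeffRes_single]
  rfl

lemma isLocallyInjective_spanMapAb :
    Presheaf.IsLocallyInjective (J.over V) (spanMapAb a f) := by
  refine ⟨fun {X} (x y : (spanPre a f).obj X →₀ (O.over V).obj.obj X) h => ?_⟩
  let ι : (spanPre a f).obj X → Node (fun _ : PUnit.{u + 1} => W) X.unop.left := fun g =>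
    ⟨PUnit.unit, g.1⟩
  let d : (spanPre a f).obj X →₀ (O.over V).obj.obj X := x - y
  have h0 : nodeEval (O := O) (fun _ => freeGen W) X.unop.left (Finsupp.mapDomain ι d) = 0 := by
    rw [← spanToRestr_apply a f X d]
    refine (((spanToRestr a f).app X).hom.map_sub x y).trans ?_
    exact sub_eq_zero.2 h
  obtain ⟨R, hR, hz⟩ := (isFreeOn_freeGen W).nodeEval_eq_zero_local _ h0
  refine (J.over V).superset_covering ?_
    ((GrothendieckTopology.mem_over_iff (J := J) ((Sieve.overEquiv X.unop).symm R)).2
      (by simpa using hR))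
  intro Z k hk
  rw [Sieve.overEquiv_symm_iff] at hk
  have e : ∀ c : (spanPre a f).obj X →₀ (O.over V).obj.obj X,
      Finsupp.mapDomain (fun g : (spanPre a f).obj (op Z) => (⟨PUnit.unit, g.1⟩ :
        Node (fun _ : PUnit.{u + 1} => W) Z.left)) (((spanFree a f).map k.op).hom c) =
      coeffRes O (fun _ : PUnit.{u + 1} => W) k.left (Finsupp.mapDomain ι c) := by
    intro c
    induction c using Finsupp.induction_linear with
    | zero =>
      rw [Finsupp.mapDomain_zero, map_zero]
      exact (congrArg _ (((spanFree a f).map k.op).hom.map_zero)).trans Finsupp.mapDomain_zero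
    | add c c' h h' =>
      refine (congrArg _ (((spanFree a f).map k.op).hom.map_add c c')).trans ?_
      refine Finsupp.mapDomain_add.trans ((congrArg₂ (· + ·) h h').trans ?_)
      rw [Finsupp.mapDomain_add]
      exact (map_add _ _ _).symm
    | single g s =>
      rw [Finsupp.mapDomain_single, coeffRes_single]
      have e1 : ((spanFree a f).map k.op).hom (Finsupp.single g s) =
          Finsupp.single ((spanPre a f).map k.op g) ((O.obj.map k.left.op).hom s) := by
        refine (congrArg _ (Finsupp.smul_single_one g s).symm).trans ?_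
        refine ((spanFree a f).map_smul k.op s (Finsupp.single g 1)).trans ?_
        refine (congrArg _ (ModuleCat.freeDesc_apply _ _)).trans ?_
        exact Finsupp.smul_single_one _ _
      refine (congrArg _ e1).trans Finsupp.mapDomain_single
  change ((spanFree a f).map k.op).hom x = ((spanFree a f).map k.op).hom y
  refine sub_eq_zero.1 ((((spanFree a f).map k.op).hom.map_sub x y).symm.trans ?_)
  refine Finsupp.mapDomain_injective (fun g g' hg => ?_) ((e d).trans ((hz k.left hk).trans
    Finsupp.mapDomain_zero.symm))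
  exact Subtype.ext (by simpa using hg)

lemma spanEnd_comm : spanEnd a f ≫ spanToRestr a f =
    spanToRestr a f ≫ ((ModSite.restr O V).map (gEnd W f)).val := by
  refine PresheafOfModules.freeHomEquiv.injective ?_
  ext X g
  change ((spanToRestr a f).app X).hom (((spanEnd a f).app X).hom (ModuleCat.freeMk g)) =
    secMap (gEnd W f) X.unop.left (((spanToRestr a f).app X).hom (ModuleCat.freeMk g))
  refine (congrArg _ (ModuleCat.freeDesc_apply _ g)).trans ?_
  refine (((spanToRestr a f).app X).hom.map_smul _ _).trans ?_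
  refine (congrArg (_ • ·) (ModuleCat.freeDesc_apply _ g)).trans ?_
  refine Eq.trans ?_ (congrArg (secMap (gEnd W f) X.unop.left) (ModuleCat.freeDesc_apply _ g)).symm
  refine Eq.trans ?_ (secMap_secRes (gEnd W f) g.1 (freeGen W)).symm
  rw [← secEquiv_comp, Category.id_comp, ← Category.comp_id (gEnd W f), secEquiv_gEnd,
    secRes_smul]
  rfl

omit [(ModSite.restr O V).Additive] in
lemma isZero_kos_evX_tok (X : (Over V)ᵒᵖ) :
    IsZero (DerivedCategory.Q.obj ((kos (List.ofFn fun j =>
      ((DerComp.GSec.ofSect O V (a j)).1 X.unop : (O.over V).obj.obj X))).obj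
      ((HomologicalComplex.single (ModuleCat.{u} ((O.over V).obj.obj X)) (ComplexShape.up ℤ) 0).obj
        (tok ((evX (O.over V) X).map (spanEnd a f)))))) := by
  classical
  let R := (O.over V).obj.obj X
  let b : Fin r → R := fun j => (DerComp.GSec.ofSect O V (a j)).1 X.unop
  let A := ModuleCat.{u} R
  -- the elements killing all iterated cones
  let K : Ideal R :=
    { carrier := {s | ∀ Z : CochainComplex A ℤ,
        s • 𝟙 (DerivedCategory.Q.obj ((kos (List.ofFn b)).obj Z)) = 0}
      add_mem' := fun {s t} hs ht Z => (add_smul _ _ _).trans (by rw [hs Z, ht Z, add_zero])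
      zero_mem' := fun Z => zero_smul _ _
      smul_mem' := fun t s hs Z => (mul_smul _ _ _).trans (by rw [hs Z, smul_zero]) }
  let S : Ideal R := Ideal.span (Set.range b)
  have hS : S ≤ K.radical := by
    rw [Ideal.span_le]
    rintro _ ⟨j, rfl⟩
    exact exists_pow_smul_kos (List.ofFn b) (b j) (List.mem_ofFn.2 ⟨j, rfl⟩)
  have hfg : S.FG := ⟨Finset.univ.image b, by simp [S]⟩
  obtain ⟨M, hM⟩ := Ideal.exists_pow_le_of_le_radical_of_fg hS hfg
  let T := (spanPre a f).obj X
  let c : T → R := fun g => (O.obj.map g.1.op).hom f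
  have hmem : ∀ g : T, c g ^ M ∈ S ^ M := fun g => Ideal.pow_mem_pow g.2 M
  obtain ⟨s, hs⟩ : ∃ s : Finset R, Ideal.span (s : Set R) = S ^ M := Ideal.FG.pow hfg
  have hco : ∀ g : T, ∃ d : R → R, ∑ z ∈ s, d z * z = c g ^ M := fun g => by
    obtain ⟨d, -, hd⟩ := Submodule.mem_span_finset.1 (hs ▸ hmem g)
    exact ⟨d, hd⟩
  choose d hd using hco
  let G : A := ModuleCat.of R (T →₀ R)
  let φ : G ⟶ G := ModuleCat.ofHom (diagEnd c)
  have main := isZero_kos_tok (A := A) (G := G) (g := φ) (List.ofFn b) s (fun z => z)
    (fun z => ModuleCat.ofHom (diagEnd fun g => d g z))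
    (fun z => ModuleCat.hom_ext ((diagEnd_mul _ _).trans
      (((congrArg diagEnd (funext fun g => mul_comm _ _))).trans (diagEnd_mul _ _).symm)))
    (fun z hz Z => hM (hs ▸ Ideal.subset_span hz) Z) M (ModuleCat.hom_ext (by
      have hp : ∀ m : ℕ, (End.of φ ^ m : End G).hom = diagEnd (fun g : T => c g ^ m) := by
        intro m
        induction m with
        | zero =>
          simp only [pow_zero]
          exact diagEnd_one.symm
        | succ m ih =>
          rw [pow_succ, End.mul_def, ModuleCat.hom_comp, ih]
          exact (diagEnd_mul _ _).trans (congrArg diagEnd (funext fun g => (pow_succ _ _).symm))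
      rw [hp, ModuleCat.hom_sum]
      refine Finsupp.lhom_ext fun g t => ?_
      rw [diagEnd_single, LinearMap.sum_apply]
      rw [← hd g, Finset.sum_mul, Finsupp.single_finsetSum]
      refine Finset.sum_congr rfl fun z _ => ?_
      change _ = z • diagEnd (fun g => d g z) (Finsupp.single g t)
      rw [diagEnd_single, Finsupp.smul_single, smul_eq_mul]
      exact congrArg _ (by ring)))
  have e : (evX (O.over V) X).map (spanEnd a f) = φ := ModuleCat.hom_ext (spanEnd_app a f X)
  rw [e]
  exact main

section TokIso

variable {A : Type*} [Category A] [Abelian A] [HasColimitsOfShape (Discrete ℕ) A]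
  {B : Type*} [Category B] [Abelian B] [HasColimitsOfShape (Discrete ℕ) B]

/-- Colimit preserving functors commute with `tok`. -/
noncomputable def tokMapIso (F : A ⥤ B) [F.Additive] [PreservesColimitsOfShape (Discrete ℕ) F]
    [PreservesFiniteColimits F] {G : A} (g : G ⟶ G) : F.obj (tok g) ≅ tok (F.map g) :=
  PreservesCokernel.iso F _ ≪≫
    cokernel.mapIso _ (telEnd (F.map g))
      (PreservesCoproduct.iso F _) (PreservesCoproduct.iso F _)
      (by
        rw [← cancel_epi (PreservesCoproduct.iso F _).inv,
          Iso.inv_hom_id_assoc, PreservesCoproduct.inv_hom]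
        refine Sigma.hom_ext _ _ fun k => ?_
        rw [ι_comp_sigmaComparison_assoc, ← Functor.map_comp_assoc, telEnd, Sigma.ι_desc,
          telEnd, Sigma.ι_desc, Functor.map_sub, Functor.map_comp, Preadditive.sub_comp,
          Category.assoc, ι_map_coproductIso_hom, ι_map_coproductIso_hom])

/-- `tok` of isomorphic endomorphisms. -/
noncomputable def tokCongr {G G' : A} {g : G ⟶ G} {g' : G' ⟶ G'} (e : G ≅ G')
    (h : g ≫ e.hom = e.hom ≫ g') : tok g ≅ tok g' :=
  cokernel.mapIso _ _ (Sigma.mapIso fun _ => e) (Sigma.mapIso fun _ => e) (by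
    refine Sigma.hom_ext _ _ fun n => ?_
    simp [telEnd, Preadditive.sub_comp, Preadditive.comp_sub, reassoc_of% h])

end TokIso

lemma isIso_homEquiv_symm {P Q : Type*} [Category P] [Category Q] {L : P ⥤ Q} {R : Q ⥤ P}
    (adj : L ⊣ R) [IsIso adj.counit] {X : P} {Y : Q} (g : X ⟶ R.obj Y) [IsIso (L.map g)] :
    IsIso ((adj.homEquiv X Y).symm g) := by
  rw [Adjunction.homEquiv_counit]
  infer_instance

/-- The cone along `a` of the restricted test object of `f` vanishes. -/
theorem isZero_kos_restr_test (hf : LocallyInSpan a f) :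
    IsZero (DerivedCategory.Q.obj ((kos (List.ofFn fun j => DerComp.GSec.ofSect O V (a j))).obj
      ((HomologicalComplex.single (ModSite.Mod (O.over V)) (ComplexShape.up ℤ) 0).obj
        ((ModSite.restr O V).obj ((ModSite.extZero O W).obj (DerComp.awayOver O W f)))))) := by
  let O' := O.over V
  let adj := PresheafOfModules.sheafificationAdjunction.{u} (𝟙 (ModSite.ringSh O').obj)
  haveI : (ModSite.sheafify O').IsLeftAdjoint := adj.isLeftAdjoint
  haveI : (ModSite.sheafify O').Additive := adj.left_adjoint_additive
  haveI : (ModSite.restr O V).IsLeftAdjoint := hasPushOver O V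
  have hW : (J.over V).W (spanMapAb a f) := by
    rw [(J.over V).W_iff_isLocallyBijective]
    exact ⟨isLocallyInjective_spanMapAb a f, isLocallySurjective_spanMapAb a f hf⟩
  let θ : (ModSite.sheafify O').obj (spanFree a f) ⟶ (ModSite.restr O V).obj (ModSite.freeOn O W) :=
    (adj.homEquiv _ _).symm (spanToRestr a f)
  haveI : IsIso θ := by
    haveI h1 : IsIso ((ModSite.sheafify O').map (spanToRestr a f)) := by
      rw [← isIso_iff_of_reflects_iso _ (SheafOfModules.toSheaf.{u} (ModSite.ringSh O'))]
      exact ((J.over V).W_iff _).1 hW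
    haveI : IsIso adj.counit := inferInstance
    exact @isIso_homEquiv_symm _ _ _ _ _ _ adj _ (spanFree a f)
      ((ModSite.restr O V).obj (ModSite.freeOn O W)) (spanToRestr a f) h1
  have hθ : (ModSite.sheafify O').map (spanEnd a f) ≫ θ =
      θ ≫ (ModSite.restr O V).map (gEnd W f) := by
    change (ModSite.sheafify O').map (spanEnd a f) ≫
        (adj.homEquiv _ ((ModSite.restr O V).obj (ModSite.freeOn O W))).symm (spanToRestr a f) =
      (adj.homEquiv _ ((ModSite.restr O V).obj (ModSite.freeOn O W))).symm (spanToRestr a f) ≫ _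
    rw [← Adjunction.homEquiv_naturality_left_symm, ← Adjunction.homEquiv_naturality_right_symm]
    exact congrArg _ (spanEnd_comm a f)
  haveI : ∀ X, PreservesColimitsOfShape (Discrete ℕ) (evX O' X) := fun X =>
    preservesColimitsOfShape_of_equiv (Discrete.equivalence (Equiv.ulift.{u} : ULift.{u} ℕ ≃ ℕ)) _
  let e : (ModSite.sheafify O').obj (tok (spanEnd a f)) ≅
      (ModSite.restr O V).obj ((ModSite.extZero O W).obj (DerComp.awayOver O W f)) :=
    tokMapIso (ModSite.sheafify O') _ ≪≫ tokCongr (asIso θ) hθ ≪≫
      (tokMapIso (ModSite.restr O V) (gEnd W f)).symm ≪≫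
      ((ModSite.restr O V).mapIso (extZeroAwayIso W f)).symm
  refine IsZero.of_iso (isZero_kos_sheafify _ (tok (spanEnd a f)) fun X => ?_)
    (DerivedCategory.Q.mapIso ((kos _).mapIso ((HomologicalComplex.single _ _ 0).mapIso e.symm)))
  rw [List.map_ofFn]
  exact IsZero.of_iso (isZero_kos_evX_tok a f X)
    (DerivedCategory.Q.mapIso ((kos _).mapIso ((HomologicalComplex.single _ _ 0).mapIso
      (tokMapIso (evX O' X) (spanEnd a f)))))

end Groth.Agent.DerCompLib
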