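import Groth.Agent.DerCompLib.Criterion
import Groth.Agent.DerCompLib.ExtZero
import Groth.Agent.DCat.KHomLimits
import Mathlib.CategoryTheory.Abelian.Refinements
import Mathlib.Algebra.Homology.HomologicalComplexLimits
import Mathlib.Algebra.Homology.HomologicalComplexAbelian
import Mathlib.Algebra.Homology.HomologySequence

/-!
# Locality of the ideal of completeness

If `f ∈ O(U)` restricts into `secIdeal L V` on a covering sieve of `U`, then `f ∈ secIdeal L U`
(`L` K-injective with injective terms).
-/

set_option autoImplicit false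
set_option backward.isDefEq.respectTransparency false

universe w v u

open CategoryTheory CategoryTheory.Limits Opposite

attribute [local instance] HasDerivedCategory.standard

namespace Groth.Agent.DerCompLib

section General

variable {A B : Type*} [Category A] [Category B] [Abelian A] [Abelian B]

/-- A right adjoint of an exact functor preserves K-injective complexes. -/
theorem isKInjective_map_of_adj {G : A ⥤ B} {F : B ⥤ A} [G.Additive] [F.Additive]
    [PreservesFiniteLimits G] [PreservesFiniteColimits G] (adj : G ⊣ F)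
    (L : CochainComplex B ℤ) [L.IsKInjective] :
    CochainComplex.IsKInjective ((F.mapHomologicalComplex (ComplexShape.up ℤ)).obj L) where
  nonempty_homotopy_zero {K} f hK := by
    let f' : (G.mapHomologicalComplex (ComplexShape.up ℤ)).obj K ⟶ L :=
      { f := fun n => (adj.homEquiv _ _).symm (f.f n)
        comm' := fun i j _ => by
          change (adj.homEquiv _ _).symm (f.f i) ≫ L.d i j =
            G.map (K.d i j) ≫ (adj.homEquiv _ _).symm (f.f j)
          rw [← Adjunction.homEquiv_naturality_right_symm, ← Adjunction.homEquiv_naturality_left_symm]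
          exact congrArg _ (f.comm i j) }
    obtain ⟨h⟩ := CochainComplex.IsKInjective.nonempty_homotopy_zero f' fun n => (hK n).map G
    let η : K ⟶ (F.mapHomologicalComplex (ComplexShape.up ℤ)).obj
        ((G.mapHomologicalComplex (ComplexShape.up ℤ)).obj K) :=
      { f := fun n => adj.unit.app (K.X n)
        comm' := fun i j _ => (adj.unit.naturality (K.d i j)).symm }
    have e : η ≫ (F.mapHomologicalComplex (ComplexShape.up ℤ)).map f' = f :=
      HomologicalComplex.hom_ext _ _ fun n => by
        change adj.unit.app (K.X n) ≫ F.map ((adj.homEquiv _ _).symm (f.f n)) = f.f n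
        exact (adj.homEquiv_unit (K.X n) (L.X n) _).symm.trans
          ((adj.homEquiv (K.X n) (L.X n)).apply_symm_apply (f.f n))
    exact ⟨((Homotopy.ofEq e.symm).trans ((F.mapHomotopy h).compLeft η)).trans
      (Homotopy.ofEq (by rw [Functor.map_zero, comp_zero]))⟩

omit [Abelian B] in
/-- An epimorphism of complexes with acyclic kernel is a quasi-isomorphism. -/
theorem quasiIso_of_acyclic_kernel {S : ShortComplex (CochainComplex A ℤ)} (hS : S.ShortExact) (h : S.X₁.Acyclic) :
    QuasiIso S.g := by
  have h0 : ∀ i, IsZero (S.X₁.homology i) := fun i => (h i).isZero_homology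
  refine ⟨fun i => ?_⟩
  rw [quasiIsoAt_iff_isIso_homologyMap]
  have hm : Mono (HomologicalComplex.homologyMap S.g i) :=
    (hS.homology_exact₂ i).mono_g ((h0 i).eq_of_src _ _)
  have he : Epi (HomologicalComplex.homologyMap S.g i) := by
    exact (hS.homology_exact₃ i (i + 1) (by simp)).epi_f ((h0 (i + 1)).eq_of_tgt _ _)
  exact isIso_of_mono_of_epi _

omit [Abelian B] in
/-- A quasi-isomorphism between K-injective complexes has a homotopy inverse. -/
theorem exists_homotopyInverse [HasDerivedCategory.{w} A] {L M : CochainComplex A ℤ}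
    [L.IsKInjective] [M.IsKInjective] (T : L ⟶ M) [QuasiIso T] :
    ∃ S : M ⟶ L, Nonempty (Homotopy (T ≫ S) (𝟙 L)) ∧ Nonempty (Homotopy (S ≫ T) (𝟙 M)) := by
  have hb : ∀ (X Y : CochainComplex A ℤ) [Y.IsKInjective], Function.Bijective
      (DerivedCategory.Qh.map : ((HomotopyCategory.quotient A _).obj X ⟶
        (HomotopyCategory.quotient A (ComplexShape.up ℤ)).obj Y) → _) :=
    fun X Y _ => CochainComplex.IsKInjective.Qh_map_bijective _ _
  obtain ⟨S, hS⟩ := DCat.Amplitude.exists_Q_map_eq (hb M L) (inv (DerivedCategory.Q.map T))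
  refine ⟨S, ⟨HomotopyCategory.homotopyOfEq _ _ ?_⟩, ⟨HomotopyCategory.homotopyOfEq _ _ ?_⟩⟩
  · rw [← sub_eq_zero, ← Functor.map_sub]
    refine DCat.Amplitude.quotient_map_eq_zero (hb L L) ?_
    rw [Functor.map_sub, Functor.map_comp, hS, IsIso.hom_inv_id, CategoryTheory.Functor.map_id,
      sub_self]
  · rw [← sub_eq_zero, ← Functor.map_sub]
    refine DCat.Amplitude.quotient_map_eq_zero (hb M M) ?_
    rw [Functor.map_sub, Functor.map_comp, hS, IsIso.inv_hom_id, CategoryTheory.Functor.map_id,
      sub_self]

end General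

variable {C : Type u} [SmallCategory C] {J : GrothendieckTopology C} {O : Sheaf J CommRingCat.{u}}

instance cxHasHomology : CategoryWithHomology (CochainComplex (ModSite.Mod O) ℤ) :=
  categoryWithHomology_of_abelian (C := CochainComplex (ModSite.Mod O) ℤ)

/-- Sections are determined by their restrictions to a covering sieve. -/
theorem sec_ext (M : ModSite.Mod O) {U : C} (S : Sieve U) (hS : S ∈ J U) (x y : Sec M U)
    (h : ∀ ⦃V : C⦄ (g : V ⟶ U), S g → secRes M g x = secRes M g y) : x = y :=
  (((CategoryTheory.isSheaf_iff_isSheaf_of_type _ _).1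
    ((Presheaf.isSheaf_iff_isSheaf_forget J M.val.presheaf (forget AddCommGrpCat.{u})).1
      M.isSheaf)) S hS).isSeparatedFor.ext fun _ g hg => h g hg

set_option maxHeartbeats 800000 in
/-- A complex of sheaves of modules in which cycles are locally boundaries is exact. -/
theorem exact_of_locally (S : ShortComplex (ModSite.Mod O))
    (h : ∀ (V : C) (b : Sec S.X₂ V), secMap S.g V b = 0 →
      ∃ R ∈ J V, ∀ ⦃W : C⦄ (k : W ⟶ V), R k → ∃ a, secMap S.f W a = secRes S.X₂ k b) :
    S.Exact := by
  rw [S.exact_iff_exact_up_to_refinements]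
  intro A x hx
  let ι := Σ W : C, { p : Sec A W × Sec S.X₁ W // secMap S.f W p.2 = secMap x W p.1 }
  let π : (∐ fun q : ι => ModSite.freeOn O q.1) ⟶ A :=
    Sigma.desc fun q => (secEquiv q.1 A).symm q.2.1.1
  refine ⟨_, π, ⟨fun {Z} q q' hq => ?_⟩,
    Sigma.desc fun q => (secEquiv q.1 S.X₁).symm q.2.1.2, Sigma.hom_ext _ _ fun q => ?_⟩
  · rw [← sub_eq_zero] at hq ⊢
    rw [← Preadditive.comp_sub] at hq
    apply SheafOfModules.hom_ext
    apply PresheafOfModules.hom_ext
    intro V
    refine ModuleCat.hom_ext (LinearMap.ext fun (a : Sec A V.unop) => ?_)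
    obtain ⟨R, hR, hRa⟩ := h V.unop (secMap x V.unop a) (by
      rw [← secMap_comp, hx, secMap_zero])
    refine sec_ext Z R hR (secMap (q - q') V.unop a) 0 fun W k hk => ?_
    obtain ⟨b, hb⟩ := hRa k hk
    let p : ι := ⟨W, ⟨(secRes A k a, b), hb.trans (secMap_secRes x k a).symm⟩⟩
    have e := Sigma.ι (fun q : ι => ModSite.freeOn O q.1) p ≫= hq
    rw [comp_zero, ← Category.assoc] at e
    have e' : (secEquiv W A).symm (secRes A k a) ≫ (q - q') = 0 :=
      (congrArg (· ≫ (q - q')) (Sigma.ι_desc _ p).symm).trans e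
    refine (secMap_secRes (q - q') k a).symm.trans (Eq.trans ?_ (secRes Z k).map_zero.symm)
    refine (congrArg (secMap (q - q') W) ((secEquiv W A).apply_symm_apply _).symm).trans ?_
    refine (secEquiv_comp W _ _).symm.trans ?_
    exact (congrArg (secEquiv W Z) e').trans (secEquiv W Z).map_zero
  · rw [Sigma.ι_desc_assoc, Sigma.ι_desc_assoc]
    apply (secEquiv q.1 S.X₂).injective
    rw [secEquiv_comp, secEquiv_comp, AddEquiv.apply_symm_apply, AddEquiv.apply_symm_apply]
    exact q.2.2.symm

/-- A morphism which is surjective on all sections is an epimorphism. -/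
theorem epi_of_surjective_sec {M N : ModSite.Mod O} (q : M ⟶ N)
    (h : ∀ V, Function.Surjective (secMap q V)) : Epi q :=
  ⟨fun {Z} a b hab => by
    apply SheafOfModules.hom_ext
    apply PresheafOfModules.hom_ext
    intro V
    refine ModuleCat.hom_ext (LinearMap.ext fun (y : Sec N V.unop) => ?_)
    obtain ⟨x, rfl⟩ := h V.unop y
    exact congrArg (fun g => secMap g V.unop x) hab⟩

/-- Sections of a product are families of sections. -/
theorem bijective_sec_fan {T : Type w} {I : T → ModSite.Mod O} {c : Fan I} (hc : IsLimit c)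
    (V : C) : Function.Bijective fun (x : Sec c.pt V) (t : T) => secMap (c.proj t) V x := by
  refine ⟨fun x y h => ?_, fun y => ?_⟩
  · apply (secEquiv V c.pt).symm.injective
    refine Fan.IsLimit.hom_ext hc _ _ fun t => (secEquiv V (I t)).injective ?_
    rw [secEquiv_comp, secEquiv_comp, AddEquiv.apply_symm_apply, AddEquiv.apply_symm_apply]
    exact congrFun h t
  · refine ⟨secEquiv V c.pt (Fan.IsLimit.lift hc fun t => (secEquiv V (I t)).symm (y t)),
      funext fun t => ?_⟩
    refine (secEquiv_comp V _ _).symm.trans ?_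
    rw [Fan.IsLimit.fac, AddEquiv.apply_symm_apply]

section Tower

variable {ι : Type} {c : ComplexShape ι}

/-- Multiplication by a global section on a complex. -/
noncomputable def smulCx (s : DerComp.GSec O) (P : HomologicalComplex (ModSite.Mod O) c) :
    P ⟶ P where
  f i := DerComp.smulEnd s (P.X i)
  comm' i j _ := DerComp.smulEnd_comm s (P.d i j)

lemma secMap_smulEnd (s : DerComp.GSec O) (M : ModSite.Mod O) (V : C) (x : Sec M V) :
    secMap (DerComp.smulEnd s M) V x = (s.1 V : O.obj.obj (op V)) • x := rfl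

set_option maxHeartbeats 1600000 in
/-- If a K-injective complex with injective terms is complete for `s` locally on every object, the
telescope of `s` on every complex of sections is acyclic in all degrees. -/
theorem mem_secIdeal_of_locally (s : DerComp.GSec O) (L : CochainComplex (ModSite.Mod O) ℤ)
    [L.IsKInjective] (hL : ∀ i, Injective (L.X i))
    (h : ∀ V : C, ∃ R ∈ J V, ∀ ⦃W : C⦄ (k : W ⟶ V), R k → s.1 W ∈ secIdeal L W) (V : C) :
    s.1 V ∈ secIdeal L V := by
  let I : ℕ → CochainComplex (ModSite.Mod O) ℤ := fun _ => L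
  let P : CochainComplex (ModSite.Mod O) ℤ := ∏ᶜ I
  have hP : P.IsKInjective := DCat.isKInjective_pi (productIsProduct I) fun _ => inferInstance
  let T : P ⟶ P := Pi.lift fun k => Pi.π I k - Pi.π I (k + 1) ≫ smulCx s L
  let seq : ∀ (i : ℤ) (W : C), Sec (P.X i) W → (ℕ → Sec (L.X i) W) :=
    fun i W x k => secMap ((Pi.π I k).f i) W x
  have hseq : ∀ i W, Function.Bijective (seq i W) := fun i W =>
    bijective_sec_fan
      (isLimitFanMkObjOfIsLimit (HomologicalComplex.eval _ _ i) _ (Pi.π I) (productIsProduct I)) W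
  have hseqT : ∀ i W x, seq i W (secMap (T.f i) W x) =
      telMap (Sec (L.X i) W) (s.1 W) (seq i W x) := fun i W x => funext fun k => by
    change secMap ((Pi.π I k).f i) W (secMap (T.f i) W x) = _
    rw [← secMap_comp, ← HomologicalComplex.comp_f, Pi.lift_π]
    rfl
  have hseqd : ∀ i j W x k, seq j W (secMap (P.d i j) W x) k =
      secMap (L.d i j) W (seq i W x k) := fun i j W x k => by
    change secMap ((Pi.π I k).f j) W (secMap (P.d i j) W x) = _
    rw [← secMap_comp, ← (Pi.π I k).comm]
    rfl
  have hTsurj : ∀ i W, Function.Surjective (secMap (T.f i) W) := fun i W y => by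
    haveI := hL i
    obtain ⟨x, hx⟩ := surjective_telMap_sec W (s.1 W) (L.X i) (seq i W y)
    obtain ⟨x, rfl⟩ := (hseq i W).2 x
    exact ⟨x, (hseq i W).1 ((hseqT i W x).trans hx)⟩
  haveI : Epi T := by
    haveI : ∀ i, Epi (T.f i) := fun i => epi_of_surjective_sec _ (hTsurj i)
    exact HomologicalComplex.epi_of_epi_f _ inferInstance
  let S : ShortComplex (CochainComplex (ModSite.Mod O) ℤ) :=
    ShortComplex.mk (kernel.ι T) T (kernel.condition T)
  have hS : S.ShortExact :=
    { exact := ShortComplex.exact_of_f_is_kernel _ (kernelIsKernel T) }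
  have hker : ∀ i W (y : Sec (P.X i) W), secMap (T.f i) W y = 0 →
      ∃ a, secMap ((kernel.ι T).f i) W a = y := by
    intro i W y hy
    have hex : (S.map (HomologicalComplex.eval (ModSite.Mod O) (ComplexShape.up ℤ) i)).Exact :=
      (HomologicalComplex.exact_iff_degreewise_exact S).1 hS.exact i
    haveI : Mono (S.map (HomologicalComplex.eval (ModSite.Mod O) _ i)).f :=
      inferInstanceAs (Mono ((kernel.ι T).f i))
    have h0 : (secEquiv W _).symm y ≫ T.f i = 0 := (secEquiv W _).injective (by
      rw [secEquiv_comp, AddEquiv.apply_symm_apply, map_zero, hy])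
    refine ⟨secEquiv W _ (hex.lift ((secEquiv W _).symm y) h0), ?_⟩
    rw [← secEquiv_comp]
    refine (congrArg (secEquiv W (P.X i)) ?_).trans (AddEquiv.apply_symm_apply _ _)
    exact hex.lift_f _ _
  have hinj : ∀ i W, Function.Injective (secMap ((kernel.ι T).f i) W) := by
    intro i W x y hxy
    apply (secEquiv W _).symm.injective
    rw [← cancel_mono ((kernel.ι T).f i)]
    apply (secEquiv W _).injective
    rw [secEquiv_comp, secEquiv_comp, AddEquiv.apply_symm_apply, AddEquiv.apply_symm_apply, hxy]
  have hac : (kernel T).Acyclic := fun i => by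
    rw [(kernel T).exactAt_iff' (i - 1) i (i + 1) (by simp) (by simp)]
    refine exact_of_locally _ fun W b (hb : secMap ((kernel T).d i (i + 1)) W b = 0) => ?_
    obtain ⟨R, hR, hRmem⟩ := h W
    refine ⟨R, hR, fun W' k hk => ?_⟩
    let y := seq i W' (secMap ((kernel.ι T).f i) W' (secRes ((kernel T).X i) k b))
    obtain ⟨g, hg0, hg⟩ := (acyclic_sections_iff L W' (s.1 W')
      fun i => haveI := hL i; surjective_telMap_sec W' (s.1 W') _).2 (hRmem k hk) i y
      (by
        rw [← hseqT, ← secMap_comp, ← HomologicalComplex.comp_f, kernel.condition,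
          HomologicalComplex.zero_f, secMap_zero]
        exact funext fun j => map_zero (secMap ((Pi.π I j).f i) W'))
      (fun j => by
        rw [← hseqd, ← secMap_comp, (kernel.ι T).comm, secMap_comp, secMap_secRes, hb, map_zero,
          map_zero]
        exact map_zero (secMap ((Pi.π I j).f (i + 1)) W'))
    obtain ⟨g, rfl⟩ := (hseq (i - 1) W').2 g
    obtain ⟨a, ha⟩ := hker (i - 1) W' g ((hseq (i - 1) W').1
      ((hseqT _ _ _).trans (hg0.trans (funext fun j => (map_zero _).symm))))
    refine ⟨a, hinj i W' ((hseq i W').1 (funext fun j => ?_))⟩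
    change seq i W' (secMap ((kernel.ι T).f i) W' (secMap ((kernel T).d (i - 1) i) W' a)) j = _
    rw [← secMap_comp ((kernel T).d (i - 1) i), ← (kernel.ι T).comm, secMap_comp, ha, hseqd]
    exact (hg j).symm
  haveI : QuasiIso T := quasiIso_of_acyclic_kernel hS hac
  obtain ⟨T', ⟨H⟩, ⟨H'⟩⟩ := exists_homotopyInverse T
  have hom : ∀ {F : P ⟶ P} (H : Homotopy F (𝟙 P)) (i : ℤ) (W : C) (x : Sec (P.X i) W),
      secMap (P.d i (i + 1)) W x = 0 →
      secMap (F.f i) W x = secMap (P.d (i - 1) i) W (secMap (H.hom i (i - 1)) W x) + x := by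
    intro F H i W x hx
    have e := congrArg (fun q => secMap q W x) (H.comm i)
    rw [dNext_eq _ (show (ComplexShape.up ℤ).Rel i (i + 1) by simp),
      prevD_eq _ (show (ComplexShape.up ℤ).Rel (i - 1) i by simp)] at e
    simp only [secMap_add, secMap_comp, hx, map_zero, zero_add] at e
    exact e
  rw [mem_secIdeal]
  intro i
  refine ⟨(injective_iff_map_eq_zero (telMap _ _)).2 fun x hx => ?_, fun y => ?_⟩
  · choose x' hx' using fun k => Submodule.mkQ_surjective (secBdry L V i) (x k)
    choose w hw using fun k => (secH_mk_eq_zero (x' k - s.1 V • x' (k + 1))).1 (by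
      rw [map_sub, map_smul, hx', hx']
      exact congrFun hx k)
    obtain ⟨X, hX⟩ := (hseq i V).2 fun k => (x' k : Sec (L.X i) V)
    obtain ⟨W₀, hW₀⟩ := (hseq (i - 1) V).2 w
    have hXd : secMap (P.d i (i + 1)) V X = 0 := (hseq (i + 1) V).1 (funext fun k => by
      rw [hseqd, hX]
      exact (LinearMap.mem_ker.1 (x' k).2).trans (map_zero _).symm)
    have e1 : secMap (T.f i) V X = secMap (P.d (i - 1) i) V W₀ := (hseq i V).1 (funext fun k => by
      rw [hseqT, hseqd, hX, hW₀, hw]
      rfl)
    have e2 := hom H i V X hXd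
    rw [HomologicalComplex.comp_f, secMap_comp, e1, ← secMap_comp (P.d (i - 1) i), ← T'.comm,
      secMap_comp, ← sub_eq_iff_eq_add', ← map_sub] at e2
    funext k
    rw [← hx' k]
    refine (secH_mk_eq_zero _).2 ⟨seq (i - 1) V
      (secMap (T'.f (i - 1)) V W₀ - secMap (H.hom i (i - 1)) V X) k, ?_⟩
    rw [← hseqd, e2, hX]
  · choose y' hy' using fun k => Submodule.mkQ_surjective (secBdry L V i) (y k)
    obtain ⟨Y, hY⟩ := (hseq i V).2 fun k => (y' k : Sec (L.X i) V)
    have hYd : secMap (P.d i (i + 1)) V Y = 0 := (hseq (i + 1) V).1 (funext fun k => by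
      rw [hseqd, hY]
      exact (LinearMap.mem_ker.1 (y' k).2).trans (map_zero _).symm)
    have hXd : ∀ k, secMap (L.d i (i + 1)) V (seq i V (secMap (T'.f i) V Y) k) = 0 := fun k => by
      rw [← hseqd, ← secMap_comp, T'.comm, secMap_comp, hYd, map_zero]
      exact map_zero (secMap ((Pi.π I k).f (i + 1)) V)
    have e := hom H' i V Y hYd
    rw [HomologicalComplex.comp_f, secMap_comp] at e
    refine ⟨fun k => (secBdry L V i).mkQ ⟨_, hXd k⟩, funext fun k => ?_⟩
    rw [telMap_apply, ← map_smul, ← map_sub, ← hy' k, ← sub_eq_zero, ← map_sub, secH_mk_eq_zero]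
    refine ⟨seq (i - 1) V (secMap (H'.hom i (i - 1)) V Y) k, ?_⟩
    have e' := congrArg (fun z => seq i V z k) e
    simp only [hseqT, telMap_apply] at e'
    rw [← hseqd]
    change _ = (seq i V (secMap (T'.f i) V Y) k - s.1 V • seq i V (secMap (T'.f i) V Y) (k + 1)) -
      (y' k : Sec (L.X i) V)
    rw [e', ← congrFun hY k, eq_sub_iff_add_eq]
    exact (map_add (secMap ((Pi.π I k).f i) V) _ _).symm

end Tower

/-- Restriction of a complex to the localised site. -/
noncomputable abbrev restrCx (L : CochainComplex (ModSite.Mod O) ℤ) (U : C)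
    [(ModSite.restr O U).Additive] : CochainComplex (ModSite.Mod (O.over U)) ℤ :=
  ((ModSite.restr O U).mapHomologicalComplex (ComplexShape.up ℤ)).obj L

instance restr_additive (U : C) : (ModSite.restr O U).Additive where
  map_add := rfl

set_option maxHeartbeats 800000 in
/-- Locality of the ideal of completeness. -/
theorem secIdeal_of_cover (L : CochainComplex (ModSite.Mod O) ℤ) [L.IsKInjective]
    (hL : ∀ i, Injective (L.X i)) {U : C} (S : Sieve U) (hS : S ∈ J U) (f : O.obj.obj (op U))
    (h : ∀ ⦃V : C⦄ (g : V ⟶ U), S g → (O.obj.map g.op).hom f ∈ secIdeal L V) :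
    f ∈ secIdeal L U := by
  haveI : (restrCx L U).IsKInjective := isKInjective_map_of_adj (ModSite.extZeroAdj O U) L
  have hI : ∀ i, Injective ((restrCx L U).X i) := fun i =>
    haveI := hL i
    (ModSite.restr O U).injective_obj_of_injective (hL i)
  have key := mem_secIdeal_of_locally (DerComp.GSec.ofSect O U f) (restrCx L U) hI (fun V => by
    refine ⟨(Sieve.overEquiv V).symm (S.pullback V.hom), ?_, fun W k hk => ?_⟩
    · rw [GrothendieckTopology.mem_over_iff]
      convert J.pullback_stable V.hom hS
      exact (Sieve.overEquiv V).apply_symm_apply _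
    · rw [Sieve.overEquiv_symm_iff] at hk
      have := h (k.left ≫ V.hom) hk
      rw [show k.left ≫ V.hom = W.hom from Over.w k] at this
      exact this) (Over.mk (𝟙 U))
  have e : (DerComp.GSec.ofSect O U f).1 (Over.mk (𝟙 U)) = f := by
    change (O.obj.map (𝟙 U).op).hom f = f
    simp
  rw [e] at key
  exact key

end Groth.Agent.DerCompLib
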