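import Groth.Agent.DerCompLib.Koszul
import Groth.Agent.DerCompLib.Criterion
import Groth.Agent.DerCompLib.Locality

/-!
# Iterated cones of telescopes

`tok g` is the colimit of `G →g G →g ⋯` as the cokernel of the telescope; if a power of `g` is in
the span of scalars killing iterated cones, the cone of `tok g` vanishes.
-/

set_option autoImplicit false
set_option backward.isDefEq.respectTransparency false

universe w v u t

open CategoryTheory CategoryTheory.Limits ZeroObject

namespace Groth.Agent.DerCompLib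

variable {A : Type u} [Category.{v} A] [Abelian A]

/-- Acyclic complexes are zero in the derived category. -/
lemma isZero_Q_iff [HasDerivedCategory.{w} A] (K : CochainComplex A ℤ) :
    IsZero (DerivedCategory.Q.obj K) ↔ K.Acyclic := by
  constructor
  · intro h n
    rw [HomologicalComplex.exactAt_iff_isZero_homology]
    exact IsZero.of_iso (Functor.map_isZero (DerivedCategory.homologyFunctor A n) h)
      ((DerivedCategory.homologyFunctorFactors A n).app K).symm
  · intro h
    have hq : QuasiIso (0 : K ⟶ 0) := ⟨fun n => by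
      rw [quasiIsoAt_iff_exactAt _ _ (h n), HomologicalComplex.exactAt_iff_isZero_homology]
      exact (HomologicalComplex.homologyFunctor _ _ n).map_isZero (isZero_zero _)⟩
    haveI : IsIso (DerivedCategory.Q.map (0 : K ⟶ 0)) :=
      Localization.inverts DerivedCategory.Q (HomologicalComplex.quasiIso _ _) _ hq
    exact IsZero.of_iso (Functor.map_isZero _ (isZero_zero _))
      (asIso (DerivedCategory.Q.map (0 : K ⟶ 0)))

section Tok

variable [HasColimitsOfShape (Discrete ℕ) A]

/-- The colimit of the iteration of `g`. -/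
noncomputable abbrev tok {G : A} (g : G ⟶ G) : A := cokernel (telEnd g)

variable {G : A} {g : G ⟶ G}

/-- An endomorphism commuting with `g`, on `tok g`. -/
noncomputable def tokMap (ψ : G ⟶ G) (h : ψ ≫ g = g ≫ ψ) : tok g ⟶ tok g :=
  cokernel.map _ _ (Limits.Sigma.map fun _ => ψ) (Limits.Sigma.map fun _ => ψ) (by
    refine Sigma.hom_ext _ _ fun n => ?_
    simp [telEnd, Preadditive.comp_sub, Preadditive.sub_comp, reassoc_of% h])

lemma π_tokMap (ψ : G ⟶ G) (h : ψ ≫ g = g ≫ ψ) (n : ℕ) :
    Sigma.ι (fun _ : ℕ => G) n ≫ cokernel.π (telEnd g) ≫ tokMap ψ h =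
      ψ ≫ Sigma.ι (fun _ : ℕ => G) n ≫ cokernel.π (telEnd g) := by
  simp [tokMap]

lemma tok_hom_ext {Z : A} {a b : tok g ⟶ Z} (h : ∀ n, Sigma.ι (fun _ : ℕ => G) n ≫
    cokernel.π (telEnd g) ≫ a = Sigma.ι (fun _ : ℕ => G) n ≫ cokernel.π (telEnd g) ≫ b) :
    a = b :=
  coequalizer.hom_ext (Sigma.hom_ext _ _ h)

lemma tokMap_comp (ψ χ : G ⟶ G) (h : ψ ≫ g = g ≫ ψ) (h' : χ ≫ g = g ≫ χ) :
    tokMap ψ h ≫ tokMap χ h' = tokMap (ψ ≫ χ) (by rw [Category.assoc, h', reassoc_of% h]) :=
  tok_hom_ext fun n => by simp [reassoc_of% π_tokMap, π_tokMap]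

variable (g) in
lemma isIso_tokMap_self : IsIso (tokMap g (rfl : g ≫ g = g ≫ g)) := by
  have hw : ∀ n, Sigma.ι (fun _ : ℕ => G) n ≫ cokernel.π (telEnd g) =
      g ≫ Sigma.ι (fun _ : ℕ => G) (n + 1) ≫ cokernel.π (telEnd g) := fun n => by
    have := Sigma.ι (fun _ : ℕ => G) n ≫= cokernel.condition (telEnd g)
    rw [← Category.assoc, comp_zero, show Sigma.ι (fun _ : ℕ => G) n ≫ telEnd g = _ from Sigma.ι_desc _ _,
      Preadditive.sub_comp, Category.assoc, sub_eq_zero] at this
    exact this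
  let s : tok g ⟶ tok g := cokernel.desc _
    (Sigma.desc fun n => Sigma.ι (fun _ : ℕ => G) (n + 1) ≫ cokernel.π (telEnd g)) (by
      refine Sigma.hom_ext _ _ fun n => ?_
      rw [comp_zero, ← Category.assoc, show Sigma.ι (fun _ : ℕ => G) n ≫ telEnd g = _ from Sigma.ι_desc _ _,
        Preadditive.sub_comp, Category.assoc, Sigma.ι_desc, Sigma.ι_desc, ← hw (n + 1), sub_self])
  refine ⟨s, tok_hom_ext fun n => ?_, tok_hom_ext fun n => ?_⟩
  · rw [reassoc_of% π_tokMap, Category.comp_id]
    simp [s, ← hw]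
  · simp [s, π_tokMap, ← hw]

lemma tokMap_id : tokMap (𝟙 G) (by simp : 𝟙 G ≫ g = g ≫ 𝟙 G) = 𝟙 _ :=
  tok_hom_ext fun n => by simp [π_tokMap]

variable {R : Type t} [CommRing R] [Linear R A]

lemma tokMap_sum {κ : Type*} (s : Finset κ) (c : κ → R) (ψ : κ → (G ⟶ G))
    (h : ∀ j, ψ j ≫ g = g ≫ ψ j) :
    tokMap (∑ j ∈ s, c j • ψ j)
        (by simp [Preadditive.sum_comp, Preadditive.comp_sum, Linear.smul_comp, Linear.comp_smul, h]) =
      ∑ j ∈ s, c j • tokMap (ψ j) (h j) :=
  tok_hom_ext fun n => by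
    simp [Preadditive.comp_sum, Preadditive.sum_comp, Linear.comp_smul, Linear.smul_comp, π_tokMap]

variable [HasDerivedCategory.{w} A]

/-- If a power of `g` is a combination of scalars killing iterated cones, the cone of `tok g` is
zero in the derived category. -/
theorem isZero_kos_tok (l : List R) {κ : Type*} (s : Finset κ) (c : κ → R) (ψ : κ → (G ⟶ G))
    (hψ : ∀ j, ψ j ≫ g = g ≫ ψ j)
    (hc : ∀ j ∈ s, ∀ X : CochainComplex A ℤ, c j • 𝟙 (DerivedCategory.Q.obj ((kos l).obj X)) = 0)
    (M : ℕ) (hg : (End.of g ^ M : End G) = ∑ j ∈ s, c j • ψ j) :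
    IsZero (DerivedCategory.Q.obj ((kos l).obj
      ((HomologicalComplex.single A (ComplexShape.up ℤ) 0).obj (tok g)))) := by
  let Φ : A ⥤ DerivedCategory A :=
    HomologicalComplex.single A (ComplexShape.up ℤ) 0 ⋙ kos l ⋙ DerivedCategory.Q
  let e : End (tok g) := tokMap g rfl
  have he : IsUnit e := by
    haveI := isIso_tokMap_self g
    exact (isUnit_iff_isIso _).2 this
  have hpow : ∀ m : ℕ, ∃ h, e ^ m = tokMap (End.of g ^ m : End G) h := by
    intro m
    induction m with
    | zero => exact ⟨by simp [End.one_def], by rw [pow_zero]; exact tokMap_id.symm⟩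
    | succ m ih =>
      obtain ⟨h, hm⟩ := ih
      refine ⟨?_, ?_⟩
      · rw [pow_succ, End.mul_def]
        change (g ≫ (End.of g ^ m : End G)) ≫ g = g ≫ g ≫ (End.of g ^ m : End G)
        rw [Category.assoc, h]
      · simp only [pow_succ, End.mul_def, hm]
        exact tokMap_comp _ _ rfl h
  obtain ⟨h, hM⟩ := hpow M
  have hsum : (e ^ M : End (tok g)) = ∑ j ∈ s, c j • tokMap (ψ j) (hψ j) := by
    rw [hM]
    simp only [hg]
    exact tokMap_sum s c ψ hψ
  have h0 : (Φ.mapEnd _ e) ^ M = 0 := by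
    rw [← map_pow, hsum]
    change Φ.map _ = 0
    rw [Functor.map_sum]
    refine Finset.sum_eq_zero fun j hj => ?_
    have hlin : c j • tokMap (ψ j) (hψ j) = (c j • 𝟙 (tok g)) ≫ tokMap (ψ j) (hψ j) := by simp
    have hz : Φ.map (c j • 𝟙 (tok g)) = 0 := by
      change DerivedCategory.Q.map ((kos l).map
        ((HomologicalComplex.single A (ComplexShape.up ℤ) 0).map (c j • 𝟙 (tok g)))) = 0
      have h1 : (HomologicalComplex.single A (ComplexShape.up ℤ) 0).map (c j • 𝟙 (tok g)) =
          c j • 𝟙 _ := by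
        apply HomologicalComplex.from_single_hom_ext
        simp [HomologicalComplex.single_map_f_self]
      rw [h1, Functor.map_smul, Functor.map_smul, CategoryTheory.Functor.map_id,
        CategoryTheory.Functor.map_id]
      exact hc j hj _
    rw [hlin, Φ.map_comp, hz, zero_comp]
  have hu := ((he.map (Φ.mapEnd _)).pow M)
  rw [h0, isUnit_zero_iff] at hu
  exact (IsZero.iff_id_eq_zero _).2 hu.symm

end Tok

end Groth.Agent.DerCompLib
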