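import Groth.Agent.DerCompLib.Contraction
import Groth.Agent.DCat.LeftRes
import Groth.Agent.DCat.DerivedAdj

/-!
# Homotopy classes of maps from bounded above free complexes into direct images of K-injectives

For `SecData` over a locally flat functor, `Hom_K(X, F L) = Hom_D(X, F L)` when `X` is bounded
above with free terms and `L` is K-injective.
-/

set_option autoImplicit false
set_option backward.isDefEq.respectTransparency false

universe u

open CategoryTheory CategoryTheory.Limits Opposite ZeroObject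

attribute [local instance] HasDerivedCategory.standard

namespace Groth.Agent.DerCompLib

variable {C D : Type u} [SmallCategory C] [SmallCategory D] {J : GrothendieckTopology C}
  {K : GrothendieckTopology D} {OC : Sheaf J CommRingCat.{u}} {OD : Sheaf K CommRingCat.{u}}

/-- `M` is free on some family of objects. -/
def IsFree (M : ModSite.Mod OD) : Prop :=
  ∃ (ι : Type u) (V : ι → D) (x : ∀ e, Sec M (V e)), IsFreeOn M x

lemma isFree_of_isZero {M : ModSite.Mod OD} (h : IsZero M) : IsFree M := by
  refine ⟨PEmpty, PEmpty.elim, fun e => e.elim, fun N => ⟨fun φ ψ _ => h.eq_of_src _ _, fun y => ?_⟩⟩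
  exact ⟨0, funext fun e => e.elim⟩

lemma isFree_sigma_freeOn {ι : Type u} (V : ι → D) :
    IsFree (∐ fun e => ModSite.freeOn OD (V e)) :=
  ⟨ι, V, _, isFreeOn_sigma_freeOn OD V⟩

lemma isFree_freeOn (E : D) : IsFree (ModSite.freeOn OD E) := by
  refine ⟨PUnit, fun _ => E, fun _ => secEquiv E _ (𝟙 _), fun N => ?_⟩
  have e : (fun (φ : ModSite.freeOn OD E ⟶ N) (_ : PUnit.{u + 1}) =>
      secMap φ E (secEquiv E _ (𝟙 _))) = fun φ _ => secEquiv E N φ := by
    funext φ t
    exact (secEquiv_comp E _ φ).symm.trans (congrArg _ (Category.id_comp φ))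
  rw [e]
  exact ⟨fun φ ψ h => (secEquiv E N).injective (congrFun h PUnit.unit),
    fun y => ⟨(secEquiv E N).symm (y PUnit.unit), funext fun _ => AddEquiv.apply_symm_apply _ _⟩⟩

lemma IsFree.biprod {M M' : ModSite.Mod OD} (h : IsFree M) (h' : IsFree M') :
    IsFree (M ⊞ M') := by
  obtain ⟨ι, V, x, hx⟩ := h
  obtain ⟨ι', V', x', hx'⟩ := h'
  let z : ∀ e : ι ⊕ ι', Sec (M ⊞ M') (Sum.elim V V' e) := fun
    | .inl e => secMap biprod.inl (V e) (x e)
    | .inr e => secMap biprod.inr (V' e) (x' e)
  refine ⟨ι ⊕ ι', Sum.elim V V', z, fun N => ⟨fun φ ψ h => ?_, fun y => ?_⟩⟩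
  · refine biprod.hom_ext' _ _ (hx.hom_ext fun e => ?_) (hx'.hom_ext fun e => ?_)
    · exact congrFun h (.inl e)
    · exact congrFun h (.inr e)
  · obtain ⟨φ, hφ⟩ := (hx N).2 fun e => y (.inl e)
    obtain ⟨φ', hφ'⟩ := (hx' N).2 fun e => y (.inr e)
    refine ⟨biprod.desc φ φ', funext fun
      | .inl e => ?_
      | .inr e => ?_⟩
    · change secMap (biprod.inl ≫ biprod.desc φ φ') (V e) (x e) = _
      rw [biprod.inl_desc]
      exact congrFun hφ e
    · change secMap (biprod.inr ≫ biprod.desc φ φ') (V' e) (x' e) = _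
      rw [biprod.inr_desc]
      exact congrFun hφ' e

/-- Every module is a quotient of a free one. -/
theorem exists_isFree_cover (M : ModSite.Mod OD) :
    ∃ (Y : ModSite.Mod OD) (π : Y ⟶ M), IsFree Y ∧ Epi π := by
  let ι := Σ E : D, Sec M E
  let π : (∐ fun p : ι => ModSite.freeOn OD p.1) ⟶ M :=
    Sigma.desc fun p => (secEquiv p.1 M).symm p.2
  refine ⟨_, π, isFree_sigma_freeOn (fun p : ι => p.1), epi_of_surjective_sec π fun E m => ?_⟩
  refine ⟨secEquiv E _ (Sigma.ι (fun p : ι => ModSite.freeOn OD p.1) ⟨E, m⟩), ?_⟩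
  refine (secEquiv_comp E _ π).symm.trans ?_
  rw [Sigma.ι_desc, AddEquiv.apply_symm_apply]

/-- A map of complexes is a quasi-isomorphism iff its cone is acyclic. -/
theorem quasiIso_iff_acyclic_cone {B : Type*} [Category B] [Abelian B]
    {X Y : CochainComplex B ℤ} (φ : X ⟶ Y) :
    QuasiIso φ ↔ (CochainComplex.mappingCone φ).Acyclic := by
  refine (HomotopyCategory.quotient_map_mem_quasiIso_iff φ).symm.trans ?_
  rw [HomotopyCategory.quasiIso_eq_trW_subcategoryAcyclic]
  exact ((HomotopyCategory.subcategoryAcyclic B).trW_iff_of_distinguished _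
      (HomotopyCategory.mappingCone_triangleh_distinguished φ)).trans
    (HomotopyCategory.quotient_obj_mem_subcategoryAcyclic_iff_acyclic _)

/-- Quasi-isomorphisms of bounded above free complexes remain quasi-isomorphisms under `G`. -/
theorem quasiIso_map_of_free (S : SecData OC OD) (hflat : LocFlat K J S.fn) [S.G.Additive]
    {X Y : CochainComplex (ModSite.Mod OD) ℤ} (s : X ⟶ Y) [QuasiIso s]
    (hX : ∀ q, IsFree (X.X q)) (hY : ∀ q, IsFree (Y.X q)) (a : ℤ) [X.IsStrictlyLE a]
    [Y.IsStrictlyLE a] :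
    QuasiIso ((S.G.mapHomologicalComplex (ComplexShape.up ℤ)).map s) := by
  have hfree : ∀ q, IsFree ((CochainComplex.mappingCone s).X q) := fun q => by
    obtain ⟨ι, V, x, hx⟩ := (hX (q + 1)).biprod (hY q)
    let e : X.X (q + 1) ⊞ Y.X q ≅ (CochainComplex.mappingCone s).X q :=
      (HomologicalComplex.homotopyCofiber.XIsoBiprod s q (q + 1) rfl).symm
    refine ⟨ι, V, fun i => secMap e.hom (V i) (x i), fun N => ?_⟩
    have h : (fun (φ : (CochainComplex.mappingCone s).X q ⟶ N) (i : ι) =>
        secMap φ (V i) (secMap e.hom (V i) (x i))) =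
        (fun (φ : X.X (q + 1) ⊞ Y.X q ⟶ N) i => secMap φ (V i) (x i)) ∘ e.symm.homFromEquiv := by
      funext φ i
      rfl
    rw [h]
    exact (hx N).comp (Equiv.bijective _)
  have hac : (CochainComplex.mappingCone s).Acyclic :=
    (quasiIso_iff_acyclic_cone s).1 inferInstance
  have htop : ∀ q, a < q → IsZero ((CochainComplex.mappingCone s).X q) := fun q hq => by
    refine IsZero.of_iso ?_ (HomologicalComplex.homotopyCofiber.XIsoBiprod s q (q + 1) rfl)
    rw [IsZero.iff_id_eq_zero]
    exact biprod.hom_ext _ _ ((X.isZero_of_isStrictlyLE a (q + 1) (by omega)).eq_of_tgt _ _)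
      ((Y.isZero_of_isStrictlyLE a q hq).eq_of_tgt _ _)
  rw [quasiIso_iff_acyclic_cone]
  exact DCat.acyclic_of_iso (CochainComplex.mappingCone.mapHomologicalComplexIso s S.G)
    (acyclic_map_of_free _ S hflat hac hfree a htop)

variable {A : Type*} [Category A] [Abelian A] [HasDerivedCategory A]

lemma mem_quasiIso_quotient {X Y : CochainComplex A ℤ} (s : X ⟶ Y) :
    HomotopyCategory.quasiIso A (ComplexShape.up ℤ)
      ((HomotopyCategory.quotient A (ComplexShape.up ℤ)).map s) ↔ QuasiIso s :=
  HomotopyCategory.quotient_map_mem_quasiIso_iff s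

/-- `Hom_K(X, F L) = Hom_D(X, F L)` for `X` bounded above free and `L` K-injective. -/
theorem bijective_Qh_of_free (S : SecData OC OD) (hflat : LocFlat K J S.fn) [S.G.Additive]
    [S.F.Additive] (X : CochainComplex (ModSite.Mod OD) ℤ) (hX : ∀ q, IsFree (X.X q)) (a : ℤ)
    [X.IsStrictlyLE a] (L : CochainComplex (ModSite.Mod OC) ℤ) [L.IsKInjective] :
    Function.Bijective (DerivedCategory.Qh.map :
      ((HomotopyCategory.quotient (ModSite.Mod OD) _).obj X ⟶
        (HomotopyCategory.quotient (ModSite.Mod OD) (ComplexShape.up ℤ)).obj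
          ((S.F.mapHomologicalComplex _).obj L)) → _) := by
  let q := HomotopyCategory.quotient (ModSite.Mod OD) (ComplexShape.up ℤ)
  let adj := DCat.adjHot (ComplexShape.up ℤ) S.adj
  let Gh := S.G.mapHomotopyCategory (ComplexShape.up ℤ)
  let qC := HomotopyCategory.quotient (ModSite.Mod OC) (ComplexShape.up ℤ)
  -- resolutions by free complexes
  have hres : ∀ (X' : CochainComplex (ModSite.Mod OD) ℤ) (s : X' ⟶ X), QuasiIso s →
      ∃ (P : CochainComplex (ModSite.Mod OD) ℤ) (t : P ⟶ X'), (∀ n, IsFree (P.X n)) ∧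
        P.IsStrictlyLE a ∧ QuasiIso t := by
    intro X' s hs
    haveI : ∀ i, QuasiIsoAt s i := hs.quasiIsoAt
    have hLE : X'.IsLE a := by
      rw [CochainComplex.isLE_iff]
      intro i hi
      rw [exactAt_iff_of_quasiIsoAt s i]
      exact X.exactAt_of_isLE a i hi
    have := (X'.quasiIso_ιTruncLE_iff a).2 hLE
    obtain ⟨P, t, hP, hPf, -, ht⟩ := DCat.LeftRes.exists_resolution IsFree
      ⟨0, isZero_zero _, isFree_of_isZero (isZero_zero _)⟩ exists_isFree_cover (X'.truncLE a) a
    exact ⟨P, t ≫ X'.ιTruncLE a, hPf, hP, inferInstance⟩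
  -- transposed precomposition is bijective
  have hpre : ∀ (P : CochainComplex (ModSite.Mod OD) ℤ) (t : P ⟶ X), (∀ n, IsFree (P.X n)) →
      P.IsStrictlyLE a → QuasiIso t →
      Function.Bijective fun (g : q.obj X ⟶ q.obj ((S.F.mapHomologicalComplex _).obj L)) =>
        q.map t ≫ g := by
    intro P t hPf hP ht
    haveI := quasiIso_map_of_free S hflat t hPf hX a
    let e₀ := adj.homEquiv (q.obj P) (qC.obj L)
    let e₁ := adj.homEquiv (q.obj X) (qC.obj L)
    have hb : Function.Bijective fun g : Gh.obj (q.obj X) ⟶ qC.obj L => Gh.map (q.map t) ≫ g := by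
      haveI : IsIso (DerivedCategory.Qh.map (Gh.map (q.map t))) :=
        Localization.inverts DerivedCategory.Qh
          (HomotopyCategory.quasiIso (ModSite.Mod OC) (ComplexShape.up ℤ)) _
          ((mem_quasiIso_quotient
            ((S.G.mapHomologicalComplex (ComplexShape.up ℤ)).map t)).2 inferInstance)
      have b₁ := CochainComplex.IsKInjective.Qh_map_bijective (Gh.obj (q.obj X)) L
      have b₀ := CochainComplex.IsKInjective.Qh_map_bijective (Gh.obj (q.obj P)) L
      rw [← Function.Bijective.of_comp_iff' b₀]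
      have : DerivedCategory.Qh.map ∘ (fun g : Gh.obj (q.obj X) ⟶ qC.obj L =>
          Gh.map (q.map t) ≫ g) = (fun g => DerivedCategory.Qh.map (Gh.map (q.map t)) ≫ g) ∘
            DerivedCategory.Qh.map := funext fun g => Functor.map_comp _ _ _
      rw [this]
      exact Function.Bijective.comp
        (asIso (DerivedCategory.Qh.map (Gh.map (q.map t)))).symm.homFromEquiv.bijective b₁
    have : (fun g : q.obj X ⟶ q.obj ((S.F.mapHomologicalComplex _).obj L) => q.map t ≫ g) =
        e₀ ∘ (fun g => Gh.map (q.map t) ≫ g) ∘ e₁.symm := funext fun g => by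
      simp only [Function.comp_apply, e₀, e₁]
      rw [adj.homEquiv_naturality_left]
      exact congrArg (fun y => q.map t ≫ y) ((adj.homEquiv _ _).apply_symm_apply g).symm
    rw [this]
    exact e₀.bijective.comp (hb.comp e₁.symm.bijective)
  constructor
  · intro g₁ g₂ h
    obtain ⟨X', s, hs, hsg⟩ := (MorphismProperty.map_eq_iff_precomp DerivedCategory.Qh
      (HomotopyCategory.quasiIso (ModSite.Mod OD) (ComplexShape.up ℤ)) g₁ g₂).1 h
    obtain ⟨X', rfl⟩ := HomotopyCategory.quotient_obj_surjective X'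
    obtain ⟨s, rfl⟩ := q.map_surjective s
    rw [mem_quasiIso_quotient] at hs
    obtain ⟨P, t, hPf, hP, ht⟩ := hres X' s hs
    refine (hpre P (t ≫ s) hPf hP inferInstance).1 ?_
    simp only [Functor.map_comp, Category.assoc, hsg, q]
  · intro φ
    let iso := DerivedCategory.quotientCompQhIso (ModSite.Mod OD)
    obtain ⟨X', s, hs, g, hg⟩ := DerivedCategory.right_fac
      ((iso.inv.app X) ≫ φ ≫ iso.hom.app ((S.F.mapHomologicalComplex _).obj L))
    have hs' : QuasiIso s := by rwa [DerivedCategory.isIso_Q_map_iff_quasiIso] at hs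
    obtain ⟨P, t, hPf, hP, ht⟩ := hres X' s hs'
    obtain ⟨g₀, hg₀⟩ := (hpre P (t ≫ s) hPf hP inferInstance).2 (q.map (t ≫ g))
    refine ⟨g₀, ?_⟩
    haveI : IsIso (DerivedCategory.Qh.map (q.map (t ≫ s))) :=
      Localization.inverts DerivedCategory.Qh
        (HomotopyCategory.quasiIso (ModSite.Mod OD) (ComplexShape.up ℤ)) _
        ((mem_quasiIso_quotient (t ≫ s)).2 inferInstance)
    rw [← cancel_epi (DerivedCategory.Qh.map (q.map (t ≫ s))), ← Functor.map_comp]
    refine (congrArg DerivedCategory.Qh.map hg₀).trans ?_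
    have n1 := iso.hom.naturality (t ≫ s)
    have n2 := iso.hom.naturality (t ≫ g)
    simp only [Functor.comp_map] at n1 n2
    rw [← cancel_mono (iso.hom.app ((S.F.mapHomologicalComplex _).obj L)), n2, Category.assoc]
    have n3 : DerivedCategory.Qh.map (q.map (t ≫ s)) =
        iso.hom.app P ≫ DerivedCategory.Q.map (t ≫ s) ≫ iso.inv.app X := by
      rw [← Category.assoc, ← n1]
      simp [q]
    rw [n3, Category.assoc, Category.assoc]
    refine congrArg (iso.hom.app P ≫ ·) ?_
    rw [Functor.map_comp, Functor.map_comp, Category.assoc, hg, IsIso.hom_inv_id_assoc]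

end Groth.Agent.DerCompLib
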