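import Groth.Agent.DQCoh.Sections
import Groth.Agent.DQCoh.Local
import Groth.Agent.Coherent.SchemeCoh
import Groth.Agent.H8Lim.ModEq
import Groth.Agent.SiteDer16.RlimCore

/-!
# Limits of towers of quasi-coherent modules with surjective transition maps

For a tower of quasi-coherent modules `F n` whose transition maps are epimorphisms for `n ≥ 1`, the limit module
placed in degree zero is the derived limit, and it has no higher cohomology on affine opens.
-/

set_option autoImplicit false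
set_option backward.isDefEq.respectTransparency false
set_option backward.defeqAttrib.useBackward true
set_option linter.style.haveILetI false

universe u

open CategoryTheory CategoryTheory.Limits CategoryTheory.Pretriangulated DerivedCategory Opposite TopologicalSpace
  AlgebraicGeometry
open Groth.Agent.SiteDer16 Groth.Agent.DQCoh

attribute [local instance] HasDerivedCategory.standard

noncomputable section

namespace Groth.Agent.DerCompLib.SeqLimQcoh

variable {X : Scheme.{u}}

local notation "S0" => DerivedCategory.singleFunctor (Scheme.Modules X) 0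

theorem isZero_HD_single (M : X.Modules) (q : ℤ) (hq : q ≠ 0) : IsZero (DCoh.HD (DCoh.inD X M) q) := by
  rcases lt_or_gt_of_ne hq with h | h
  · exact isZero_of_isGE _ 0 q h
  · exact isZero_of_isLE _ 0 q h

theorem isQCohD_single (M : X.Modules) [Coh.IsQCoh M] : DCoh.IsQCohD (DCoh.inD X M) := fun i => by
  by_cases h : i = 0
  · subst h
    exact Coherent.isQCoh_of_iso ((singleFunctorCompHomologyFunctorIso X.Modules 0).app M).symm (h := (inferInstance : Coh.IsQCoh M))
  · exact Coherent.isQCoh_of_iso ((isZero_cokernel_of_epi (𝟙 M)).iso (isZero_HD_single M i h))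
      (h := Coherent.isQCoh_cokernel (𝟙 M))

/-- Maps from `j_! O_U` into shifts of a quasi-coherent module vanish off degree zero. -/
theorem subsingleton_pt_shift (M : X.Modules) [Coh.IsQCoh M] {U : X.Opens} (hU : IsAffineOpen U) (q : ℤ)
    (hq : q ≠ 0) : Subsingleton ((sec X).pt.obj U ⟶ (DCoh.inD X M)⟦q⟧) := by
  have hz : IsZero ((homologyFunctor X.Modules 0).obj ((DCoh.inD X M)⟦q⟧)) :=
    (isZero_HD_single M q hq).of_iso (((homologyFunctor X.Modules 0).shiftIso q 0 q (by omega)).app _)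
  exact ⟨fun a b => (bijective_θ _ (isQCohD_shift (isQCohD_single M) q) hU).1 (hz.eq_of_tgt _ _)⟩

variable (F : ℕ → X.Modules) (hF : ∀ n, Coh.IsQCoh (F n)) (t : ∀ n, F (n + 1) ⟶ F n)
  (ht : ∀ n, 1 ≤ n → Epi (t n))

/-- The tower in the derived category. -/
abbrev tD (n : ℕ) : DCoh.inD X (F (n + 1)) ⟶ DCoh.inD X (F n) := (S0).map (t n)

include hF ht in
theorem surjective_t {U : X.Opens} (hU : IsAffineOpen U) (n : ℕ) (hn : 1 ≤ n) :
    Function.Surjective (fun y : (sec X).P.obj U ⟶ F (n + 1) => y ≫ t n) := fun y => by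
  haveI := hF n
  haveI := hF (n + 1)
  haveI := ht n hn
  obtain ⟨s, hs⟩ := H8Lim.app_surjective_of_epi (t n) hU (Coherent.freeModOnEquiv U (F n) y)
  refine ⟨(Coherent.freeModOnEquiv U (F (n + 1))).symm s, (Coherent.freeModOnEquiv U (F n)).injective ?_⟩
  refine (Coherent.freeModOnEquiv_comp U _ (t n)).trans ?_
  rw [Equiv.apply_symm_apply]
  exact hs

include hF ht in
theorem surjective_tD {U : X.Opens} (hU : IsAffineOpen U) (q : ℤ) (n : ℕ) (hn : 1 ≤ n) :
    Function.Surjective (fun y : (sec X).pt.obj U ⟶ (DCoh.inD X (F (n + 1)))⟦q⟧ => y ≫ (tD F t n)⟦q⟧') := by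
  by_cases hq : q = 0
  · subst hq
    intro y
    let e := fun n => (shiftFunctorZero (DCoh.D X) ℤ).app (DCoh.inD X (F n))
    obtain ⟨y₁, hy₁⟩ := (S0).map_surjective
      (show (S0).obj ((sec X).P.obj U) ⟶ (S0).obj (F n) from y ≫ (e n).hom)
    obtain ⟨z, hz⟩ := surjective_t F hF t ht hU n hn y₁
    refine ⟨(show (sec X).pt.obj U ⟶ _ from (S0).map z) ≫ (e (n + 1)).inv, ?_⟩
    have h1 := (shiftFunctorZero (DCoh.D X) ℤ).inv.naturality (tD F t n)
    have h2 : (S0).map z ≫ tD F t n = y ≫ (e n).hom := by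
      rw [tD, ← Functor.map_comp]
      exact (congrArg _ hz).trans hy₁
    show ((S0).map z ≫ (shiftFunctorZero (DCoh.D X) ℤ).inv.app _) ≫ _ = y
    refine ((Category.assoc _ _ _).trans ((congrArg ((S0).map z ≫ ·) h1.symm).trans (Category.assoc _ _ _).symm)).trans ?_
    refine (congrArg (· ≫ (e n).inv) h2).trans ?_
    exact (Category.assoc _ _ _).trans (by rw [Iso.hom_inv_id]; exact Category.comp_id _)
  · intro y
    haveI := hF n
    haveI := subsingleton_pt_shift (F n) hU q hq
    exact ⟨0, Subsingleton.elim _ _⟩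

variable [HasProduct fun n => DCoh.inD X (F n)] {L : DCoh.D X} {a : ∀ n, L ⟶ DCoh.inD X (F n)}
  (hL : CohCx.IsRlimVia (fun n => DCoh.inD X (F n)) (tD F t) L a)

include hF ht hL in
theorem eq_zero {U : X.Opens} (hU : IsAffineOpen U) (q : ℤ) (y : (sec X).pt.obj U ⟶ L⟦q⟧)
    (hy : ∀ n, y ≫ (a n)⟦q⟧' = 0) : y = 0 := by
  let ad := (shiftEquiv (DCoh.D X) q).symm.toAdjunction
  let P := (shiftFunctor (DCoh.D X) (-q)).obj ((sec X).pt.obj U)
  let y' : P ⟶ L := (ad.homEquiv _ _).symm y
  have hy' : ∀ n, y' ≫ a n = 0 := fun n => (ad.homEquiv _ _).injective (by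
    rw [Adjunction.homEquiv_naturality_right]
    show (ad.homEquiv _ _) ((ad.homEquiv _ _).symm y) ≫ _ = _
    rw [Equiv.apply_symm_apply]
    exact (hy n).trans (by rw [Adjunction.homEquiv_unit, Functor.map_zero, comp_zero]))
  have hs : ∀ n, 1 ≤ n → Function.Surjective
      (fun f : P⟦(1 : ℤ)⟧ ⟶ DCoh.inD X (F (n + 1)) => f ≫ tD F t n) := fun n hn g => by
    let ad' := (shiftEquiv (DCoh.D X) (q - 1)).symm.toAdjunction
    let e : P⟦(1 : ℤ)⟧ ≅ ((sec X).pt.obj U)⟦-(q - 1)⟧ :=
      ((shiftFunctorAdd' (DCoh.D X) (-q) 1 (-(q - 1)) (by omega)).app ((sec X).pt.obj U)).symm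
    obtain ⟨z, hz⟩ := surjective_tD F hF t ht hU (q - 1) n hn ((ad'.homEquiv _ _) (e.inv ≫ g))
    refine ⟨e.hom ≫ (ad'.homEquiv _ _).symm z, ?_⟩
    have h3 : (ad'.homEquiv _ _).symm z ≫ tD F t n = e.inv ≫ g := by
      rw [← Adjunction.homEquiv_naturality_right_symm]
      exact (congrArg _ hz).trans (Equiv.symm_apply_apply _ _)
    show (e.hom ≫ _) ≫ _ = g
    rw [Category.assoc, h3, Iso.hom_inv_id_assoc]
  suffices h : y' = 0 by
    have := congrArg (ad.homEquiv _ _) h
    rw [Equiv.apply_symm_apply] at this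
    rw [this, Adjunction.homEquiv_unit, Functor.map_zero, comp_zero]
  obtain ⟨c, hc⟩ := hL
  have h0 : y' ≫ Pi.lift a = 0 := Pi.hom_ext _ _ fun n => by simpa using hy' n
  apply (shiftFunctor (DCoh.D X) (1 : ℤ)).map_injective
  obtain ⟨g, hg⟩ := Triangle.coyoneda_exact₁ _ hc (y'⟦(1 : ℤ)⟧') (by
    rw [← Functor.map_comp]
    exact (congrArg _ h0).trans (Functor.map_zero _ _ _))
  obtain ⟨w, hw⟩ := SiteDer16.exists_difference (fun n => DCoh.inD X (F n)) (tD F t) (P⟦(1 : ℤ)⟧) 1 hs
    (fun n => g ≫ Pi.π (fun n => DCoh.inD X (F n)) n)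
  have hgw : g = Pi.lift w ≫ (Pi.lift fun n => Pi.π (fun n => DCoh.inD X (F n)) n -
      Pi.π (fun n => DCoh.inD X (F n)) (n + 1) ≫ tD F t n) := Pi.hom_ext _ _ fun n => by
    simp only [Category.assoc, Pi.lift_π, Preadditive.comp_sub, Pi.lift_π_assoc]
    exact (hw n).symm
  rw [Functor.map_zero, hg, hgw, Category.assoc]
  exact (congrArg _ (comp_distTriang_mor_zero₂₃ _ hc)).trans comp_zero

include hF ht hL in
theorem subsingleton_pt_L {U : X.Opens} (hU : IsAffineOpen U) (q : ℤ) (hq : q ≠ 0) :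
    Subsingleton ((sec X).pt.obj U ⟶ L⟦q⟧) :=
  ⟨fun y y' => sub_eq_zero.1 (eq_zero F hF t ht hL hU q _ fun n => by
    haveI := hF n
    haveI := subsingleton_pt_shift (F n) hU q hq
    exact Subsingleton.elim _ _)⟩

include hF ht hL in
theorem isZero_homology (q : ℤ) (hq : q ≠ 0) : IsZero ((homologyFunctor X.Modules q).obj L) := by
  refine IsZero.of_iso ((sec X).gen fun V x => ?_)
    (((homologyFunctor X.Modules 0).shiftIso q 0 q (by omega)).app L).symm
  obtain ⟨T, hT, hl⟩ := (sec X).exists_local_lift x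
  obtain ⟨ι, Y, f, hf, hcov, hY⟩ := exists_refinement _ exists_affine_cover T hT
  refine (sec X).sep x _ hcov ?_
  rintro W g ⟨_, k, _, ⟨i⟩, rfl⟩
  obtain ⟨y, hy⟩ := hl (f i) (hf i)
  haveI := subsingleton_pt_L F hF t ht hL (hY i) q hq
  rw [Functor.map_comp, Category.assoc, ← hy, Subsingleton.elim y 0]
  simp [Sections.θ]

include hF ht hL in
/-- The derived limit of the tower is the limit, in degree zero. -/
theorem nonempty_iso : Nonempty (L ≅ DCoh.inD X (limit (Functor.ofOpSequence t))) := by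
  haveI : L.IsGE 0 := (isGE_iff _ _).2 fun i hi => isZero_homology F hF t ht hL i hi.ne
  haveI : L.IsLE 0 := (isLE_iff _ _).2 fun i hi => isZero_homology F hF t ht hL i hi.ne'
  obtain ⟨N, ⟨e⟩⟩ := exists_iso_singleFunctor_obj_of_isGE_of_isLE L 0
  choose g hg using fun n => (S0).map_surjective (e.inv ≫ a n)
  have hgt : ∀ n, g (n + 1) ≫ t n = g n := fun n => (S0).map_injective (by
    rw [Functor.map_comp, hg, hg, Category.assoc]
    have h := SiteDer16.comp_eq_of_isRlimVia (fun n => DCoh.inD X (F n)) (tD F t) hL n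
    exact congrArg (e.inv ≫ ·) h)
  let πc : (Functor.const ℕᵒᵖ).obj N ⟶ Functor.ofOpSequence t := NatTrans.ofOpSequence g fun n => by
    simp only [Functor.const_obj_map, Category.id_comp, Functor.ofOpSequence_map_homOfLE_succ]
    exact (hgt n).symm
  let φ := limit.lift _ (⟨N, πc⟩ : Cone (Functor.ofOpSequence t))
  have hφn : ∀ n, φ ≫ limit.π (Functor.ofOpSequence t) (op n) = g n := fun n => limit.lift_π _ _
  have hπt : ∀ n, limit.π (Functor.ofOpSequence t) (op (n + 1)) ≫ t n =
      limit.π (Functor.ofOpSequence t) (op n) := fun n => by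
    have := limit.w (Functor.ofOpSequence t) (homOfLE (Nat.le_add_right n 1)).op
    rwa [Functor.ofOpSequence_map_homOfLE_succ] at this
  have hinj : ∀ {V : X.Opens}, IsAffineOpen V → ∀ x : (sec X).P.obj V ⟶ N, (∀ n, x ≫ g n = 0) → x = 0 := by
    intro V hV x hx
    apply (S0).map_injective
    rw [Functor.map_zero, ← cancel_mono e.inv, zero_comp]
    let z := (shiftFunctorZero (DCoh.D X) ℤ).inv.app L
    have h0 := eq_zero F hF t ht hL hV 0 (((show (sec X).pt.obj V ⟶ _ from (S0).map x) ≫ e.inv) ≫ z) fun n => by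
      have hn := (shiftFunctorZero (DCoh.D X) ℤ).inv.naturality (a n)
      rw [Category.assoc, ← hn, ← Category.assoc]
      refine (congrArg (· ≫ _) (?_ : _ = (0 : (sec X).pt.obj V ⟶ DCoh.inD X (F n)))).trans zero_comp
      rw [Category.assoc]
      show (S0).map x ≫ e.inv ≫ a n = 0
      rw [← hg, ← Functor.map_comp, hx, Functor.map_zero]
    rw [← cancel_mono z, zero_comp]
    exact h0
  have hlift : ∀ {V : X.Opens} (v : ∀ n, (sec X).P.obj V ⟶ F n), (∀ n, v (n + 1) ≫ t n = v n) →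
      ∃ x : (sec X).P.obj V ⟶ N, ∀ n, x ≫ g n = v n := by
    intro V v hv
    obtain ⟨c, hc⟩ := id hL
    obtain ⟨y, hy⟩ := Triangle.coyoneda_exact₂ _ hc (Pi.lift fun n => (S0).map (v n)) (Pi.hom_ext _ _ fun n => by
      simp [Preadditive.comp_sub, ← Functor.map_comp, hv n])
    obtain ⟨x, hx⟩ := (S0).map_surjective (y ≫ e.hom)
    refine ⟨x, fun n => (S0).map_injective ?_⟩
    rw [Functor.map_comp, hx, hg, Category.assoc, Iso.hom_inv_id_assoc]
    have := hy =≫ Pi.π (fun n => DCoh.inD X (F n)) n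
    simp only [Category.assoc, Pi.lift_π, Triangle.mk_mor₁] at this
    exact this.symm
  haveI : Mono φ := by
    refine Preadditive.mono_of_isZero_kernel _ ((sec X).gen fun V x => ?_)
    obtain ⟨ι, Y, f, hcov, hY⟩ := exists_affine_cover V
    refine (sec X).sep x _ hcov ?_
    rintro W k ⟨_, l, _, ⟨i⟩, rfl⟩
    rw [Functor.map_comp, Category.assoc]
    refine (congrArg _ (?_ : (sec X).P.map (f i) ≫ x = 0)).trans comp_zero
    rw [← cancel_mono (kernel.ι φ), zero_comp]
    refine hinj (hY i) _ fun n => ?_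
    rw [← hφn, Category.assoc, kernel.condition_assoc, zero_comp, comp_zero]
  haveI : Epi φ := by
    refine Preadditive.epi_of_isZero_cokernel _ ((sec X).gen fun V x => ?_)
    obtain ⟨R, hR, hl⟩ := (sec X).lift (cokernel.π φ) x
    obtain ⟨ι, Y, f, hf, hcov, hY⟩ := exists_refinement _ exists_affine_cover R hR
    refine (sec X).sep x _ hcov ?_
    rintro W k ⟨_, l, _, ⟨i⟩, rfl⟩
    obtain ⟨y, hy⟩ := hl (f i) (hf i)
    obtain ⟨z, hz⟩ := hlift (fun n => y ≫ limit.π (Functor.ofOpSequence t) (op n))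
      (fun n => by rw [Category.assoc, hπt])
    have hy' : z ≫ φ = y := limit.hom_ext fun m => by
      rw [Category.assoc]
      exact (congrArg _ (hφn m.unop)).trans (hz m.unop)
    rw [Functor.map_comp, Category.assoc, ← hy, ← hy', Category.assoc, cokernel.condition, comp_zero, comp_zero]
  haveI : IsIso φ := isIso_of_mono_of_epi φ
  exact ⟨e ≪≫ (S0).mapIso (asIso φ)⟩

include hF ht in
theorem main : DCoh.IsRlim (fun n => DCoh.inD X (F n)) (tD F t) (DCoh.inD X (limit (Functor.ofOpSequence t))) ∧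
    ∀ (U : X.Opens), IsAffineOpen U → ∀ p : ℕ, 0 < p →
      Subsingleton (Coh.HHon X (limit (Functor.ofOpSequence t)) U p) := by
  let K : ℕ → DCoh.D X := fun n => DCoh.inD X (F n)
  obtain ⟨L, a, c, hT⟩ := distinguished_cocone_triangle₁
    (Pi.lift fun n => Pi.π K n - Pi.π K (n + 1) ≫ tD F t n)
  have hL : CohCx.IsRlimVia K (tD F t) L (fun n => a ≫ Pi.π K n) :=
    ⟨c, by rw [show Pi.lift (fun n => a ≫ Pi.π K n) = a from Pi.hom_ext _ _ fun n => by simp]; exact hT⟩
  obtain ⟨ψ⟩ := nonempty_iso F hF t ht hL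
  refine ⟨⟨ψ.inv ≫ a, c ≫ ψ.hom⟦(1 : ℤ)⟧', isomorphic_distinguished _ hT _ ?_⟩, fun U hU p hp => ?_⟩
  · refine (Triangle.isoMk (Triangle.mk a (Pi.lift fun n => Pi.π K n - Pi.π K (n + 1) ≫ tD F t n) c)
      (Triangle.mk (ψ.inv ≫ a) (Pi.lift fun n => Pi.π K n - Pi.π K (n + 1) ≫ tD F t n) (c ≫ ψ.hom⟦(1 : ℤ)⟧'))
      ψ (Iso.refl _) (Iso.refl _) ?_ ?_ ?_).symm
    · exact (Category.comp_id _).trans (Iso.hom_inv_id_assoc ψ a).symm
    · exact (Category.comp_id _).trans (Category.id_comp _).symm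
    · exact (Category.id_comp _).symm
  · let Lm := limit (Functor.ofOpSequence t)
    haveI := subsingleton_pt_L F hF t ht hL hU (p : ℤ) (by omega)
    haveI : Subsingleton (ShiftedHom ((S0).obj ((Coherent.freeModOn X).obj U)) ((S0).obj Lm) (p : ℤ)) :=
      (((shiftFunctor (DCoh.D X) (p : ℤ)).mapIso ψ).symm.homToEquiv (Z := (sec X).pt.obj U)).subsingleton
    haveI : HasExt.{u} X.Modules := inferInstance
    haveI : Subsingleton (Abelian.Ext.{u} ((Coherent.freeModOn X).obj U) Lm p) := Abelian.Ext.homEquiv.subsingleton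
    haveI : Subsingleton (Sheaf.H' (Coh.toAb Lm) p U) :=
      (Coherent.bijective_extToH U p Lm).2.subsingleton
    exact (Coherent.HHonEquiv Lm U p).subsingleton

end Groth.Agent.DerCompLib.SeqLimQcoh
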