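import Groth.Agent.DerCompLib.OpenAffinePre
import Groth.Agent.DerCompLib.SecData
import Groth.Agent.DerCompLib.KoszulRestr
import Groth.Agent.DerCompLib.SeqLimQcoh
import Groth.Agent.S13488
import Groth.Agent.DCat.JShriek

/-!
# Cohomology of the completion over an affine open
-/

set_option autoImplicit false
set_option backward.isDefEq.respectTransparency false
set_option linter.style.haveILetI false
set_option maxHeartbeats 800000
set_option synthInstance.maxHeartbeats 400000

universe u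

open CategoryTheory CategoryTheory.Limits CategoryTheory.Pretriangulated Opposite TopologicalSpace AlgebraicGeometry

attribute [local instance] HasDerivedCategory.standard

noncomputable section

namespace Groth.Agent.DerCompLib.OpenAffine

section Generic

variable {C D : Type u} [SmallCategory C] [SmallCategory D] {J : GrothendieckTopology C}
  {K : GrothendieckTopology D} {OC : Sheaf J CommRingCat.{u}} {OD : Sheaf K CommRingCat.{u}}
  (S : SecData OC OD) [PreservesFiniteLimits S.F] [PreservesFiniteColimits S.F]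

/-- Vanishing of cohomology of sections passes back along an exact direct image. -/
theorem subsingleton_hom_back
    (hkinj : ∀ (L : CochainComplex (ModSite.Mod OC) ℤ), L.IsKInjective → (pushCx S L).IsKInjective)
    (E : D) (K' : DerivedCategory (ModSite.Mod OC)) (p : ℤ)
    (h : Subsingleton (SiteCmp.inD OD (ModSite.freeOn OD E) ⟶ (S.F.mapDerivedCategory.obj K')⟦p⟧)) :
    Subsingleton (SiteCmp.inD OC (ModSite.freeOn OC (S.fn.obj E)) ⟶ K'⟦p⟧) := by
  obtain ⟨L, hL, -, ⟨eL⟩⟩ := exists_kInj_rep K'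
  haveI := hkinj L hL
  let eN : S.F.mapDerivedCategory.obj K' ≅ DerivedCategory.Q.obj (pushCx S L) :=
    S.F.mapDerivedCategory.mapIso eL ≪≫ S.F.mapDerivedCategoryFactors.app L
  refine (subsingleton_iff_forall_eq 0).2 ((DCat.Amplitude.from_shift_iff eL (ModSite.freeOn OC (S.fn.obj E)) p).2
    ((DCat.Amplitude.from_single_iff L _ p).2 fun φ hφ => ?_))
  let y := (S.secF (L.X p) E).symm (secEquiv (S.fn.obj E) (L.X p) φ)
  have hy : secMap ((pushCx S L).d p (p + 1)) E y = 0 := by
    rw [secF_symm_d, ← secEquiv_comp, hφ, map_zero, map_zero]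
  obtain ⟨k, hk⟩ := ((DCat.Amplitude.from_shift_iff eN (ModSite.freeOn OD E) p).trans
    (DCat.Amplitude.from_single_iff (pushCx S L) _ p)).1 (fun ψ => Subsingleton.elim ψ 0)
    ((secEquiv E ((pushCx S L).X p)).symm y) (by
      apply (secEquiv E _).injective
      rw [secEquiv_comp, AddEquiv.apply_symm_apply, map_zero, hy])
  refine ⟨(secEquiv _ _).symm (S.secF (L.X (p - 1)) E (secEquiv E _ k)), (secEquiv _ _).injective ?_⟩
  rw [secEquiv_comp, AddEquiv.apply_symm_apply, ← S.secF_map]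
  have h2 := congrArg (secEquiv E ((pushCx S L).X p)) hk
  rw [AddEquiv.apply_symm_apply, secEquiv_comp] at h2
  exact ((congrArg (S.secF (L.X p) E) h2).symm.trans (AddEquiv.apply_symm_apply _ _)).symm

end Generic

theorem subsingleton_adicCompletion {R : Type*} [CommRing R] (I : Ideal R) (M : Type*) [AddCommGroup M]
    [Module R M] [Subsingleton M] : Subsingleton (AdicCompletion I M) :=
  ⟨fun x y => AdicCompletion.ext fun n => by
    obtain ⟨a, ha⟩ := Submodule.Quotient.mk_surjective _ (x.val n)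
    obtain ⟨b, hb⟩ := Submodule.Quotient.mk_surjective _ (y.val n)
    rw [← ha, ← hb, Subsingleton.elim a b]⟩

theorem subsingleton_of_iso {A : Type*} [Category A] {P P' Q Q' : A} (e : P ≅ P') (e' : Q ≅ Q')
    (h : Subsingleton (P ⟶ Q)) : Subsingleton (P' ⟶ Q') :=
  ⟨fun x y => (cancel_epi e.hom).1 ((cancel_mono e'.inv).1 (h.elim _ _))⟩

/-- Completions of coherent modules have no higher cohomology on affine Noetherian schemes. -/
theorem subsingleton_compl (Y : Scheme.{u}) [IsAffine Y] [IsNoetherian Y] (I' : DerComp.IdealSh Y.sheaf)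
    [DerComp.HasDerCompletion Y.sheaf I'] {r : ℕ} (s : Fin r → DerComp.GSec Y.sheaf) (hgen : I'.IsGenBy s)
    (M : DerivedCategory (ModSite.Mod Y.sheaf)) (M₀ : ModSite.Mod Y.sheaf) (hM₀ : Coh.IsCoh (X := Y) M₀)
    (eM : M ≅ SiteCmp.inD Y.sheaf M₀) (p : ℤ) (hp : p ≠ 0) :
    Subsingleton (SiteCmp.inD Y.sheaf (ModSite.freeOn Y.sheaf (⊤ : Y.Opens)) ⟶
      ((DerComp.derCompletion Y.sheaf I').obj M).obj⟦p⟧) := by
  have hpsc : ∀ m : ℤ, DCoh.IsPseudoCoherentD (X := Y) m M := fun m =>
    DCat.PCTriangle.psc_iso eM.symm (psc_single Y M₀ hM₀ m)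
  let T : Ideal (DerComp.GSec Y.sheaf) := Ideal.span (Set.range s)
  have hT : ∀ t ∈ T, ∀ W, t.1 W ∈ I'.ideal W := fun t ht W => by
    induction ht using Submodule.span_induction with
    | mem x hx => obtain ⟨j, rfl⟩ := hx; exact hgen.1 j W
    | zero => exact (I'.ideal W).zero_mem
    | add x y _ _ h₁ h₂ => exact (I'.ideal W).add_mem h₁ h₂
    | smul c x _ h₁ => exact (I'.ideal W).mul_mem_left _ h₁
  obtain ⟨-, e, -⟩ := AffGamma.main T I'
    (isGenBy_ideal I' s hgen T (fun j => Ideal.subset_span ⟨j, rfl⟩) hT) M hpsc p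
  haveI : Coh.IsQCoh (X := Y) M₀ := hM₀.1
  haveI : Subsingleton (SiteCmp.inD Y.sheaf (ModSite.unit Y.sheaf) ⟶ M⟦p⟧) :=
    subsingleton_of_iso (Iso.refl _) ((shiftFunctor _ p).mapIso eM.symm) (subsingleton_unit_shift Y M₀ p hp)
  haveI := subsingleton_adicCompletion T (SiteCmp.inD Y.sheaf (ModSite.unit Y.sheaf) ⟶ M⟦p⟧)
  obtain ⟨θ₁⟩ := AffGamma.nonempty_unitIso Y
  obtain ⟨θ₂⟩ := AffGamma.nonempty_freeOnIso Y
  exact subsingleton_of_iso ((DerivedCategory.singleFunctor (ModSite.Mod Y.sheaf) 0).mapIso (θ₁.symm ≪≫ θ₂))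
    (Iso.refl _) e.toEquiv.subsingleton

variable {X : Scheme.{u}} {U : X.Opens}

theorem main [IsLocallyNoetherian X] (𝓘 : DerComp.IdealSh X.sheaf)
    (hqc : ∀ (V : X.affineOpens) (g : Γ(X, ↑V)), 𝓘.ideal (X.basicOpen g) =
      Ideal.map (X.presheaf.map (homOfLE (X.basicOpen_le g)).op).hom (𝓘.ideal ↑V))
    [DerComp.HasDerCompletion X.sheaf 𝓘] (F : ModSite.Mod X.sheaf) (hF : Coh.IsCoh (X := X) F) (hU : IsAffineOpen U) (p : ℤ)
    (hp : p ≠ 0) :
    Subsingleton (SiteCmp.inD X.sheaf (ModSite.freeOn X.sheaf U) ⟶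
      ((DerComp.derCompletion X.sheaf 𝓘).obj (SiteCmp.inD X.sheaf F)).obj⟦p⟧) := by
  haveI : IsAffine (U : Scheme.{u}) := hU
  haveI : IsNoetherian (U : Scheme.{u}) := { }
  obtain ⟨r, s, hgen, hspanX⟩ := exists_global 𝓘 hqc hU
  haveI := S13488.result (U : Scheme.{u}).sheaf s (idl X U 𝓘) hgen
  have hk := fun L (hL : CochainComplex.IsKInjective L) => haveI := hL; isKInjective_push X U L
  obtain ⟨κ⟩ := nonempty_completion_iso (sd X U) (fun M hM => haveI := hM; injective_F X U M)
    hk 𝓘 (idl X U 𝓘) (fun E f hf => Ideal.mem_comap.1 hf) s hgen hspanX (SiteCmp.inD X.sheaf F)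
  have h0 := subsingleton_compl (U : Scheme.{u}) (idl X U 𝓘) s hgen
    ((sd X U).F.mapDerivedCategory.obj (SiteCmp.inD X.sheaf F)) ((sd X U).F.obj F)
    (AmpleLib.isCoh_restrict U.ι F hF) (((sd X U).F.mapDerivedCategorySingleFunctor 0).app F) p hp
  have h1 := subsingleton_hom_back (sd X U) hk (⊤ : (U : Scheme.{u}).Opens) _ p
    (subsingleton_of_iso (Iso.refl _) ((shiftFunctor _ p).mapIso κ) h0)
  exact subsingleton_of_iso ((DerivedCategory.singleFunctor (ModSite.Mod X.sheaf) 0).mapIso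
    (eqToIso (congrArg (ModSite.freeOn X.sheaf) U.ι_image_top))) (Iso.refl _) h1

end Groth.Agent.DerCompLib.OpenAffine
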