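import Groth.Agent.DerCompLib.AffineCompl
import Groth.Agent.DerCompLib.SecData
import Groth.Agent.DerCompLib.KoszulRestr
import Groth.Agent.DerCompLib.SeqLimQcoh
import Groth.Agent.S13488
import Groth.Agent.DCat.JShriek

/-!
# Derived completion and restriction to an affine open subscheme
-/

set_option autoImplicit false
set_option backward.isDefEq.respectTransparency false
set_option linter.style.haveILetI false
set_option maxHeartbeats 800000
set_option synthInstance.maxHeartbeats 400000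

universe u

open CategoryTheory CategoryTheory.Limits CategoryTheory.Pretriangulated Opposite TopologicalSpace AlgebraicGeometry

attribute [local instance] HasDerivedCategory.standard

noncomputable section

namespace Groth.Agent.DerCompLib

section Global

variable {C : Type u} [SmallCategory C] {J : GrothendieckTopology C} {O : Sheaf J CommRingCat.{u}}

/-- Global generators span locally. -/
theorem locallyInSpan_of_global (I : DerComp.IdealSh O) {r : ℕ} (s : Fin r → DerComp.GSec O)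
    (h : I.IsGenBy s) (V : C) {W : C} {f : O.obj.obj (op W)} (hf : f ∈ I.ideal W) :
    LocallyInSpan (fun j => (s j).1 V) f := by
  refine (mem_localSpanSh _ f).1 (h.2 (localSpanSh fun j => (s j).1 V) (fun j U => ?_) W hf)
  refine (mem_localSpanSh _ _).2 fun X k g => ⟨⊤, J.top_mem _, fun Y m _ => Ideal.subset_span ⟨j, ?_⟩⟩
  exact (DerComp.GSec.compat (s j) (m ≫ k)).trans (DerComp.GSec.compat (s j) (m ≫ g)).symm

/-- Enlarging a finite generating family to the ideal it spans. -/
theorem isGenBy_ideal (I : DerComp.IdealSh O) {r : ℕ} (s : Fin r → DerComp.GSec O) (h : I.IsGenBy s)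
    (T : Ideal (DerComp.GSec O)) (hs : ∀ j, s j ∈ T) (hT : ∀ t ∈ T, ∀ W, t.1 W ∈ I.ideal W) :
    I.IsGenBy fun t : T => (t : DerComp.GSec O) :=
  ⟨fun t W => hT t t.2 W, fun I' hI' => h.2 I' fun j W => hI' ⟨s j, hs j⟩ W⟩

end Global

section Exact

variable {C D : Type u} [SmallCategory C] [SmallCategory D] {J : GrothendieckTopology C}
  {K : GrothendieckTopology D} {OC : Sheaf J CommRingCat.{u}} {OD : Sheaf K CommRingCat.{u}}
  (S : SecData OC OD) (L : CochainComplex (ModSite.Mod OC) ℤ)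

/-- The cohomology of sections of a direct image. -/
theorem bijective_secHCmp_id (E : D) (i : ℤ) : Function.Bijective (secHCmp S L (𝟙 (pushCx S L)) E i) := by
  constructor
  · rw [injective_iff_map_eq_zero]
    intro y hy
    obtain ⟨x, rfl⟩ := Submodule.mkQ_surjective _ y
    obtain ⟨w, hw⟩ := (secH_mk_eq_zero (cycCmp S L (𝟙 (pushCx S L)) E i x)).1 hy
    refine (secH_mk_eq_zero x).2 ⟨S.secF _ E w, ?_⟩
    rw [← S.secF_map]
    exact (congrArg (S.secF _ E) hw).trans ((S.secF _ E).apply_symm_apply _)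
  · intro y
    obtain ⟨y, rfl⟩ := Submodule.mkQ_surjective _ y
    have hy : secMap (L.d i (i + 1)) (S.fn.obj E) (S.secF _ E (y : Sec ((pushCx S L).X i) E)) = 0 := by
      rw [← S.secF_map]
      exact (congrArg (S.secF _ E) (LinearMap.mem_ker.1 y.2)).trans (map_zero _)
    refine ⟨(secBdry L (S.fn.obj E) i).mkQ ⟨_, hy⟩, ?_⟩
    change (secBdry (pushCx S L) E i).mkQ _ = _
    exact congrArg _ (Subtype.ext ((S.secF _ E).symm_apply_apply _))

/-- Completeness of cohomology of sections of a direct image. -/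
theorem mem_secIdeal_push_iff (E : D) (f : OD.obj.obj (op E)) :
    f ∈ secIdeal (pushCx S L) E ↔ S.σ E f ∈ secIdeal L (S.fn.obj E) := by
  rw [mem_secIdeal, mem_secIdeal]
  exact forall_congr' fun i => (isComplElt_congr
    (AddEquiv.ofBijective (secHCmp S L (𝟙 (pushCx S L)) E i) (bijective_secHCmp_id S L E i))
    (fun y => secHCmp_smul S L (𝟙 (pushCx S L)) E i f y)).symm

/-- Koszul vanishing passes to a direct image which is its own resolution. -/
theorem isZero_kos_pushExact (U : D) {r : ℕ} (a : Fin r → OD.obj.obj (op U)) [L.IsKInjective]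
    [(pushCx S L).IsKInjective]
    (h : IsZero (DerivedCategory.Q.obj
      ((kos (gList (sigmaFam S U a))).obj (restrCx L (S.fn.obj U))))) :
    IsZero (DerivedCategory.Q.obj ((kos (gList a)).obj (restrCx (pushCx S L) U))) := by
  rw [isZero_Q_iff]
  refine acyclic_of_overSec fun X => ?_
  rw [← isZero_Q_iff]
  let X' : Over (S.fn.obj U) := Over.mk (S.fn.map X.hom)
  let R := OD.obj.obj (op X.left)
  let σ := S.σ X.left
  let RS := ModuleCat.restrictScalars.{u} σ
  let G := overSec (O := OC) (S.fn.obj U) X' ⋙ RS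
  let F := overSec (O := OD) U X
  haveI : RS.Additive := inferInstance
  haveI : G.Additive := inferInstance
  let l' : List R := List.ofFn fun j => gVal (O := OD) U X (DerComp.GSec.ofSect OD U (a j))
  have hrel : List.Forall₂ (fun (t : DerComp.GSec (OC.over (S.fn.obj U))) (t' : R) =>
      ∀ M, G.map (t • 𝟙 M) = t' • 𝟙 (G.obj M)) (gList (sigmaFam S U a)) l' := by
    refine List.forall₂_iff_get.2 ⟨by simp [l'], fun k h₁ h₂ M => ?_⟩
    simp only [List.get_eq_getElem, List.getElem_ofFn, l']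
    refine (congrArg RS.map (overSec_smul (S.fn.obj U) X' M _)).trans ?_
    refine ModuleCat.hom_ext (LinearMap.ext fun (y : (overSec (S.fn.obj U) X').obj M) => ?_)
    change gVal (O := OC) (S.fn.obj U) X' (DerComp.GSec.ofSect OC (S.fn.obj U) _) • y =
      σ (gVal (O := OD) U X (DerComp.GSec.ofSect OD U _)) • y
    exact congrArg (· • y) (S.σ_res X.hom _)
  obtain ⟨eG⟩ := nonempty_iso_map_kos' G _ l' hrel (restrCx L (S.fn.obj U))
  obtain ⟨eF⟩ := nonempty_iso_map_kos F (gVal (O := OD) U X)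
    (fun M s => overSec_smul U X M s) (gList a) (restrCx (pushCx S L) U)
  refine IsZero.of_iso ?_ (DerivedCategory.Q.mapIso eF)
  rw [List.map_ofFn]
  haveI : (restrCx L (S.fn.obj U)).IsKInjective :=
    isKInjective_map_of_adj (ModSite.extZeroAdj OC (S.fn.obj U)) L
  haveI := isKInjective_kos (gList (sigmaFam S U a)) (restrCx L (S.fn.obj U))
  have hG : IsZero (DerivedCategory.Q.obj ((kos l').obj
      ((G.mapHomologicalComplex (ComplexShape.up ℤ)).obj (restrCx L (S.fn.obj U))))) :=
    IsZero.of_iso ((isZero_Q_iff _).2 (acyclic_map_of_kInj G ((isZero_Q_iff _).1 h)))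
      (DerivedCategory.Q.mapIso eG).symm
  let c : ∀ i, G.obj ((restrCx L (S.fn.obj U)).X i) ≅ F.obj ((restrCx (pushCx S L) U).X i) := fun i =>
    LinearEquiv.toModuleIso (X₁ := G.obj ((restrCx L (S.fn.obj U)).X i))
      (X₂ := F.obj ((restrCx (pushCx S L) U).X i))
      { (S.secF (L.X i) X.left).symm with
        map_smul' := fun t (x : Sec (L.X i) (S.fn.obj X.left)) => by
          change (S.secF _ X.left).symm (S.σ X.left t • x) = t • (S.secF _ X.left).symm x
          refine (S.secF _ X.left).injective ?_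
          rw [AddEquiv.apply_symm_apply, S.secF_smul, AddEquiv.apply_symm_apply] }
  let φ : (G.mapHomologicalComplex (ComplexShape.up ℤ)).obj (restrCx L (S.fn.obj U)) ≅
      (F.mapHomologicalComplex (ComplexShape.up ℤ)).obj (restrCx (pushCx S L) U) :=
    HomologicalComplex.Hom.isoOfComponents c (fun i j _ => by
      ext (x : Sec (L.X i) (S.fn.obj X.left))
      exact secF_symm_d S L X.left i j x)
  exact isZero_kos_congr l' (DerivedCategory.Q.mapIso φ) hG

/-- An exact direct image which preserves generators commutes with derived completion. -/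
theorem nonempty_completion_iso [PreservesFiniteLimits S.F] [PreservesFiniteColimits S.F]
    (hinj : ∀ (M : ModSite.Mod OC), Injective M → Injective (S.F.obj M))
    (hkinj : ∀ (L : CochainComplex (ModSite.Mod OC) ℤ), L.IsKInjective → (pushCx S L).IsKInjective)
    (I : DerComp.IdealSh OC) [DerComp.HasDerCompletion OC I] (I' : DerComp.IdealSh OD) [DerComp.HasDerCompletion OD I']
    (hmap : ∀ (E : D) (f : OD.obj.obj (op E)), f ∈ I'.ideal E → S.σ E f ∈ I.ideal (S.fn.obj E))
    {r : ℕ} (s : Fin r → DerComp.GSec OD) (hgen : I'.IsGenBy s)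
    (hspan : ∀ (W : D) (P : C) (f : OC.obj.obj (op P)), f ∈ I.ideal P →
        LocallyInSpan (sigmaFam S W fun j => (s j).1 W) f) (K₀ : DerivedCategory (ModSite.Mod OC)) :
    Nonempty (((DerComp.derCompletion OD I').obj (S.F.mapDerivedCategory.obj K₀)).obj ≅
      S.F.mapDerivedCategory.obj ((DerComp.derCompletion OC I).obj K₀).obj) := by
  let K' := ((DerComp.derCompletion OC I).obj K₀).obj
  let η := DerComp.toDerCompletion I K₀
  let R := S.F.mapDerivedCategory
  obtain ⟨L, hL, hLI, ⟨eL⟩⟩ := exists_kInj_rep K'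
  haveI := hkinj L hL
  let eN : R.obj K' ≅ DerivedCategory.Q.obj (pushCx S L) :=
    R.mapIso eL ≪≫ S.F.mapDerivedCategoryFactors.app L
  have hNI : ∀ i, Injective ((pushCx S L).X i) := fun i => hinj (L.X i) (hLI i)
  have hK' : DerComp.IsDerComp OD I' (R.obj K') := by
    rw [isDerComp_iff_secIdeal (pushCx S L) hNI eN I']
    intro E f hf
    rw [mem_secIdeal_push_iff S L E f]
    exact (isDerComp_iff_secIdeal L hLI eL I).1
      ((DerComp.derCompletion OC I).obj K₀).property _ (hmap E f hf)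
  let M := R.obj K₀
  let u := ((DerComp.derCompletionAdj OD I').homEquiv M ⟨_, hK'⟩).symm (R.map η)
  have hu : DerComp.toDerCompletion I' M ≫ (DerComp.IsDerComp OD I').ι.map u = R.map η :=
    ((DerComp.derCompletionAdj OD I').homEquiv_unit (f := u)).symm.trans
      (Equiv.apply_symm_apply _ _)
  haveI : IsIso ((DerComp.IsDerComp OD I').ι.map u) := by
    obtain ⟨Z, q₁, q₂, hT⟩ := distinguished_cocone_triangle ((DerComp.IsDerComp OD I').ι.map u)
    refine (Triangle.isZero₃_iff_isIso₁ _ hT).1 ?_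
    have hZ : DerComp.IsDerComp OD I' Z := isDerComp_obj₃ I' _ hT
      ((DerComp.derCompletion OD I').obj _).property hK'
    refine isZero_of_complete_of_cover I' hZ fun V => ⟨⊤, K.top_mem _,
      fun W g _ => ⟨r, fun j => (s j).1 W, fun j => hgen.1 j W, ?_⟩⟩
    refine (kz_obj₃_iff (O := OD) _ _ hT).2 (KZMor.of_comp _ ?_
      (kzMor_toDerCompletion _ I' (fun W' f hf => locallyInSpan_of_global I' s hgen W hf) M))
    change KZMor _ (_ ≫ (DerComp.IsDerComp OD I').ι.map u)
    rw [hu]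
    obtain ⟨C₀, c₁, c₂, hC⟩ := distinguished_cocone_triangle η
    refine (kz_obj₃_iff _ _ (R.map_distinguished _ hC)).1 ?_
    have hkz := (kz_obj₃_iff (O := OC) (sigmaFam S W fun j => (s j).1 W) _ hC).2
      (kzMor_toDerCompletion _ I (fun P f hf => hspan W P f hf) _)
    obtain ⟨L₀, hL₀, -, ⟨e₀⟩⟩ := exists_kInj_rep C₀
    haveI := hkinj L₀ hL₀
    refine kz_of_isZero _ (restrCx (pushCx S L₀) W)
      ((restrD W).mapIso (R.mapIso e₀ ≪≫ S.F.mapDerivedCategoryFactors.app L₀) ≪≫ restrDQ W _) ?_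
    exact isZero_kos_pushExact S L₀ W _
      (hkz.isZero _ (restrCx L₀ (S.fn.obj W)) ((restrD _).mapIso e₀ ≪≫ restrDQ _ L₀))
  exact ⟨asIso ((DerComp.IsDerComp OD I').ι.map u)⟩

end Exact

namespace OpenAffine

variable (X : Scheme.{u}) (U : X.Opens)

/-- The restriction functor on modules. -/
abbrev F0 : ModSite.Mod X.sheaf ⥤ ModSite.Mod (U : Scheme.{u}).sheaf := Scheme.Modules.restrictFunctor U.ι

/-- The data of restriction to an open subscheme. -/
def sd : SecData X.sheaf (U : Scheme.{u}).sheaf where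
  fn := U.ι.opensFunctor
  G := DCat.JShriek.shriek U.ι
  F := Scheme.Modules.restrictFunctor U.ι
  adj := DCat.JShriek.shriekAdj U.ι
  σ E := (U.ι.appIso E).inv.hom
  σ_res {E E'} h r := (ConcreteCategory.congr_hom (U.ι.appIso_inv_naturality h.op) r).symm
  secF N E :=
    { toFun := fun y => y
      invFun := fun y => y
      left_inv := fun _ => rfl
      right_inv := fun _ => rfl
      map_add' := fun _ _ => rfl }
  secF_smul N E r y := rfl
  secF_res N {E E'} h y := rfl
  secF_map q E y := rfl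

instance : PreservesFiniteLimits (sd X U).F :=
  haveI := DCat.JShriek.preservesLimits_restrict U.ι
  inferInstanceAs (PreservesFiniteLimits (Scheme.Modules.restrictFunctor U.ι))

instance : PreservesFiniteColimits (sd X U).F :=
  haveI := (Scheme.Modules.restrictAdjunction U.ι).leftAdjoint_preservesColimits
  inferInstanceAs (PreservesFiniteColimits (Scheme.Modules.restrictFunctor U.ι))

theorem injective_F (M : ModSite.Mod X.sheaf) [Injective M] : Injective ((sd X U).F.obj M) := by
  haveI : PreservesFiniteLimits (DCat.JShriek.shriek U.ι) := inferInstance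
  haveI : (DCat.JShriek.shriek U.ι).PreservesMonomorphisms := inferInstance
  haveI : (sd X U).G.PreservesMonomorphisms := DCat.JShriek.preservesMonomorphisms_shriek U.ι
  exact (sd X U).adj.map_injective M inferInstance

theorem isKInjective_push (L : CochainComplex (ModSite.Mod X.sheaf) ℤ) [L.IsKInjective] :
    (pushCx (sd X U) L).IsKInjective :=
  DCat.OpenDerived.isKInjective_restrict (X := X) U.ι L

/-- The ideal sheaf induced on an open subscheme. -/
def idl (𝓘 : DerComp.IdealSh X.sheaf) : DerComp.IdealSh (U : Scheme.{u}).sheaf where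
  ideal W := (𝓘.ideal (U.ι ''ᵁ W)).comap (U.ι.appIso W).inv.hom
  map_mem {W W'} g f hf := by
    rw [Ideal.mem_comap] at hf ⊢
    have h := (sd X U).σ_res g f
    exact h ▸ 𝓘.map_mem (U.ι.opensFunctor.map g) hf
  glue {W f} T hT hloc := by
    rw [Ideal.mem_comap]
    refine 𝓘.glue (Sieve.functorPushforward U.ι.opensFunctor T) ?_ ?_
    · rintro x ⟨y, hy, rfl⟩
      obtain ⟨W', g, hg, hy'⟩ := hT y hy
      exact ⟨U.ι ''ᵁ W', U.ι.opensFunctor.map g, Sieve.image_mem_functorPushforward _ _ hg,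
        ⟨y, hy', rfl⟩⟩
    · rintro P k ⟨W', g, m, hg, rfl⟩
      have h1 : (U.ι.appIso W').inv.hom _ ∈ 𝓘.ideal (U.ι ''ᵁ W') := Ideal.mem_comap.1 (hloc g hg)
      have h2 := (sd X U).σ_res g f
      have h3 := 𝓘.map_mem m (h2.symm ▸ h1 : (X.sheaf.obj.map ((sd X U).fn.map g).op).hom _ ∈ _)
      exact (res_res (O := X.sheaf) (U.ι.opensFunctor.map g) m _) ▸ h3

variable {X U}

theorem exists_gens [IsLocallyNoetherian X] (𝓘 : DerComp.IdealSh X.sheaf)
    (hqc : ∀ (V : X.affineOpens) (g : Γ(X, ↑V)), 𝓘.ideal (X.basicOpen g) =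
      Ideal.map (X.presheaf.map (homOfLE (X.basicOpen_le g)).op).hom (𝓘.ideal ↑V))
    (hU : IsAffineOpen U) :
    ∃ (r : ℕ) (a : Fin r → Γ(X, U)), (∀ j, a j ∈ 𝓘.ideal U) ∧
      ∀ (P : X.Opens) (_ : P ≤ U) (f : Γ(X, P)), f ∈ 𝓘.ideal P → ∀ x ∈ P, ∃ (D : X.Opens) (hD : D ≤ P) (h' : D ≤ U),
        x ∈ D ∧ (X.sheaf.obj.map (homOfLE hD).op).hom f ∈
          resSpan (O := X.sheaf) a (homOfLE h') := by
  haveI : IsNoetherianRing Γ(X, U) := IsLocallyNoetherian.component_noetherian ⟨U, hU⟩
  obtain ⟨r, a, ha⟩ := Submodule.fg_iff_exists_fin_generating_family.1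
    (IsNoetherian.noetherian (R := Γ(X, U)) (M := Γ(X, U)) (𝓘.ideal U))
  refine ⟨r, a, fun j => ha.le (Submodule.subset_span ⟨j, rfl⟩), fun P hP f hf x hx => ?_⟩
  obtain ⟨g, hg, hxg⟩ := hU.exists_basicOpen_le (V := P) ⟨x, hx⟩ (hP hx)
  refine ⟨X.basicOpen g, hg, X.basicOpen_le g, hxg, ?_⟩
  have h1 : (X.presheaf.map (homOfLE hg).op).hom f ∈ 𝓘.ideal (X.basicOpen g) := 𝓘.map_mem (homOfLE hg) hf
  rw [hqc ⟨U, hU⟩ g, ← ha] at h1
  have h2 : Ideal.map (X.presheaf.map (homOfLE (X.basicOpen_le g)).op).hom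
      (Submodule.span Γ(X, U) (Set.range a)) ≤ resSpan (O := X.sheaf) a (homOfLE (X.basicOpen_le g)) := by
    rw [← Ideal.span, Ideal.map_span, ← Set.range_comp]
    exact le_rfl
  exact h2 h1

/-- A section of the structure sheaf over `U` as a global section of the open subscheme. -/
def gsec (a : Γ(X, U)) : DerComp.GSec (U : Scheme.{u}).sheaf :=
  ⟨fun W => (U.ι.appIso W).hom.hom ((X.presheaf.map (homOfLE (U.ι_image_le W)).op).hom a), fun W W' g => by
    simp only [Scheme.Opens.ι_appIso]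
    exact res_res (O := X.sheaf) (homOfLE (U.ι_image_le W)) (U.ι.opensFunctor.map g) a⟩

theorem σ_gsec (a : Γ(X, U)) (W : (U : Scheme.{u}).Opens) :
    (sd X U).σ W ((gsec a).1 W) = (X.presheaf.map (homOfLE (U.ι_image_le W)).op).hom a := by
  show (U.ι.appIso W).inv.hom ((U.ι.appIso W).hom.hom _) = _
  rw [← CommRingCat.comp_apply, Iso.hom_inv_id]
  rfl

/-- Maps from the structure sheaf into shifts of a quasi-coherent module on an affine scheme. -/
theorem subsingleton_unit_shift (Y : Scheme.{u}) [IsAffine Y] (M : Y.Modules) [Coh.IsQCoh M] (q : ℤ) (hq : q ≠ 0) :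
    Subsingleton (SiteCmp.inD Y.sheaf (ModSite.unit Y.sheaf) ⟶ (SiteCmp.inD Y.sheaf M)⟦q⟧) := by
  obtain ⟨θ⟩ := AffGamma.nonempty_unitIso Y
  obtain ⟨κ⟩ := AffGamma.nonempty_iso_of_corep (C := ModSite.Mod Y.sheaf) (fun q x => secMap q (⊤ : Y.Opens) x)
    (AffGamma.homEv Y) (P := (AffGamma.L Y).obj (ModuleCat.of _ _)) (Q := (Coherent.freeModOn Y).obj ⊤)
    (fun N => Coherent.freeModOnEquiv ⊤ N) (fun g q => AffGamma.homEv_comp Y g q)
    (fun g q => Coherent.freeModOnEquiv_comp ⊤ g q)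
  haveI h := SeqLimQcoh.subsingleton_pt_shift M (isAffineOpen_top Y) q hq
  let S0 := DerivedCategory.singleFunctor Y.Modules 0
  let i : (Coherent.freeModOn Y).obj ⊤ ≅ (SheafOfModules.unit Y.ringCatSheaf : Y.Modules) := κ.symm ≪≫ θ
  let i' := S0.mapIso i
  have h' : Subsingleton (S0.obj ((Coherent.freeModOn Y).obj ⊤) ⟶ (S0.obj M)⟦q⟧) := h
  exact ⟨fun x y => (cancel_epi i'.hom).1 (h'.elim _ _)⟩

theorem exists_global [IsLocallyNoetherian X] (𝓘 : DerComp.IdealSh X.sheaf)
    (hqc : ∀ (V : X.affineOpens) (g : Γ(X, ↑V)), 𝓘.ideal (X.basicOpen g) =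
      Ideal.map (X.presheaf.map (homOfLE (X.basicOpen_le g)).op).hom (𝓘.ideal ↑V)) (hU : IsAffineOpen U) :
    ∃ (r : ℕ) (s : Fin r → DerComp.GSec (U : Scheme.{u}).sheaf), (idl X U 𝓘).IsGenBy s ∧
      ∀ (W : (U : Scheme.{u}).Opens) (P : X.Opens) (f : Γ(X, P)), f ∈ 𝓘.ideal P →
        LocallyInSpan (O := X.sheaf) (sigmaFam (sd X U) W fun j => (s j).1 W) f := by
  obtain ⟨r, a, haI, hspan⟩ := exists_gens 𝓘 hqc hU
  let Y : Scheme.{u} := U
  let I' := idl X U 𝓘
  let s : Fin r → DerComp.GSec Y.sheaf := fun j => gsec (a j)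
  have hs : ∀ j W, (s j).1 W ∈ I'.ideal W := fun j W => by
    show (s j).1 W ∈ (𝓘.ideal (U.ι ''ᵁ W)).comap _
    rw [Ideal.mem_comap]
    exact (σ_gsec (a j) W).symm ▸ 𝓘.map_mem (homOfLE (U.ι_image_le W)) (haI j)
  have hgen : I'.IsGenBy s := by
    refine ⟨hs, fun I'' hI'' W f hf => ?_⟩
    have hf' : (U.ι.appIso W).inv.hom f ∈ 𝓘.ideal (U.ι ''ᵁ W) := Ideal.mem_comap.1 hf
    refine I''.glue
      ({ arrows := fun W' g => (U.ι.appIso W').inv.hom ((Y.sheaf.obj.map g.op).hom f) ∈
            resSpan (O := X.sheaf) a (homOfLE (U.ι_image_le W'))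
         downward_closed := fun {W₁ W₂ g} hg m => by
          have := res_mem_resSpan (O := X.sheaf) a _ (U.ι.opensFunctor.map m) hg
          have h2 := (sd X U).σ_res m ((Y.sheaf.obj.map g.op).hom f)
          rw [res_res] at h2
          exact h2 ▸ this } : Sieve W) ?_ ?_
    · intro y hy
      obtain ⟨D, hD, hD', hxD, hmem⟩ := hspan _ (U.ι_image_le W) _ hf' (U.ι y) ⟨y, hy, rfl⟩
      refine ⟨W ⊓ U.ι ⁻¹ᵁ D, homOfLE inf_le_left, ?_, hy, hxD⟩
      have hle : U.ι ''ᵁ (W ⊓ U.ι ⁻¹ᵁ D) ≤ D := by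
        rintro _ ⟨z, hz, rfl⟩
        exact hz.2
      have h1 := res_mem_resSpan (O := X.sheaf) a _ (homOfLE hle) hmem
      have h2 := (sd X U).σ_res (homOfLE (inf_le_left : W ⊓ U.ι ⁻¹ᵁ D ≤ W)) f
      rw [res_res] at h1
      have h3 : (X.sheaf.obj.map ((sd X U).fn.map (homOfLE (inf_le_left : W ⊓ U.ι ⁻¹ᵁ D ≤ W))).op).hom ((sd X U).σ W f) ∈
          resSpan (O := X.sheaf) a (homOfLE (U.ι_image_le (W ⊓ U.ι ⁻¹ᵁ D))) := h1
      rw [h2] at h3
      exact h3
    · intro W' g hg
      have h1 : resSpan (O := X.sheaf) a (homOfLE (U.ι_image_le W')) ≤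
          (I''.ideal W').comap (U.ι.appIso W').hom.hom := by
        rw [resSpan, Ideal.span_le]
        rintro _ ⟨j, rfl⟩
        exact hI'' j W'
      have h2 := Ideal.mem_comap.1 (h1 hg)
      have e := ConcreteCategory.congr_hom (U.ι.appIso W').inv_hom_id ((Y.sheaf.obj.map g.op).hom f)
      exact e ▸ h2
  -- the generators span the ideal sheaf of `X` locally over every open inside `U`
  have hspanX : ∀ (W : Y.Opens) (P : X.Opens) (f : Γ(X, P)), f ∈ 𝓘.ideal P →
      LocallyInSpan (O := X.sheaf) (sigmaFam (sd X U) W fun j => (s j).1 W) f := by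
    intro W P f hf Q k g
    refine ⟨{ arrows := fun Q' m => (X.sheaf.obj.map (m ≫ g).op).hom f ∈
          resSpan (O := X.sheaf) (sigmaFam (sd X U) W fun j => (s j).1 W) (m ≫ k)
              downward_closed := fun {Q₁ Q₂ m} hm m' => by
                have := res_mem_resSpan (O := X.sheaf) _ _ m' hm
                rw [res_res, ← Category.assoc, ← Category.assoc] at this
                exact this }, ?_, fun Q' m hm => hm⟩
    intro x hx
    obtain ⟨D, hD, hD', hxD, hmem⟩ := hspan Q ((leOfHom k).trans (U.ι_image_le W)) _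
      (𝓘.map_mem g hf) x hx
    refine ⟨D, homOfLE hD, ?_, hxD⟩
    show (X.sheaf.obj.map (homOfLE hD ≫ g).op).hom f ∈ _
    rw [← res_res]
    refine (?_ : resSpan (O := X.sheaf) a (homOfLE hD') ≤ _) hmem
    rw [resSpan, Ideal.span_le]
    rintro _ ⟨j, rfl⟩
    refine Ideal.subset_span ⟨j, ?_⟩
    simp only [sigmaFam, s, σ_gsec]
    exact res_res (O := X.sheaf) _ _ _
  exact ⟨r, s, hgen, hspanX⟩

theorem psc_single (Y : Scheme.{u}) [IsNoetherian Y] (M : Y.Modules) (hM : Coh.IsCoh M) (m : ℤ) :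
    DCoh.IsPseudoCoherentD m (DCoh.inD Y M) := by
  haveI : Coh.IsQCoh M := hM.1
  haveI : DerivedCategory.IsLE (DCoh.inD Y M) 0 := inferInstanceAs (DerivedCategory.IsLE ((DerivedCategory.singleFunctor Y.Modules 0).obj M) 0)
  refine DQCoh.psc_of_isCoh _ (SeqLimQcoh.isQCohD_single M) 0 m fun i _ => ?_
  by_cases hi : i = 0
  · subst hi
    let ee := ((DerivedCategory.singleFunctorCompHomologyFunctorIso Y.Modules 0).app M).symm
    exact ⟨Coherent.isQCoh_of_iso ee (h := hM.1), Coherent.isFT_of_epi ee.hom hM.2⟩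
  · exact Coherent.isCoh_of_isZero (SeqLimQcoh.isZero_HD_single M i hi)

end OpenAffine

end Groth.Agent.DerCompLib
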