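import Groth.Agent.DerCompLib.RlimTower
import Groth.Agent.SiteTen.AwayTensor

/-!
# The derived hom out of `O_s` is the derived limit of the tower of multiplications by `s`
-/

set_option autoImplicit false
set_option backward.isDefEq.respectTransparency false

universe u

open CategoryTheory CategoryTheory.Limits Opposite Pretriangulated

attribute [local instance] HasDerivedCategory.standard

namespace Groth.Agent.DerCompLib

open SiteTen

variable {C : Type u} [SmallCategory C] {J : GrothendieckTopology C} {O : Sheaf J CommRingCat.{u}}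
  (s : DerComp.GSec O) [ModSite.HasLTensorCx (awayCx s)] [DerComp.HasRHom (awayCx s)]

/-- The evaluation `RHom(O_s, K) ⟶ K`. -/
noncomputable def rhomEval (K : DerivedCategory (ModSite.Mod O)) : (DerComp.RHom (awayCx s)).obj K ⟶ K :=
  (gamma s).app _ ≫ (DerComp.RHomAdj (awayCx s)).counit.app K

/-- `s` is invertible on `RHom(O_s, K)`. -/
theorem isIso_smul_rhom (K : DerivedCategory (ModSite.Mod O)) :
    IsIso (s • 𝟙 ((DerComp.RHom (awayCx s)).obj K)) := by
  let R := (DerComp.RHom (awayCx s)).obj K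
  haveI := isIso_smul_ltensor s R
  let v : (ModSite.LTensorCx (awayCx s)).obj R ⟶ K :=
    inv (s • 𝟙 ((ModSite.LTensorCx (awayCx s)).obj R)) ≫ (DerComp.RHomAdj (awayCx s)).counit.app K
  have h : (s • 𝟙 R) ≫ (DerComp.RHomAdj (awayCx s)).homEquiv _ _ v = 𝟙 R := by
    refine ((DerComp.RHomAdj (awayCx s)).homEquiv_naturality_left (s • 𝟙 R) v).symm.trans ?_
    rw [ltensor_map_smul, IsIso.hom_inv_id_assoc]
    exact ((DerComp.RHomAdj (awayCx s)).homEquiv_unit _ _ _).trans
      ((DerComp.RHomAdj (awayCx s)).right_triangle_components K)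
  exact ⟨_, h, by rwa [Linear.comp_smul, Category.comp_id, ← Category.id_comp ((DerComp.RHomAdj (awayCx s)).homEquiv _ _ v), ← Linear.smul_comp]⟩

/-- Maps into `RHom(O_s, K)` from an object on which `s` is invertible. -/
theorem bijective_comp_rhomEval {Z : DerivedCategory (ModSite.Mod O)} (hZ : IsIso (s • 𝟙 Z))
    (K : DerivedCategory (ModSite.Mod O)) :
    Function.Bijective fun h : Z ⟶ (DerComp.RHom (awayCx s)).obj K => h ≫ rhomEval s K := by
  haveI := isIso_gamma s hZ
  have e : (fun h : Z ⟶ (DerComp.RHom (awayCx s)).obj K => h ≫ rhomEval s K) =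
      fun h => (asIso ((gamma s).app Z)).homFromEquiv.symm (((DerComp.RHomAdj (awayCx s)).homEquiv Z K).symm h) := by
    funext h
    simp [rhomEval, Adjunction.homEquiv_counit]
    exact (((gamma s).naturality_assoc h) _)
  rw [e]
  exact (Equiv.bijective _).comp (Equiv.bijective _)

/-- A cocone of the difference map is `RHom(O_s, K)`. -/
theorem nonempty_iso_rhom (K : DerivedCategory (ModSite.Mod O)) [HasProduct fun _ : ℕ => K]
    {L : DerivedCategory (ModSite.Mod O)} {a : L ⟶ ∏ᶜ fun _ : ℕ => K}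
    {c : (∏ᶜ fun _ : ℕ => K) ⟶ L⟦(1 : ℤ)⟧}
    (hT : Triangle.mk a (towerDiff s K) c ∈ distTriang _) :
    Nonempty (L ≅ (DerComp.RHom (awayCx s)).obj K) := by
  have hL := isIso_smul_tower s K hT
  have hR := isIso_smul_rhom s K
  obtain ⟨f, hf⟩ := (bijective_comp_rhomEval s hL K).2 (a ≫ Pi.π _ 0)
  obtain ⟨g, hg⟩ := (bijective_comp_tower s K hT hR).2 (rhomEval s K)
  dsimp only at hf hg
  exact ⟨f, g, (bijective_comp_tower s K hT hL).1 (by
      dsimp only; rw [Category.assoc, hg, hf, Category.id_comp]),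
    (bijective_comp_rhomEval s hR K).1 (by
      dsimp only; rw [Category.assoc, hf, hg, Category.id_comp])⟩

/-- `RHom(O_s, K)` is a derived limit of the tower. -/
theorem isT_rhom (K : DerivedCategory (ModSite.Mod O)) [HasProduct fun _ : ℕ => K] :
    DerComp.IsT s K ((DerComp.RHom (awayCx s)).obj K) := by
  obtain ⟨L, a, c, hT⟩ := distinguished_cocone_triangle₁ (towerDiff s K)
  obtain ⟨e⟩ := nonempty_iso_rhom s K hT
  refine ⟨e.inv ≫ a, c ≫ e.hom⟦(1 : ℤ)⟧', isomorphic_distinguished _ hT _ ?_⟩
  exact Triangle.isoMk _ _ e.symm (Iso.refl _) (Iso.refl _) (by simp [Triangle.mk])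
    ((Category.comp_id _).trans (Category.id_comp _).symm)
    (by simp [Triangle.mk, ← Functor.map_comp])

end Groth.Agent.DerCompLib
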