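import Groth.Agent.DerCompLib.TowerQis
import Groth.Agent.DerCompLib.KoszulRpush
import Groth.Agent.SiteTen.AwayTensor

/-!
# Derived completeness of the derived hom
-/

set_option autoImplicit false
set_option backward.isDefEq.respectTransparency false

universe u

open CategoryTheory CategoryTheory.Limits Opposite HomologicalComplex
open Groth.Agent.DCat

attribute [local instance] HasDerivedCategory.standard

namespace Groth.Agent.DerCompLib

open SiteTen

variable {C : Type u} [SmallCategory C] {J : GrothendieckTopology C} {O : Sheaf J CommRingCat.{u}}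

/-- Maps out of the image of a left adjoint into a K-injective complex. -/
theorem subsingleton_hom_of_adj {A B : Type (u + 1)} [Category.{u} A] [Category.{u} B] [Abelian A] [Abelian B]
    {F : A ⥤ B} {G : B ⥤ A} [F.Additive] [G.Additive] (adj : F ⊣ G) (Y : CochainComplex A ℤ)
    (M : CochainComplex B ℤ) [M.IsKInjective]
    [CochainComplex.IsKInjective ((G.mapHomologicalComplex (ComplexShape.up ℤ)).obj M)]
    (h : Subsingleton (DerivedCategory.Q.obj Y ⟶
      DerivedCategory.Q.obj ((G.mapHomologicalComplex (ComplexShape.up ℤ)).obj M))) :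
    Subsingleton (DerivedCategory.Q.obj ((F.mapHomologicalComplex (ComplexShape.up ℤ)).obj Y) ⟶
      DerivedCategory.Q.obj M) := by
  refine subsingleton_of_forall_eq 0 fun φ => ?_
  obtain ⟨ψ, rfl⟩ := DCat.Amplitude.exists_Q_map_eq
    (CochainComplex.IsKInjective.Qh_map_bijective _ _) φ
  let χ : Y ⟶ (G.mapHomologicalComplex (ComplexShape.up ℤ)).obj M :=
    { f := fun n => adj.homEquiv _ _ (ψ.f n)
      comm' := fun i j _ => by
        change adj.homEquiv _ _ (ψ.f i) ≫ G.map (M.d i j) = Y.d i j ≫ adj.homEquiv _ _ (ψ.f j)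
        rw [← Adjunction.homEquiv_naturality_right, ← Adjunction.homEquiv_naturality_left]
        exact congrArg _ (ψ.comm i j) }
  let ε : (F.mapHomologicalComplex (ComplexShape.up ℤ)).obj
      ((G.mapHomologicalComplex (ComplexShape.up ℤ)).obj M) ⟶ M :=
    { f := fun n => adj.counit.app (M.X n)
      comm' := fun i j _ => (adj.counit.naturality (M.d i j)).symm }
  have hψ : (F.mapHomologicalComplex (ComplexShape.up ℤ)).map χ ≫ ε = ψ :=
    HomologicalComplex.hom_ext _ _ fun n => adj.homEquiv_counit _ _ _ |>.symm.trans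
      ((adj.homEquiv _ _).symm_apply_apply _)
  obtain ⟨h₀⟩ : Nonempty (Homotopy χ 0) := by
    refine ⟨HomotopyCategory.homotopyOfEq _ _ ?_⟩
    apply (CochainComplex.IsKInjective.Qh_map_bijective _ _).1
    rw [← cancel_mono ((DerivedCategory.quotientCompQhIso A).hom.app _)]
    exact ((DerivedCategory.quotientCompQhIso A).hom.naturality χ).trans
      ((congrArg (_ ≫ ·) (h.elim _ _)).trans
        ((DerivedCategory.quotientCompQhIso A).hom.naturality 0).symm)
  have h₁ : DerivedCategory.Q.map ((F.mapHomologicalComplex (ComplexShape.up ℤ)).map χ) = 0 :=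
    (DerivedCategory.Q_map_eq_of_homotopy B (F.mapHomotopy h₀)).trans (by simp)
  rw [← hψ, Functor.map_comp, h₁, zero_comp]

/-- Complete objects receive no map from extensions by zero of complexes on which `f` is invertible. -/
theorem subsingleton_hom_extZero (I : DerComp.IdealSh O) {L : DerivedCategory (ModSite.Mod O)}
    (hL : DerComp.IsDerComp O I L) (U : C) (f : O.obj.obj (op U)) (hf : f ∈ I.ideal U)
    (Y : CochainComplex (ModSite.Mod (O.over U)) ℤ) (hY : IsIso (DerComp.GSec.ofSect O U f • 𝟙 Y)) :
    Subsingleton (DerivedCategory.Q.obj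
      (((ModSite.extZero O U).mapHomologicalComplex (ComplexShape.up ℤ)).obj Y) ⟶ L) := by
  obtain ⟨M, hM, hMI, ⟨e⟩⟩ := exists_kInj_rep L
  haveI : (restrCx M U).IsKInjective := isKInjective_map_of_adj (ModSite.extZeroAdj O U) M
  have hMc : DerComp.IsDerComp O I (DerivedCategory.Q.obj M) := fun V g hg n =>
    haveI := hL V g hg n
    ((shiftFunctor _ n).mapIso e).homToEquiv.symm.subsingleton
  have hI' : ∀ i, Injective ((restrCx M U).X i) := fun i =>
    haveI := hMI i
    (ModSite.restr O U).injective_obj_of_injective (hMI i)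
  have hr := (isDerComp_iff_secIdeal (restrCx M U) hI' (Iso.refl _) (I.over U)).1
    (isDerComp_restr I U M hMI hMc)
  haveI := subsingleton_hom_of_secIdeal (DerComp.GSec.ofSect O U f) (restrCx M U) hI'
    (fun W => hr W (I.map_mem W.hom hf)) Y hY
  haveI := subsingleton_hom_of_adj (ModSite.extZeroAdj O U) Y M ‹_›
  exact e.homToEquiv.subsingleton

variable (P : CochainComplex (ModSite.Mod O) ℤ)

/-- The total complex against an extension by zero in degree zero. -/
noncomputable def totExtSingleIso (U : C) (A : ModSite.Mod (O.over U)) :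
    tot (tT O) P ((HomologicalComplex.single (ModSite.Mod O) (ComplexShape.up ℤ) 0).obj
        ((ModSite.extZero O U).obj A)) ≅
      ((ModSite.extZero O U).mapHomologicalComplex (ComplexShape.up ℤ)).obj
        ((((tT (O.over U)).obj A).mapHomologicalComplex (ComplexShape.up ℤ)).obj (restrCx P U)) :=
  (asIso (totSingle (tT O) ((ModSite.extZero O U).obj A) P)).symm ≪≫
    (NatIso.mapHomologicalComplex (tenFlipIso ((ModSite.extZero O U).obj A) ≪≫
      (projShRightIso A).symm) (ComplexShape.up ℤ)).app P

/-- Multiplication by `f` on `O_f ⊗ P|U`. -/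
theorem isIso_smul_away_restr (U : C) (f : O.obj.obj (op U)) :
    IsIso (DerComp.GSec.ofSect O U f • 𝟙 ((((tT (O.over U)).obj
      (DerComp.awayOver O U f)).mapHomologicalComplex (ComplexShape.up ℤ)).obj (restrCx P U))) := by
  let s := DerComp.GSec.ofSect O U f
  haveI := isIso_smul_locAway s (ModSite.unit (O.over U))
  haveI : ∀ p, IsIso ((s • 𝟙 ((((tT (O.over U)).obj
      (DerComp.awayOver O U f)).mapHomologicalComplex (ComplexShape.up ℤ)).obj (restrCx P U))).f p) := fun p => by
    change IsIso (s • 𝟙 (((tT (O.over U)).obj (DerComp.awayOver O U f)).obj ((restrCx P U).X p)))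
    rw [← tT_map_app_smul]
    infer_instance
  exact HomologicalComplex.Hom.isIso_of_components _

variable [ModSite.HasLTensorCx P] [DerComp.HasRHom P]

/-- The derived hom into a complete object is complete. -/
theorem isDerComp_rhom (I : DerComp.IdealSh O) {L : DerivedCategory (ModSite.Mod O)}
    (hL : DerComp.IsDerComp O I L) : DerComp.IsDerComp O I ((DerComp.RHom P).obj L) := by
  intro U f hf n
  let A := DerComp.awayOver O U f
  let T₀ := (ModSite.extZero O U).obj A
  let S := (HomologicalComplex.single (ModSite.Mod O) (ComplexShape.up ℤ) 0).obj T₀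
  let Z := (((tT (O.over U)).obj A).mapHomologicalComplex (ComplexShape.up ℤ)).obj (restrCx P U)
  haveI := subsingleton_hom_extZero I (isDerComp_shift I hL n) U f hf Z (isIso_smul_away_restr P U f)
  have hflat : ModSite.IsFlat T₀ :=
    isFlat_extZero U (isFlat_locAway_unit (DerComp.GSec.ofSect O U f))
  haveI := hflat.1
  haveI := hflat.2
  have hk : IsKFlatFor (tT O) (S⟦-n⟧) := (isKFlatFor_single (T := tT O) 0).shift (-n)
  let i₁ : (SiteCmp.inD O T₀)⟦-n⟧ ≅ DerivedCategory.Q.obj (S⟦-n⟧) :=
    (shiftFunctor _ (-n)).mapIso ((DerivedCategory.singleFunctorIsoCompQ _ 0).app T₀) ≪≫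
      ((DerivedCategory.Q.commShiftIso (-n)).app S).symm
  let i₂ : (ModSite.LTensorCx P).obj ((SiteCmp.inD O T₀)⟦-n⟧) ≅
      (DerivedCategory.Q.obj (((ModSite.extZero O U).mapHomologicalComplex (ComplexShape.up ℤ)).obj Z))⟦-n⟧ :=
    (ModSite.LTensorCx P).mapIso i₁ ≪≫ ltensorIso P hk ≪≫
      DerivedCategory.Q.mapIso (totSymm (S⟦-n⟧) P ≪≫
        CochainComplex.mapBifunctorShift₂Iso P S (tT O) (-n) ≪≫
        (shiftFunctor _ (-n)).mapIso (totExtSingleIso P U A)) ≪≫
      (DerivedCategory.Q.commShiftIso (-n)).app _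
  let e (X Y : DerivedCategory (ModSite.Mod O)) : (X ⟶ Y⟦n⟧) ≃ (X⟦-n⟧ ⟶ Y) :=
    ((shiftEquiv (DerivedCategory (ModSite.Mod O)) n).symm.toAdjunction.homEquiv X Y).symm
  exact ((e _ _).trans (((DerComp.RHomAdj P).homEquiv _ _).symm.trans
    (i₂.homFromEquiv.trans (e _ _).symm))).subsingleton

end Groth.Agent.DerCompLib
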