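import Groth.Agent.DerCompLib.KoszulNil
import Groth.Agent.SiteTen.ExtZeroTot

/-!
# Derived hom and cones along generators
-/

set_option autoImplicit false
set_option backward.isDefEq.respectTransparency false

universe u

open CategoryTheory CategoryTheory.Limits Opposite HomologicalComplex CategoryTheory.Pretriangulated
open Groth.Agent.DCat

attribute [local instance] HasDerivedCategory.standard

namespace Groth.Agent.DerCompLib

open SiteTen

section Adj

variable {A B : Type (u + 1)} [Category.{u} A] [Category.{u} B] [Abelian A] [Abelian B]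
  {F : A ⥤ B} {G : B ⥤ A} [F.Additive] [G.Additive]

/-- Maps out of the image of a left adjoint into a K-injective complex. -/
theorem nonempty_equiv_adj_Q (adj : F ⊣ G) (Y : CochainComplex A ℤ)
    (M : CochainComplex B ℤ) [M.IsKInjective]
    [CochainComplex.IsKInjective ((G.mapHomologicalComplex (ComplexShape.up ℤ)).obj M)] :
    Nonempty ((DerivedCategory.Q.obj ((F.mapHomologicalComplex (ComplexShape.up ℤ)).obj Y) ⟶
        DerivedCategory.Q.obj M) ≃
      (DerivedCategory.Q.obj Y ⟶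
        DerivedCategory.Q.obj ((G.mapHomologicalComplex (ComplexShape.up ℤ)).obj M))) := by
  let q := HomotopyCategory.quotient B (ComplexShape.up ℤ)
  let q' := HomotopyCategory.quotient A (ComplexShape.up ℤ)
  let c := DerivedCategory.quotientCompQhIso B
  let c' := DerivedCategory.quotientCompQhIso A
  exact ⟨(Iso.homCongr (c.app _) (c.app M)).symm.trans
    ((Equiv.ofBijective _ (CochainComplex.IsKInjective.Qh_map_bijective (q.obj
      ((F.mapHomologicalComplex (ComplexShape.up ℤ)).obj Y)) M)).symm.trans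
    (((DCat.adjHot (ComplexShape.up ℤ) adj).homEquiv (q'.obj Y) (q.obj M)).trans
    ((Equiv.ofBijective _ (CochainComplex.IsKInjective.Qh_map_bijective (q'.obj Y)
      ((G.mapHomologicalComplex (ComplexShape.up ℤ)).obj M))).trans
        (Iso.homCongr (c'.app Y) (c'.app _)))))⟩

end Adj

variable {C : Type u} [SmallCategory C] {J : GrothendieckTopology C} {O : Sheaf J CommRingCat.{u}}
  {V : C}

/-- Orthogonality and extension by zero. -/
theorem orth_extZero_iff (Y : CochainComplex (ModSite.Mod (O.over V)) ℤ)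
    (E : DerivedCategory (ModSite.Mod O)) :
    Orth (DerivedCategory.Q.obj (((ModSite.extZero O V).mapHomologicalComplex (ComplexShape.up ℤ)).obj Y)) E ↔
      Orth (DerivedCategory.Q.obj Y) ((restrD V).obj E) := by
  refine forall_congr' fun n => ?_
  obtain ⟨M, hM, -, ⟨e⟩⟩ := exists_kInj_rep (E⟦n⟧)
  haveI : CochainComplex.IsKInjective (((ModSite.restr O V).mapHomologicalComplex (ComplexShape.up ℤ)).obj M) :=
    isKInjective_map_of_adj (ModSite.extZeroAdj O V) M
  obtain ⟨φ⟩ := nonempty_equiv_adj_Q (ModSite.extZeroAdj O V) Y M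
  let e' : ((restrD V).obj E)⟦n⟧ ≅ DerivedCategory.Q.obj (restrCx M V) :=
    (((restrD V).commShiftIso n).app E).symm ≪≫ (restrD V).mapIso e ≪≫ restrDQ V M
  exact ((e.homToEquiv.trans φ).trans e'.homToEquiv.symm).subsingleton_congr

variable {r : ℕ} (a : Fin r → O.obj.obj (op V))

/-- `KZ`, tested on extensions by zero of nilpotent complexes. -/
theorem kz_iff (E : DerivedCategory (ModSite.Mod O)) :
    KZ a E ↔ ∀ Y : CochainComplex (ModSite.Mod (O.over V)) ℤ,
      NilOn (gList a) (DerivedCategory.Q.obj Y) →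
        Orth (DerivedCategory.Q.obj
          (((ModSite.extZero O V).mapHomologicalComplex (ComplexShape.up ℤ)).obj Y)) E := by
  let e : (restrD V).obj E ≅ DerivedCategory.Q.obj (restrCx (DerivedCategory.Q.objPreimage E) V) :=
    ((restrD V).mapIso (DerivedCategory.Q.objObjPreimageIso E)).symm ≪≫ restrDQ V _
  constructor
  · intro h Y hY
    exact (orth_extZero_iff Y E).2
      ((orth_of_isZero_kos (gList a) hY _ (h.isZero a _ e)).of_iso (Iso.refl _) e.symm)
  · intro h
    exact kz_of_isZero a _ e (isZero_kos_of_forall (gList a) _ fun Y hY =>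
      ((orth_extZero_iff Y E).1 (h Y hY)).of_iso (Iso.refl _) e)

variable (P : CochainComplex (ModSite.Mod O) ℤ) [ModSite.HasLTensorCx P] [DerComp.HasRHom P]

/-- Composition with `RHom(P, η)` is bijective on maps from nilpotent objects. -/
theorem bijective_comp_rhom {G G' W : DerivedCategory (ModSite.Mod O)} {η : G ⟶ G'} {p : G' ⟶ W}
    {q : W ⟶ G⟦(1 : ℤ)⟧} (hT : Triangle.mk η p q ∈ distTriang _) (hW : KZ a W)
    (Y : CochainComplex (ModSite.Mod (O.over V)) ℤ) (hY : NilOn (gList a) (DerivedCategory.Q.obj Y))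
    (n : ℤ) :
    Function.Bijective fun f : DerivedCategory.Q.obj
        (((ModSite.extZero O V).mapHomologicalComplex (ComplexShape.up ℤ)).obj Y) ⟶
          ((DerComp.RHom P).obj G)⟦n⟧ => f ≫ ((DerComp.RHom P).map η)⟦n⟧' := by
  obtain ⟨N, hN, -, ⟨i⟩⟩ := exists_kflat_rep (DerivedCategory.Q.obj Y)
  let E := (ModSite.extZero O V).mapHomologicalComplex (ComplexShape.up ℤ)
  let P' := ((ModSite.restr O V).mapHomologicalComplex (ComplexShape.up ℤ)).obj P
  let Z := tot (tT (O.over V)) N P'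
  have hZ : NilOn (gList a) (DerivedCategory.Q.obj Z) := fun t ht => by
    obtain ⟨k, hk⟩ := hY.of_iso i.symm t ht
    exact ⟨k, smul_tot_eq_zero hN P' _ hk⟩
  have hb := bijective_comp_of_orth _ hT ((kz_iff a W).1 hW Z hZ) n
  let S := DerivedCategory.Q.obj (E.obj Y)
  have hSN : Nonempty (S ≅ DerivedCategory.Q.obj (E.obj N)) := by
    haveI := extZero_preservesFiniteLimits O V
    haveI : (ModSite.extZero O V).IsLeftAdjoint := (ModSite.extZeroAdj O V).isLeftAdjoint
    exact ⟨((ModSite.extZero O V).mapDerivedCategoryFactors.app Y).symm ≪≫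
      ((ModSite.extZero O V).mapDerivedCategory.mapIso i).symm ≪≫
      (ModSite.extZero O V).mapDerivedCategoryFactors.app N⟩
  obtain ⟨e₀⟩ := hSN
  obtain ⟨e₁⟩ : Nonempty (((ModSite.LTensorCx P).obj (S⟦-n⟧)) ≅
      (DerivedCategory.Q.obj (E.obj Z))⟦-n⟧) := by
    exact ⟨(ModSite.LTensorCx P).mapIso ((shiftFunctor _ (-n)).mapIso e₀ ≪≫
        ((DerivedCategory.Q.commShiftIso (-n)).app _).symm) ≪≫
      ltensorIso P ((isKFlatFor_extZero V hN).shift (-n)) ≪≫
      DerivedCategory.Q.mapIso (CochainComplex.mapBifunctorShift₁Iso (E.obj N) P (tT O) (-n) ≪≫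
        (shiftFunctor _ (-n)).mapIso (extTotIso V N P).symm) ≪≫
      (DerivedCategory.Q.commShiftIso (-n)).app _⟩
  let adj := (shiftEquiv (DerivedCategory (ModSite.Mod O)) n).symm.toAdjunction
  let φ : ∀ X : DerivedCategory (ModSite.Mod O),
      (DerivedCategory.Q.obj (E.obj Z) ⟶ X⟦n⟧) ≃ (S ⟶ ((DerComp.RHom P).obj X)⟦n⟧) := fun X =>
    (adj.homEquiv _ X).symm.trans (e₁.homFromEquiv.symm.trans
      (((DerComp.RHomAdj P).homEquiv _ _).trans (adj.homEquiv _ _)))
  have hφ : ∀ g, φ G' (g ≫ η⟦n⟧') = φ G g ≫ ((DerComp.RHom P).map η)⟦n⟧' := fun g => by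
    change adj.homEquiv _ _ ((DerComp.RHomAdj P).homEquiv _ _
      (e₁.hom ≫ (adj.homEquiv _ _).symm (g ≫ η⟦n⟧'))) = _
    rw [show (adj.homEquiv _ _).symm (g ≫ η⟦n⟧') = (adj.homEquiv _ _).symm g ≫ η from
        adj.homEquiv_naturality_right_symm g η, ← Category.assoc,
      Adjunction.homEquiv_naturality_right]
    exact adj.homEquiv_naturality_right _ _
  have : (fun f : S ⟶ ((DerComp.RHom P).obj G)⟦n⟧ => f ≫ ((DerComp.RHom P).map η)⟦n⟧') =
      φ G' ∘ (fun g => g ≫ η⟦n⟧') ∘ (φ G).symm := funext fun f => by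
    change _ = φ G' ((φ G).symm f ≫ η⟦n⟧')
    rw [hφ, Equiv.apply_symm_apply]
  rw [this]
  exact (φ G').bijective.comp (hb.comp (φ G).symm.bijective)

/-- `RHom(P, -)` sends maps with cone killed along `a` to such maps: the criterion for the third object
of a composite. -/
theorem kz_rhom {G G' W : DerivedCategory (ModSite.Mod O)} {η : G ⟶ G'} {p : G' ⟶ W}
    {q : W ⟶ G⟦(1 : ℤ)⟧} (hT : Triangle.mk η p q ∈ distTriang _) (hW : KZ a W)
    {H W₁ W₂ : DerivedCategory (ModSite.Mod O)} {u : (DerComp.RHom P).obj G ⟶ H}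
    {v : H ⟶ (DerComp.RHom P).obj G'} (huv : u ≫ v = (DerComp.RHom P).map η) {p₁ : H ⟶ W₁}
    {q₁ : W₁ ⟶ ((DerComp.RHom P).obj G)⟦(1 : ℤ)⟧} (hu : Triangle.mk u p₁ q₁ ∈ distTriang _)
    (hW₁ : KZ a W₁) {p₂ : (DerComp.RHom P).obj G' ⟶ W₂} {q₂ : W₂ ⟶ H⟦(1 : ℤ)⟧}
    (hv : Triangle.mk v p₂ q₂ ∈ distTriang _) : KZ a W₂ := by
  refine (kz_iff a W₂).2 fun Y hY => orth_tri_right _ hv fun n => ?_
  let S := DerivedCategory.Q.obj (((ModSite.extZero O V).mapHomologicalComplex (ComplexShape.up ℤ)).obj Y)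
  have h₁ : Function.Bijective fun f : S ⟶ ((DerComp.RHom P).obj G)⟦n⟧ => f ≫ u⟦n⟧' :=
    bijective_comp_of_orth _ hu ((kz_iff a W₁).1 hW₁ Y hY) n
  have h₂ := bijective_comp_rhom a P hT hW Y hY n
  rw [show (fun f : S ⟶ ((DerComp.RHom P).obj G)⟦n⟧ => f ≫ ((DerComp.RHom P).map η)⟦n⟧') =
      (fun f : S ⟶ H⟦n⟧ => f ≫ v⟦n⟧') ∘ (fun f => f ≫ u⟦n⟧') from
    funext fun f => by simp [← huv]] at h₂
  exact (Function.Bijective.of_comp_iff _ h₁).1 h₂

end Groth.Agent.DerCompLib
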