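import Mathlib.CategoryTheory.Triangulated.Pretriangulated
import Mathlib.CategoryTheory.Linear.LinearFunctor
import Mathlib.CategoryTheory.Limits.Shapes.Products
import Mathlib.CategoryTheory.Triangulated.Triangulated

/-!
# Derived limits of constant towers of multiplications
-/

set_option autoImplicit false

universe v u w

open CategoryTheory CategoryTheory.Limits CategoryTheory.Category Pretriangulated

namespace Groth.Agent.DerCompLib

variable {R : Type w} [CommRing R] {D : Type u} [Category.{v} D] [Preadditive D] [HasZeroObject D]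
  [HasShift D ℤ] [∀ n : ℤ, (shiftFunctor D n).Additive] [Pretriangulated D] [Linear R D]
  [∀ n : ℤ, Functor.Linear R (shiftFunctor D n)]
  (s : R) (K : D) [HasProduct fun _ : ℕ => K]

/-- The difference map of the tower. -/
noncomputable abbrev towerDiff : (∏ᶜ fun _ : ℕ => K) ⟶ ∏ᶜ fun _ : ℕ => K :=
  Pi.lift fun n => Pi.π (fun _ : ℕ => K) n - Pi.π (fun _ : ℕ => K) (n + 1) ≫ (s • 𝟙 K)

/-- The shift of the product. -/
noncomputable abbrev towerShift : (∏ᶜ fun _ : ℕ => K) ⟶ ∏ᶜ fun _ : ℕ => K :=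
  Pi.lift fun n => Pi.π (fun _ : ℕ => K) (n + 1)

omit [HasZeroObject D] [HasShift D ℤ] [∀ n : ℤ, (shiftFunctor D n).Additive] in
lemma towerDiff_eq : towerDiff s K = 𝟙 _ - s • towerShift K := by
  refine Pi.hom_ext _ _ fun n => ?_
  simp [Preadditive.sub_comp, Linear.smul_comp, Linear.comp_smul]

omit [HasZeroObject D] [HasShift D ℤ] [∀ n : ℤ, (shiftFunctor D n).Additive] in
lemma towerDiff_surjective {Z : D} (hZ : IsIso (s • 𝟙 Z)) (h : Z ⟶ ∏ᶜ fun _ : ℕ => K) :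
    ∃ g, g ≫ towerDiff s K = h := by
  let x : ℕ → (Z ⟶ K) := Nat.rec 0 fun n g => inv (s • 𝟙 Z) ≫ (g - h ≫ Pi.π (fun _ : ℕ => K) n)
  refine ⟨Pi.lift x, Pi.hom_ext _ _ fun n => ?_⟩
  have hx : s • x (n + 1) = x n - h ≫ Pi.π (fun _ : ℕ => K) n :=
    calc s • x (n + 1) = (s • 𝟙 Z) ≫ x (n + 1) := by simp [Linear.smul_comp]
      _ = _ := IsIso.hom_inv_id_assoc _ _
  simp [Preadditive.comp_sub, Linear.comp_smul, hx]

omit [HasZeroObject D] [HasShift D ℤ] [∀ n : ℤ, (shiftFunctor D n).Additive] in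
lemma towerDiff_kernel {Z : D} (hZ : IsIso (s • 𝟙 Z)) (g : Z ⟶ ∏ᶜ fun _ : ℕ => K)
    (hg : g ≫ towerDiff s K = 0) (h₀ : g ≫ Pi.π _ 0 = 0) : g = 0 := by
  refine Pi.hom_ext _ _ fun n => ?_
  rw [zero_comp]
  induction n with
  | zero => exact h₀
  | succ n ih =>
    have h := congrArg (· ≫ Pi.π (fun _ : ℕ => K) n) hg
    simp only [assoc, Pi.lift_π, Preadditive.comp_sub, ih, zero_sub, zero_comp, neg_eq_zero,
      Linear.comp_smul, comp_id] at h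
    rw [← cancel_epi (s • 𝟙 Z), comp_zero, Linear.smul_comp, id_comp]
    exact h

omit [HasZeroObject D] [HasShift D ℤ] [∀ n : ℤ, (shiftFunctor D n).Additive] in
lemma towerDiff_extend {Z : D} (hZ : IsIso (s • 𝟙 Z)) (f : Z ⟶ K) :
    ∃ g : Z ⟶ ∏ᶜ fun _ : ℕ => K, g ≫ towerDiff s K = 0 ∧ g ≫ Pi.π _ 0 = f := by
  let x : ℕ → (Z ⟶ K) := Nat.rec f fun _ g => inv (s • 𝟙 Z) ≫ g
  refine ⟨Pi.lift x, Pi.hom_ext _ _ fun n => ?_, Pi.lift_π _ _⟩
  have hx : s • x (n + 1) = x n :=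
    calc s • x (n + 1) = (s • 𝟙 Z) ≫ x (n + 1) := by simp [Linear.smul_comp]
      _ = _ := IsIso.hom_inv_id_assoc _ _
  simp [Preadditive.comp_sub, Linear.comp_smul, hx]

variable {L : D} {a : L ⟶ ∏ᶜ fun _ : ℕ => K} {c : (∏ᶜ fun _ : ℕ => K) ⟶ L⟦(1 : ℤ)⟧}
  (hT : Triangle.mk a (towerDiff s K) c ∈ distTriang D)

lemma isIso_smul_shift {Z : D} (hZ : IsIso (s • 𝟙 Z)) : IsIso (s • 𝟙 (Z⟦(1 : ℤ)⟧)) := by
  rw [show s • 𝟙 (Z⟦(1 : ℤ)⟧) = (shiftFunctor D (1 : ℤ)).map (s • 𝟙 Z) by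
    rw [Functor.map_smul, CategoryTheory.Functor.map_id]]
  infer_instance

include hT in
/-- Maps from an object on which `s` is invertible into the derived limit. -/
theorem bijective_comp_tower {Z : D} (hZ : IsIso (s • 𝟙 Z)) :
    Function.Bijective fun g : Z ⟶ L => g ≫ a ≫ Pi.π _ 0 := by
  have hδ : a ≫ towerDiff s K = 0 := comp_distTriang_mor_zero₁₂ _ hT
  have hδc : towerDiff s K ≫ c = 0 := comp_distTriang_mor_zero₂₃ _ hT
  refine ⟨fun g g' hgg => ?_, fun f => ?_⟩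
  · rw [← sub_eq_zero] at hgg ⊢
    simp only [← assoc, ← Preadditive.sub_comp] at hgg
    generalize g - g' = g₀ at hgg ⊢
    have h₁ : g₀ ≫ a = 0 := towerDiff_kernel s K hZ _ (by rw [assoc, hδ, comp_zero]) hgg
    obtain ⟨h, hh⟩ := Triangle.coyoneda_exact₁ _ hT (g₀⟦(1 : ℤ)⟧')
      (by
        change g₀⟦(1 : ℤ)⟧' ≫ a⟦(1 : ℤ)⟧' = 0
        rw [← Functor.map_comp, h₁, Functor.map_zero])
    obtain ⟨h', rfl⟩ := towerDiff_surjective s K (isIso_smul_shift s hZ) h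
    refine (shiftFunctor D (1 : ℤ)).map_injective ?_
    rw [Functor.map_zero]
    refine hh.trans ?_
    change (h' ≫ towerDiff s K) ≫ c = 0
    rw [assoc, hδc, comp_zero]
  · obtain ⟨g, hg, hg₀⟩ := towerDiff_extend s K hZ f
    obtain ⟨g', hg'⟩ := Triangle.coyoneda_exact₂ _ hT g hg
    exact ⟨g', (Category.assoc g' a _).symm.trans ((congrArg (· ≫ _) hg'.symm).trans hg₀)⟩

include hT in
/-- Multiplication by `s` is invertible on the derived limit. -/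
theorem isIso_smul_tower : IsIso (s • 𝟙 L) := by
  have hδ : a ≫ towerDiff s K = 0 := comp_distTriang_mor_zero₁₂ _ hT
  have hδc : towerDiff s K ≫ c = 0 := comp_distTriang_mor_zero₂₃ _ hT
  have hcomm : towerDiff s K ≫ towerShift K = towerShift K ≫ towerDiff s K := by
    simp [towerDiff_eq, Preadditive.comp_sub, Preadditive.sub_comp, Linear.smul_comp, Linear.comp_smul]
  obtain ⟨φ, hφ₁, hφ₂⟩ : ∃ φ : L ⟶ L,
      a ≫ towerShift K = φ ≫ a ∧ c ≫ φ⟦(1 : ℤ)⟧' = towerShift K ≫ c :=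
    complete_distinguished_triangle_morphism₁ _ _ hT hT (towerShift K) (towerShift K) hcomm
  let ψ : L ⟶ L := s • φ - 𝟙 L
  have hψa : ψ ≫ a = 0 := by
    have h : a ≫ towerDiff s K = a - s • (φ ≫ a) := by
      rw [towerDiff_eq, Preadditive.comp_sub, comp_id, Linear.comp_smul, hφ₁]
    rw [hδ] at h
    rw [show ψ ≫ a = s • (φ ≫ a) - a by simp [ψ, Preadditive.sub_comp, Linear.smul_comp],
      ← sub_eq_zero.1 h.symm, sub_self]
  obtain ⟨w, hw⟩ : ∃ w : L⟦(1 : ℤ)⟧ ⟶ ∏ᶜ fun _ : ℕ => K, ψ⟦(1 : ℤ)⟧' = w ≫ c :=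
    Triangle.coyoneda_exact₁ _ hT (ψ⟦(1 : ℤ)⟧') (by
      change ψ⟦(1 : ℤ)⟧' ≫ a⟦(1 : ℤ)⟧' = 0
      rw [← Functor.map_comp, hψa, Functor.map_zero])
  have hcψ : c ≫ ψ⟦(1 : ℤ)⟧' = 0 := by
    rw [show ψ⟦(1 : ℤ)⟧' = s • φ⟦(1 : ℤ)⟧' - 𝟙 _ by
        simp [ψ, Functor.map_sub, Functor.map_smul],
      Preadditive.comp_sub, Linear.comp_smul, hφ₂, comp_id]
    have h : towerDiff s K ≫ c = c - s • (towerShift K ≫ c) := by
      rw [towerDiff_eq, Preadditive.sub_comp, id_comp, Linear.smul_comp]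
    rw [hδc] at h
    rw [← sub_eq_zero.1 h.symm, sub_self]
  have hsq : ψ ≫ ψ = 0 := (shiftFunctor D (1 : ℤ)).map_injective (by
    rw [Functor.map_comp, Functor.map_zero]
    nth_rewrite 1 [hw]
    rw [assoc, hcψ, comp_zero])
  have hsφ : (s • φ) ≫ (𝟙 L - ψ) = 𝟙 L ∧ (𝟙 L - ψ) ≫ (s • φ) = 𝟙 L := by
    have e : s • φ = 𝟙 L + ψ := by simp [ψ]
    constructor <;>
      simp only [e, Preadditive.add_comp, Preadditive.comp_add, Preadditive.sub_comp,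
        Preadditive.comp_sub, id_comp, comp_id, hsq] <;> abel
  haveI : IsIso (s • φ) := ⟨𝟙 L - ψ, hsφ⟩
  haveI : IsIso ((s • 𝟙 L) ≫ φ) := by rw [Linear.smul_comp, id_comp]; infer_instance
  haveI : IsIso (φ ≫ (s • 𝟙 L)) := by rw [Linear.comp_smul, comp_id]; infer_instance
  haveI : Mono (s • 𝟙 L) := mono_of_mono (s • 𝟙 L) φ
  haveI : IsSplitEpi (s • 𝟙 L) := IsSplitEpi.mk' ⟨inv (φ ≫ (s • 𝟙 L)) ≫ φ, by simp [-Linear.comp_smul]⟩
  exact isIso_of_mono_of_isSplitEpi _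

end Groth.Agent.DerCompLib
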