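import Groth.Agent.DCat.KInjRes
import Mathlib.Algebra.Homology.HomotopyCategory.Pretriangulated
import Mathlib.Algebra.Homology.HomotopyCategory.HomComplexShift

/-! Small object arguments for families of monomorphisms of complexes; contractible cones. -/

set_option autoImplicit false
set_option backward.isDefEq.respectTransparency false
set_option backward.defeqAttrib.useBackward true

universe w' v u

open CategoryTheory CategoryTheory.Limits HomologicalComplex MorphismProperty
  CochainComplex.HomComplex

namespace Groth.Agent.DerCompLib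

variable {A : Type u} [Category.{v} A] [Abelian A]

section SmallObject

variable [IsGrothendieckAbelian.{v} A]

/-- Small families of monomorphisms of complexes permit the small object argument. -/
theorem hasSmallObjectArgument_ofHoms {J : Type w'} [Small.{v} J] {X Y : J → CochainComplex A ℤ}
    (j : ∀ i, X i ⟶ Y i) [∀ i, Mono (j i)] :
    HasSmallObjectArgument.{v} (ofHoms j) := by
  obtain ⟨κ, hκ', hκ⟩ := HasCardinalLT.exists_regular_cardinal.{v}
    (Shrink.{v} (Σ i : J, Subobject (X i)))
  have : Fact κ.IsRegular := ⟨hκ'⟩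
  have : Nonempty κ.ord.ToType := by simpa using hκ'.ne_zero
  have := WellFoundedLT.toOrderBot κ.ord.ToType
  have hle : ofHoms j ≤ monomorphisms (CochainComplex A ℤ) := by
    rintro _ _ _ ⟨i⟩
    exact inferInstanceAs (Mono _)
  refine ⟨κ, inferInstance, inferInstance,
    { preservesColimit {A' B' X' Y'} i hi f hf := ?_ }⟩
  let hf' : (monomorphisms (CochainComplex A ℤ)).TransfiniteCompositionOfShape κ.ord.ToType f :=
    { toTransfiniteCompositionOfShape := hf.toTransfiniteCompositionOfShape
      map_mem k hk := by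
        have := (hf.attachCells k hk).pushouts_coproducts
        simp only [ofHoms_homFamily] at this
        refine (?_ : _ ≤ monomorphisms (CochainComplex A ℤ)) _ this
        simp only [pushouts_le_iff, coproducts_le_iff]
        exact hle }
  have (k k' : κ.ord.ToType) (φ : k ⟶ k') : Mono (hf'.F.map φ) := hf'.mem_map φ
  apply IsGrothendieckAbelian.preservesColimit_coyoneda_obj_of_mono (Y := hf'.F) (κ := κ)
  obtain ⟨s⟩ := hi
  exact hκ.of_injective (fun Z => equivShrink _ ⟨s, Z⟩) fun a b h =>
    eq_of_heq (Sigma.mk.inj ((equivShrink _).injective h)).2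

end SmallObject

section Cone

open CochainComplex

variable (M : CochainComplex A ℤ)

/-- The projection of a contractible cone. -/
noncomputable abbrev coneProj : mappingCone (𝟙 M) ⟶ M⟦(1 : ℤ)⟧ :=
  (mappingCone.triangle (𝟙 M)).mor₃

theorem isKInjective_cone : (mappingCone (𝟙 M)).IsKInjective :=
  ⟨fun {K} f _ => ⟨(Homotopy.ofEq (Category.comp_id f).symm).trans
    (((mappingCone.homotopyToZeroOfId M).compLeft f).trans (Homotopy.ofEq comp_zero))⟩⟩

theorem injective_cone (hM : ∀ n, Injective (M.X n)) (n : ℤ) :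
    Injective ((mappingCone (𝟙 M)).X n) := by
  haveI := hM (n + 1)
  haveI := hM n
  exact Injective.of_iso (homotopyCofiber.XIsoBiprod (𝟙 M) n (n + 1) rfl).symm inferInstance

/-- A null homotopic map lifts to the contractible cone. -/
theorem exists_lift_coneProj {X : CochainComplex A ℤ} (f : X ⟶ M⟦(1 : ℤ)⟧) (h : Homotopy f 0) :
    ∃ l : X ⟶ mappingCone (𝟙 M), l ≫ coneProj M = f := by
  obtain ⟨z₀, hz₀⟩ := Cochain.equivHomotopy f 0 h
  rw [Cochain.ofHom_zero, add_zero] at hz₀
  let z : Cochain X (M⟦(1 : ℤ)⟧) (-1) := -z₀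
  have hz : Cochain.ofHom (-f) = δ (-1) 0 z := by rw [δ_neg, ← hz₀, Cochain.ofHom_neg]
  let α : Cocycle X M 1 := (Cocycle.ofHom (-f)).rightUnshift 1 (zero_add 1)
  let β : Cochain X M 0 := z.rightUnshift 0 (by norm_num)
  have eq : δ 0 1 β + α.1.comp (Cochain.ofHom (𝟙 M)) (add_zero 1) = 0 := by
    rw [Cochain.comp_id, Cochain.δ_rightUnshift z 0 (by norm_num) 1 0 (zero_add 1), ← hz]
    simp [α, Int.negOnePow_one]
  refine ⟨mappingCone.lift (𝟙 M) α β eq, ?_⟩
  ext p
  have e := mappingCone.lift_f_fst_v (𝟙 M) α β eq p (p + 1) rfl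
  simp only [HomologicalComplex.comp_f, coneProj, mappingCone.triangle, Pretriangulated.Triangle.mk_mor₃,
    Cocycle.homOf_f, shiftFunctor_obj_X', Cocycle.rightShift_coe, Cocycle.coe_neg, Cochain.rightShift_neg, Cochain.neg_v,
    Preadditive.comp_neg,
    Cochain.rightShift_v _ 1 0 (zero_add 1) p p (add_zero p) (p + 1) rfl, reassoc_of% e]
  simp [α, Cochain.rightUnshift_v _ 1 (zero_add 1) p (p + 1) rfl p (add_zero p)]

/-- A null homotopic map extends to the contractible cone on its source. -/
theorem exists_desc_inr {X : CochainComplex A ℤ} (f : X ⟶ M) (h : Homotopy f 0) :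
    ∃ g : mappingCone (𝟙 X) ⟶ M, mappingCone.inr (𝟙 X) ≫ g = f := by
  obtain ⟨z, hz⟩ := Cochain.equivHomotopy f 0 h
  refine ⟨mappingCone.desc (𝟙 X) z f ?_, mappingCone.inr_desc _ _ _ _⟩
  rw [Category.id_comp, hz, Cochain.ofHom_zero, add_zero]

end Cone

end Groth.Agent.DerCompLib
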