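import Groth.Agent.DerCompLib.KoszulOrth

/-!
# No maps from objects on which `s` is invertible into objects complete for `s`
-/

set_option autoImplicit false
set_option backward.isDefEq.respectTransparency false

universe w v u

open CategoryTheory CategoryTheory.Limits Opposite

attribute [local instance] HasDerivedCategory.standard

namespace Groth.Agent.DerCompLib

variable {C : Type u} [SmallCategory C] {J : GrothendieckTopology C} {O : Sheaf J CommRingCat.{u}}

set_option maxHeartbeats 1600000 in
/-- A K-injective complex complete for `s` on all objects receives no map from a complex on which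
`s` is invertible. -/
theorem subsingleton_hom_of_secIdeal (s : DerComp.GSec O) (L : CochainComplex (ModSite.Mod O) ℤ)
    [L.IsKInjective] (hL : ∀ i, Injective (L.X i)) (h : ∀ W : C, s.1 W ∈ secIdeal L W)
    (F : CochainComplex (ModSite.Mod O) ℤ) (hF : IsIso (s • 𝟙 F)) :
    Subsingleton (DerivedCategory.Q.obj F ⟶ DerivedCategory.Q.obj L) := by
  let I : ℕ → CochainComplex (ModSite.Mod O) ℤ := fun _ => L
  let P : CochainComplex (ModSite.Mod O) ℤ := ∏ᶜ I
  have hP : P.IsKInjective := DCat.isKInjective_pi (productIsProduct I) fun _ => inferInstance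
  let T : P ⟶ P := Pi.lift fun k => Pi.π I k - Pi.π I (k + 1) ≫ smulCx s L
  let seq : ∀ (i : ℤ) (W : C), Sec (P.X i) W → (ℕ → Sec (L.X i) W) :=
    fun i W x k => secMap ((Pi.π I k).f i) W x
  have hseq : ∀ i W, Function.Bijective (seq i W) := fun i W =>
    bijective_sec_fan
      (isLimitFanMkObjOfIsLimit (HomologicalComplex.eval _ _ i) _ (Pi.π I) (productIsProduct I)) W
  have hseqT : ∀ i W x, seq i W (secMap (T.f i) W x) =
      telMap (Sec (L.X i) W) (s.1 W) (seq i W x) := fun i W x => funext fun k => by
    change secMap ((Pi.π I k).f i) W (secMap (T.f i) W x) = _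
    rw [← secMap_comp, ← HomologicalComplex.comp_f, Pi.lift_π]
    rfl
  have hseqd : ∀ i j W x k, seq j W (secMap (P.d i j) W x) k =
      secMap (L.d i j) W (seq i W x k) := fun i j W x k => by
    change secMap ((Pi.π I k).f j) W (secMap (P.d i j) W x) = _
    rw [← secMap_comp, ← (Pi.π I k).comm]
    rfl
  have hTsurj : ∀ i W, Function.Surjective (secMap (T.f i) W) := fun i W y => by
    haveI := hL i
    obtain ⟨x, hx⟩ := surjective_telMap_sec W (s.1 W) (L.X i) (seq i W y)
    obtain ⟨x, rfl⟩ := (hseq i W).2 x
    exact ⟨x, (hseq i W).1 ((hseqT i W x).trans hx)⟩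
  haveI : Epi T := by
    haveI : ∀ i, Epi (T.f i) := fun i => epi_of_surjective_sec _ (hTsurj i)
    exact HomologicalComplex.epi_of_epi_f _ inferInstance
  let S : ShortComplex (CochainComplex (ModSite.Mod O) ℤ) :=
    ShortComplex.mk (kernel.ι T) T (kernel.condition T)
  have hS : S.ShortExact :=
    { exact := ShortComplex.exact_of_f_is_kernel _ (kernelIsKernel T) }
  have hker : ∀ i W (y : Sec (P.X i) W), secMap (T.f i) W y = 0 →
      ∃ a, secMap ((kernel.ι T).f i) W a = y := by
    intro i W y hy
    have hex : (S.map (HomologicalComplex.eval (ModSite.Mod O) (ComplexShape.up ℤ) i)).Exact :=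
      (HomologicalComplex.exact_iff_degreewise_exact S).1 hS.exact i
    haveI : Mono (S.map (HomologicalComplex.eval (ModSite.Mod O) _ i)).f :=
      inferInstanceAs (Mono ((kernel.ι T).f i))
    have h0 : (secEquiv W _).symm y ≫ T.f i = 0 := (secEquiv W _).injective (by
      rw [secEquiv_comp, AddEquiv.apply_symm_apply, map_zero, hy])
    refine ⟨secEquiv W _ (hex.lift ((secEquiv W _).symm y) h0), ?_⟩
    rw [← secEquiv_comp]
    refine (congrArg (secEquiv W (P.X i)) ?_).trans (AddEquiv.apply_symm_apply _ _)
    exact hex.lift_f _ _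
  have hinj : ∀ i W, Function.Injective (secMap ((kernel.ι T).f i) W) := by
    intro i W x y hxy
    apply (secEquiv W _).symm.injective
    rw [← cancel_mono ((kernel.ι T).f i)]
    apply (secEquiv W _).injective
    rw [secEquiv_comp, secEquiv_comp, AddEquiv.apply_symm_apply, AddEquiv.apply_symm_apply, hxy]
  have hac : (kernel T).Acyclic := fun i => by
    rw [(kernel T).exactAt_iff' (i - 1) i (i + 1) (by simp) (by simp)]
    refine exact_of_locally _ fun W b (hb : secMap ((kernel T).d i (i + 1)) W b = 0) => ?_
    refine ⟨⊤, J.top_mem W, fun W' k _ => ?_⟩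
    let y := seq i W' (secMap ((kernel.ι T).f i) W' (secRes ((kernel T).X i) k b))
    obtain ⟨g, hg0, hg⟩ := (acyclic_sections_iff L W' (s.1 W')
      fun i => haveI := hL i; surjective_telMap_sec W' (s.1 W') _).2 (h W') i y
      (by
        rw [← hseqT, ← secMap_comp, ← HomologicalComplex.comp_f, kernel.condition,
          HomologicalComplex.zero_f, secMap_zero]
        exact funext fun j => map_zero (secMap ((Pi.π I j).f i) W'))
      (fun j => by
        rw [← hseqd, ← secMap_comp, (kernel.ι T).comm, secMap_comp, secMap_secRes, hb, map_zero,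
          map_zero]
        exact map_zero (secMap ((Pi.π I j).f (i + 1)) W'))
    obtain ⟨g, rfl⟩ := (hseq (i - 1) W').2 g
    obtain ⟨a, ha⟩ := hker (i - 1) W' g ((hseq (i - 1) W').1
      ((hseqT _ _ _).trans (hg0.trans (funext fun j => (map_zero _).symm))))
    refine ⟨a, hinj i W' ((hseq i W').1 (funext fun j => ?_))⟩
    change seq i W' (secMap ((kernel.ι T).f i) W' (secMap ((kernel T).d (i - 1) i) W' a)) j = _
    rw [← secMap_comp ((kernel T).d (i - 1) i), ← (kernel.ι T).comm, secMap_comp, ha, hseqd]
    exact (hg j).symm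
  haveI : QuasiIso T := quasiIso_of_acyclic_kernel hS hac
  refine subsingleton_of_forall_eq 0 fun φ => ?_
  obtain ⟨g₀, rfl⟩ := DCat.Amplitude.exists_Q_map_eq
    (CochainComplex.IsKInjective.Qh_map_bijective _ _) φ
  let g : ℕ → (F ⟶ L) := Nat.rec g₀ fun _ x => inv (s • 𝟙 F) ≫ x
  have hT : Pi.lift g ≫ T = 0 := Pi.hom_ext _ _ fun k => by
    have hs : s • g (k + 1) = g k :=
      calc s • g (k + 1) = (s • 𝟙 F) ≫ g (k + 1) := by simp [Linear.smul_comp]
        _ = _ := IsIso.hom_inv_id_assoc _ _
    have hc : smulCx s L = s • 𝟙 L := by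
      ext i : 1
      exact (Category.comp_id _).symm
    simp [T, I, hc, Preadditive.comp_sub, Linear.comp_smul, hs]
  haveI : IsIso (DerivedCategory.Q.map T) := by
    rw [DerivedCategory.isIso_Q_map_iff_quasiIso]
    infer_instance
  have hz : DerivedCategory.Q.map (Pi.lift g : F ⟶ P) = 0 := by
    rw [← cancel_mono (DerivedCategory.Q.map T), ← Functor.map_comp, hT, Functor.map_zero, zero_comp]
  rw [show g₀ = (Pi.lift g : F ⟶ P) ≫ Pi.π I 0 from (Pi.lift_π g 0).symm, Functor.map_comp, hz, zero_comp]

end Groth.Agent.DerCompLib
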